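import Cfsg.Prelude.Def_GeometricClasses
import Cfsg.Agent.Lib.Classical.LinBasic

/-!
# Simple irreducible subgroups of the four-dimensional symplectic groups in characteristic two

The common setting: a simple irreducible group `P` of matrices preserving a nondegenerate alternating
form `B` on a four-dimensional space of characteristic two, and the three kinds of its involutions.
-/

set_option autoImplicit false
set_option linter.unusedSectionVars false

namespace Cfsg.Agent.SpFourEven

open Matrix Cfsg.Geo Module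

variable {ι : Type} [Fintype ι] [DecidableEq ι] {F : Type*} [Field F]

/-- The action on column vectors. -/
def act (g : GL ι F) (v : ι → F) : ι → F := (g : Matrix ι ι F) *ᵥ v

theorem act_mul (g h : GL ι F) (v : ι → F) : act (g * h) v = act g (act h v) := by
  simp [act, Matrix.mulVec_mulVec]

@[simp] theorem act_one (v : ι → F) : act (1 : GL ι F) v = v := by simp [act]

@[simp] theorem act_add (g : GL ι F) (v w : ι → F) : act g (v + w) = act g v + act g w :=
  Matrix.mulVec_add _ _ _

@[simp] theorem act_smul (g : GL ι F) (c : F) (v : ι → F) : act g (c • v) = c • act g v :=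
  Matrix.mulVec_smul _ _ _

@[simp] theorem act_zero (g : GL ι F) : act g 0 = 0 := Matrix.mulVec_zero _

theorem act_inv_act (g : GL ι F) (v : ι → F) : act g⁻¹ (act g v) = v := by
  rw [← act_mul, inv_mul_cancel, act_one]

theorem act_act_inv (g : GL ι F) (v : ι → F) : act g (act g⁻¹ v) = v := by
  rw [← act_mul, mul_inv_cancel, act_one]

theorem ext_act {g h : GL ι F} (e : ∀ v, act g v = act h v) : g = h :=
  Units.ext (Matrix.ext_iff_mulVec.2 e)

/-- A simple irreducible group of isometries of a four-dimensional symplectic space in characteristic two. -/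
structure Ctx (B : LinearMap.BilinForm F (ι → F)) (P : Subgroup (GL ι F)) : Prop where
  card : Fintype.card ι = 4
  two : (2 : F) = 0
  alt : ∀ v, B v v = 0
  nondeg : ∀ v, (∀ w, B v w = 0) → v = 0
  pres : ∀ g ∈ P, ∀ v w, B (act g v) (act g w) = B v w
  simple : IsSimpleGroup P
  nonab : ∃ x ∈ P, ∃ y ∈ P, x * y ≠ y * x
  irred : ActsIrreducibly (matrixSet P)

/-- `t` is the transvection with centre `a` and parameter `κ`. -/
def Tv (B : LinearMap.BilinForm F (ι → F)) (t : GL ι F) (a : ι → F) (κ : F) : Prop :=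
  ∀ x, act t x = x + (κ * B x a) • a

/-- `P` has no transvection. -/
def NoTransvection (B : LinearMap.BilinForm F (ι → F)) (P : Subgroup (GL ι F)) : Prop :=
  ∀ t ∈ P, ∀ a κ, Tv B t a κ → t = 1

/-- `t` moves some vector to one not orthogonal to it: for involutions of rank two, the type `c₂`. -/
def NonAlt (B : LinearMap.BilinForm F (ι → F)) (t : GL ι F) : Prop := ∃ x, B (act t x) x ≠ 0

/-- All involutions of `P` are of type `c₂`. -/
def AllNonAlt (B : LinearMap.BilinForm F (ι → F)) (P : Subgroup (GL ι F)) : Prop :=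
  NoTransvection B P ∧ ∀ t ∈ P, t * t = 1 → t ≠ 1 → NonAlt B t

variable {B : LinearMap.BilinForm F (ι → F)} {P : Subgroup (GL ι F)}

theorem Tv.smul {t : GL ι F} {a : ι → F} {κ : F} (c : F) (h : Tv B t (c • a) κ) :
    Tv B t a (κ * c * c) := fun x => by
  rw [h x, map_smul, smul_smul, smul_eq_mul]
  congr 2
  ring

theorem Tv.unique {s t : GL ι F} {a : ι → F} {κ : F} (hs : Tv B s a κ) (ht : Tv B t a κ) : s = t :=
  ext_act fun v => (hs v).trans (ht v).symm

theorem Tv.eq_one {t : GL ι F} {a : ι → F} (h : Tv B t a 0) : t = 1 :=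
  ext_act fun v => by rw [h v, zero_mul, zero_smul, add_zero, act_one]

variable (h : Ctx B P)
include h

theorem Ctx.add_self (v : ι → F) : v + v = 0 := by
  rw [← two_smul F v, h.two, zero_smul]

theorem Ctx.neg_eq (v : ι → F) : -v = v := neg_eq_of_add_eq_zero_left (h.add_self v)

theorem Ctx.sub_eq_add (x y : F) : x - y = x + y := by linear_combination (-y) * h.two

theorem Ctx.add_self_scalar (c : F) : c + c = 0 := by rw [← two_mul, h.two, zero_mul]

theorem Ctx.swap (v w : ι → F) : B v w = B w v := by
  have e := h.alt (v + w)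
  simp only [map_add, LinearMap.add_apply, h.alt, zero_add, add_zero] at e
  calc B v w = B v w + (B w v + B w v) := by rw [h.add_self_scalar, add_zero]
    _ = B w v := by rw [← add_assoc, add_comm (B v w), e, zero_add]

theorem Ctx.finrank_eq : finrank F (ι → F) = 4 := by rw [Module.finrank_pi, h.card]

theorem Ctx.pres_inv {g : GL ι F} (hg : g ∈ P) (v w : ι → F) :
    B (act g v) w = B v (act g⁻¹ w) := by
  conv_lhs => rw [← act_act_inv g w]
  rw [h.pres g hg]

theorem Ctx.tv_conj {t g : GL ι F} (hg : g ∈ P) {a : ι → F} {κ : F} (ht : Tv B t a κ) :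
    Tv B (g * t * g⁻¹) (act g a) κ := fun x => by
  rw [act_mul, act_mul, ht, act_add, act_smul, act_act_inv]
  congr 2
  rw [h.swap _ a, ← h.pres g hg a (act g⁻¹ x), act_act_inv, h.swap]

theorem Ctx.tv_sq {t : GL ι F} {a : ι → F} {κ : F} (ht : Tv B t a κ) : t * t = 1 :=
  ext_act fun v => by
    rw [act_mul, ht v, act_add, act_smul, ht v, ht a, h.alt, mul_zero, zero_smul, add_zero,
      add_assoc, h.add_self, add_zero, act_one]

theorem Ctx.tv_mul {s t u : GL ι F} {a : ι → F} {κ μ : F} (hs : Tv B s a κ) (ht : Tv B t a μ)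
    (hu : Tv B u a (κ + μ)) : s * t = u :=
  ext_act fun v => by
    rw [act_mul, ht v, act_add, act_smul, hs v, hs a, h.alt, mul_zero, zero_smul, add_zero, hu v,
      add_mul, add_smul, add_assoc]

/-- A class of a simple group generates it. -/
theorem Ctx.le_of_class {S : Subgroup (GL ι F)} {t : GL ι F} (ht : t ∈ P) (ht1 : t ≠ 1)
    (hS : ∀ g ∈ P, g * t * g⁻¹ ∈ S) : P ≤ S := by
  haveI := h.simple
  set t' : ↥P := ⟨t, ht⟩ with ht'
  have hN : Subgroup.normalClosure ({t'} : Set ↥P) = ⊤ :=
    ((inferInstance : (Subgroup.normalClosure ({t'} : Set ↥P)).Normal).eq_bot_or_eq_top).resolve_left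
      fun e => ?_
  swap
  · have h1 : t' ∈ Subgroup.normalClosure ({t'} : Set ↥P) :=
      Subgroup.subset_normalClosure (Set.mem_singleton t')
    rw [e, Subgroup.mem_bot] at h1
    exact ht1 (congrArg Subtype.val h1)
  have hle : Subgroup.normalClosure ({t'} : Set ↥P) ≤ S.comap P.subtype := by
    rw [Subgroup.normalClosure, Subgroup.closure_le]
    intro x hx
    obtain ⟨z, rfl, hc⟩ := Group.mem_conjugatesOfSet_iff.1 hx
    obtain ⟨c, rfl⟩ := isConj_iff.1 hc
    exact hS _ c.2
  intro x hx
  exact hle (hN ▸ Subgroup.mem_top (⟨x, hx⟩ : ↥P))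

/-- A vector fixed by a class of involutions would be fixed by everything. -/
theorem Ctx.no_fixed {v : ι → F} (hv : ∀ g ∈ P, act g v = v) : v = 0 := by
  by_contra hv0
  rcases h.irred (Submodule.span F {v}) (by
    rintro _ ⟨g, hg, rfl⟩
    rw [Submodule.map_span, Submodule.span_le]
    rintro _ ⟨w, rfl, rfl⟩
    rw [SetLike.mem_coe, Matrix.toLin'_apply]
    change act g w ∈ Submodule.span F {w}
    rw [hv g hg]
    exact Submodule.mem_span_singleton_self w) with e | e
  · exact hv0 (Submodule.span_singleton_eq_bot.1 e)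
  · have h1 := finrank_span_singleton (K := F) hv0
    rw [e, finrank_top, h.finrank_eq] at h1
    omega

/-- A subspace preserved by `P` is trivial or everything. -/
theorem Ctx.invariant {W : Submodule F (ι → F)} (hW : ∀ g ∈ P, ∀ v ∈ W, act g v ∈ W) :
    W = ⊥ ∨ W = ⊤ := h.irred W (by
  rintro _ ⟨g, hg, rfl⟩ _ ⟨v, hv, rfl⟩
  exact hW g hg v hv)

/-- An involution is a transvection or its fixed space is the Lagrangian image of `t - 1`. -/
theorem Ctx.invol_cases {t : GL ι F} (ht : t ∈ P) (ht2 : t * t = 1) :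
    (∃ a κ, Tv B t a κ) ∨ ∃ L : Submodule F (ι → F), finrank F L = 2 ∧
      (∀ v, v ∈ L ↔ act t v = v) ∧ (∀ x, x + act t x ∈ L) ∧
      (∀ v, v ∈ L ↔ ∀ w ∈ L, B v w = 0) ∧ ∀ w ∈ L, ∃ x, x + act t x = w := by
  set N : (ι → F) →ₗ[F] (ι → F) := Matrix.toLin' (t : Matrix ι ι F) + LinearMap.id with hN
  have hNv : ∀ x, N x = x + act t x := fun x => by
    rw [hN, LinearMap.add_apply, Matrix.toLin'_apply, LinearMap.id_apply, add_comm]; rfl
  have htt : ∀ x, act t (act t x) = x := fun x => by rw [← act_mul, ht2, act_one]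
  have hker : ∀ v, v ∈ LinearMap.ker N ↔ act t v = v := fun v => by
    rw [LinearMap.mem_ker, hNv]
    constructor
    · intro e
      rw [eq_neg_of_add_eq_zero_right e, h.neg_eq]
    · intro e
      rw [e, h.add_self]
  have hrk : LinearMap.range N ≤ LinearMap.ker N := by
    rintro _ ⟨x, rfl⟩
    rw [hker, hNv, act_add, htt, add_comm]
  have hsum := LinearMap.finrank_range_add_finrank_ker N
  rw [h.finrank_eq] at hsum
  have hle := Submodule.finrank_mono hrk
  have horth : ∀ v ∈ LinearMap.ker N, ∀ x, B v (N x) = 0 := fun v hv x => by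
    rw [hNv, map_add]
    conv_lhs => arg 2; rw [← (hker v).1 hv, h.pres t ht]
    exact h.add_self_scalar _
  by_cases h1 : finrank F (LinearMap.range N) ≤ 1
  · left
    obtain ⟨a, ha⟩ : ∃ a, ∀ y ∈ LinearMap.range N, ∃ c : F, c • a = y := by
      rcases em (LinearMap.range N = ⊥) with e | e
      · exact ⟨0, fun y hy => ⟨0, by rw [e, Submodule.mem_bot] at hy; simp [hy]⟩⟩
      · obtain ⟨a, ha, ha0⟩ := Submodule.exists_mem_ne_zero_of_ne_bot e
        refine ⟨a, fun y hy => Submodule.mem_span_singleton.1 ?_⟩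
        rwa [Submodule.eq_of_le_of_finrank_le ((Submodule.span_singleton_le_iff_mem a _).2 ha)
          (by rw [finrank_span_singleton ha0]; exact h1)]
    choose c hc using fun x => ha (N x) ⟨x, rfl⟩
    rcases eq_or_ne a 0 with rfl | ha0
    · refine ⟨0, 0, fun x => ?_⟩
      have h2 := hc x
      rw [smul_zero, eq_comm, ← LinearMap.mem_ker, hker] at h2
      simp [h2]
    obtain ⟨u, hu⟩ : ∃ u, B u a ≠ 0 := by
      by_contra hcon
      push Not at hcon
      exact ha0 (h.nondeg a fun w => by rw [h.swap]; exact hcon w)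
    refine ⟨a, c u / B u a, fun x => ?_⟩
    have hadj : B u (N x) = B (N u) x := by
      rw [hNv, hNv, map_add, map_add, LinearMap.add_apply]
      congr 1
      rw [← h.pres t ht u (act t x), htt]
    rw [← hc x, ← hc u, map_smul, map_smul, LinearMap.smul_apply, smul_eq_mul, smul_eq_mul] at hadj
    rw [show act t x = x + N x by rw [hNv, ← add_assoc, h.add_self, zero_add], ← hc x, h.swap x a]
    congr 2
    rw [div_mul_eq_mul_div, ← hadj, mul_div_assoc, div_self hu, mul_one]
  · right
    have hk2 : finrank F (LinearMap.ker N) = 2 := by omega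
    have heq : LinearMap.range N = LinearMap.ker N :=
      Submodule.eq_of_le_of_finrank_le hrk (by omega)
    refine ⟨LinearMap.ker N, hk2, hker, fun x => hNv x ▸ hrk ⟨x, rfl⟩, fun v => ⟨?_, fun hv => ?_⟩,
      fun w hw => ?_⟩
    · intro hv w hw
      rw [← heq] at hw
      obtain ⟨x, rfl⟩ := hw
      exact horth v hv x
    · rw [hker]
      by_contra hne
      refine hne ?_
      have h0 : ∀ y, B (v + act t v) y = 0 := fun y => by
        have h3 := hv (N y) (hrk ⟨y, rfl⟩)
        rw [hNv, map_add] at h3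
        rw [map_add, LinearMap.add_apply, ← h.pres t ht v y] at *
        rw [← h3]
        congr 1
        rw [← h.pres t ht v (act t y), htt]
      have := h.nondeg _ h0
      rw [eq_neg_of_add_eq_zero_right this, h.neg_eq]
    · rw [← heq] at hw
      obtain ⟨x, rfl⟩ := hw
      exact ⟨x, (hNv x).symm⟩

end Cfsg.Agent.SpFourEven
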