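import Cfsg.Agent.Lib.Classical.PThree.Span
import Cfsg.Agent.Lib.Classical.SpFourEven.Basic

/-!
# Traces in a subfield

An absolutely irreducible group whose traces are fixed by a field automorphism is realised over its fixed field.
-/

set_option autoImplicit false
set_option linter.unusedSectionVars false
set_option linter.style.haveILetI false

namespace Cfsg.Agent.SpFourEven

open Matrix Cfsg.Geo
open Cfsg.Agent.Classical (fixedField realisable_of_cyclic_intertwiner)

variable {ι : Type} [Fintype ι] [DecidableEq ι] [Nonempty ι] {F : Type*} [Field F]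

/-- Two representations with spanning images and equal traces are equivalent. -/
theorem intertwiner_of_traces {D : Type*} [Monoid D] (φ ψ : D →* Matrix ι ι F)
    (hφ : Submodule.span F (Set.range φ) = ⊤) (hψ : Submodule.span F (Set.range ψ) = ⊤)
    (htr : ∀ g, (φ g).trace = (ψ g).trace) :
    ∃ C : Matrix ι ι F, IsUnit C ∧ ∀ g, C * φ g = ψ g * C := by
  classical
  let i₀ : ι := Classical.arbitrary ι
  set Lφ := Finsupp.linearCombination F (fun g : D => φ g) with hLφ
  set Lψ := Finsupp.linearCombination F (fun g : D => ψ g) with hLψ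
  have hker : ∀ c, Lφ c = 0 → Lψ c = 0 := by
    intro c hc
    have h1 : ∀ B : Matrix ι ι F, (Lψ c * B).trace = 0 := by
      intro B
      have hB : B ∈ Submodule.span F (Set.range ψ) := by rw [hψ]; trivial
      induction hB using Submodule.span_induction with
      | mem x hx =>
        obtain ⟨k, rfl⟩ := hx
        have e := congrArg Matrix.trace (congrArg (· * φ k) hc)
        rw [Matrix.zero_mul, Matrix.trace_zero] at e
        simp only [hLφ, hLψ, Finsupp.linearCombination_apply, Finsupp.sum, Finset.sum_mul, Matrix.trace_sum,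
          Matrix.smul_mul, Matrix.trace_smul, ← map_mul] at e ⊢
        rw [← e]
        exact Finset.sum_congr rfl fun g _ => by rw [htr]
      | zero => rw [Matrix.mul_zero, Matrix.trace_zero]
      | add x y _ _ hx hy => rw [Matrix.mul_add, Matrix.trace_add, hx, hy, add_zero]
      | smul a x _ hx => rw [Matrix.mul_smul, Matrix.trace_smul, hx, smul_zero]
    refine Matrix.ext fun i j => ?_
    have h2 := h1 (Matrix.single j i 1)
    simpa [Matrix.trace_mul_single] using h2
  have hsurj : LinearMap.range Lφ = ⊤ := by rw [hLφ, Finsupp.range_linearCombination, hφ]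
  obtain ⟨s, hs⟩ := Lφ.exists_rightInverse_of_surjective hsurj
  set T := Lψ.comp s with hT
  have hTφ : ∀ g, T (φ g) = ψ g := by
    intro g
    have e1 : Lφ (s (φ g) - Finsupp.single g 1) = 0 := by
      rw [map_sub, show Lφ (s (φ g)) = φ g from LinearMap.congr_fun hs (φ g), hLφ,
        Finsupp.linearCombination_single, one_smul, sub_self]
    have e2 := hker _ e1
    rw [map_sub, hLψ, Finsupp.linearCombination_single, one_smul, sub_eq_zero] at e2
    exact e2
  have hmul : ∀ A B, T (A * B) = T A * T B := by
    intro A B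
    have hA : A ∈ Submodule.span F (Set.range φ) := by rw [hφ]; trivial
    induction hA using Submodule.span_induction with
    | mem x hx =>
      obtain ⟨g, rfl⟩ := hx
      have hB : B ∈ Submodule.span F (Set.range φ) := by rw [hφ]; trivial
      induction hB using Submodule.span_induction with
      | mem y hy =>
        obtain ⟨k, rfl⟩ := hy
        rw [← map_mul, hTφ, hTφ, hTφ, map_mul]
      | zero => rw [Matrix.mul_zero, map_zero, Matrix.mul_zero]
      | add x y _ _ hx hy => rw [Matrix.mul_add, map_add, hx, hy, map_add, Matrix.mul_add]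
      | smul a x _ hx => rw [Matrix.mul_smul, map_smul, hx, map_smul, Matrix.mul_smul]
    | zero => rw [Matrix.zero_mul, map_zero, Matrix.zero_mul]
    | add x y _ _ hx hy => rw [Matrix.add_mul, map_add, hx, hy, map_add, Matrix.add_mul]
    | smul a x _ hx => rw [Matrix.smul_mul, map_smul, hx, map_smul, Matrix.smul_mul]
  have hone : T 1 = 1 := by rw [← map_one φ, hTφ, map_one, map_one]
  obtain ⟨u, hu⟩ : ∃ u : ι → F, T (Matrix.single i₀ i₀ 1) *ᵥ u ≠ 0 := by
    by_contra hno
    push Not at hno
    have h0 : T (Matrix.single i₀ i₀ 1) = 0 :=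
      Matrix.ext_of_mulVec_single fun k => by rw [hno, Matrix.zero_mulVec]
    have h1 : ∀ i : ι, T (Matrix.single i i 1) = 0 := fun i => by
      rw [show (Matrix.single i i (1 : F)) = Matrix.single i i₀ 1 * Matrix.single i₀ i₀ 1 * Matrix.single i₀ i 1 by
        simp, hmul, hmul, h0, Matrix.mul_zero, Matrix.zero_mul]
    refine one_ne_zero (α := Matrix ι ι F) ?_
    rw [← hone, show (1 : Matrix ι ι F) = ∑ i, Matrix.single i i 1 by
      exact (Matrix.sum_single_eq_diagonal (1 : ι → F)).symm.trans (by simp), map_sum]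
    exact Finset.sum_eq_zero fun i _ => h1 i
  let C : Matrix ι ι F := Matrix.of fun r i => (T (Matrix.single i i₀ 1) *ᵥ u) r
  have hC : ∀ g, C * φ g = ψ g * C := by
    intro g
    ext r i
    have e : φ g * Matrix.single i i₀ 1 = ∑ k, φ g k i • Matrix.single k i₀ 1 := by
      ext a b
      rw [Matrix.sum_apply]
      by_cases hb : b = i₀
      · subst hb
        simp [Matrix.single_apply, Matrix.mul_apply]
      · simp [Matrix.single_apply, Ne.symm hb, Matrix.mul_apply]
    have e1 := congrArg (fun A : Matrix ι ι F => (T A *ᵥ u) r) e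
    simp only [hmul, hTφ, map_sum, map_smul, Matrix.sum_mulVec, Matrix.smul_mulVec, Finset.sum_apply,
      Pi.smul_apply, smul_eq_mul, ← Matrix.mulVec_mulVec] at e1
    have e2 : (ψ g * C) r i = (ψ g *ᵥ (T (Matrix.single i i₀ 1) *ᵥ u)) r := rfl
    rw [e2, e1, Matrix.mul_apply]
    exact Finset.sum_congr rfl fun k _ => mul_comm _ _
  have hC0 : C ≠ 0 := fun e => hu (funext fun r => congrFun (congrFun e r) i₀)
  refine ⟨C, Matrix.mulVec_injective_iff_isUnit.1 fun a b hab => sub_eq_zero.1 ?_, hC⟩
  by_contra hv
  refine hC0 (Matrix.ext_of_mulVec_single fun k => ?_)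
  rw [Matrix.zero_mulVec]
  have hkill : ∀ A : Matrix ι ι F, C *ᵥ (A *ᵥ (a - b)) = 0 := by
    intro A
    have hA : A ∈ Submodule.span F (Set.range φ) := by rw [hφ]; trivial
    induction hA using Submodule.span_induction with
    | mem x hx =>
      obtain ⟨g, rfl⟩ := hx
      rw [Matrix.mulVec_mulVec, hC, ← Matrix.mulVec_mulVec, Matrix.mulVec_sub, hab, sub_self, Matrix.mulVec_zero]
    | zero => rw [Matrix.zero_mulVec, Matrix.mulVec_zero]
    | add x y _ _ hx hy => rw [Matrix.add_mulVec, Matrix.mulVec_add, hx, hy, add_zero]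
    | smul c x _ hx => rw [Matrix.smul_mulVec, Matrix.mulVec_smul, hx, smul_zero]
  obtain ⟨l, hl⟩ := Function.ne_iff.1 hv
  have h3 := hkill (Matrix.single k l ((a - b) l)⁻¹)
  rwa [Matrix.single_mulVec, show Function.update (0 : ι → F) k (((a - b) l)⁻¹ * (a - b) l) = Pi.single k 1 by
    rw [inv_mul_cancel₀ hl]; rfl] at h3

/-- The matrices of an absolutely irreducible group span. -/
theorem span_matrices {P : Subgroup (GL ι F)} (hP : ActsAbsolutelyIrreducibly (matrixSet P)) :
    Submodule.span F (Set.range fun x : P => ((x : GL ι F) : Matrix ι ι F)) = ⊤ := by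
  classical
  set e := Fintype.equivFin ι
  let Φ := Matrix.reindexAlgEquiv F F e
  let σ : P →* Matrix (Fin (Fintype.card ι)) (Fin (Fintype.card ι)) F :=
    (Φ.toMonoidHom.comp (Units.coeHom _)).comp P.subtype
  have hvec : ∀ (x : P) (v : Fin (Fintype.card ι) → F),
      σ x *ᵥ v = (((x : GL ι F) : Matrix ι ι F) *ᵥ (v ∘ e)) ∘ e.symm := fun x v => by
    show (Matrix.reindex e e ((x : GL ι F) : Matrix ι ι F)) *ᵥ v = _
    rw [Matrix.reindex_apply, Matrix.submatrix_mulVec_equiv, Equiv.symm_symm]
  have h1 := PThree.span_eq_top_of_irreducible σ (fun W hW => ?_) (fun f hf => ?_)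
  · have h2 : Submodule.map Φ.toLinearMap
        (Submodule.span F (Set.range fun x : P => ((x : GL ι F) : Matrix ι ι F))) = ⊤ := by
      rw [Submodule.map_span, ← Set.range_comp]
      exact h1
    rw [eq_top_iff]
    intro A _
    obtain ⟨A', hA', hAA⟩ := Submodule.mem_map.1 (h2 ▸ Submodule.mem_top : Φ A ∈ _)
    exact Φ.injective hAA ▸ hA'
  · let W' : Submodule F (ι → F) := W.comap (LinearMap.funLeft F F e.symm)
    have hW' : W' = ⊥ ∨ W' = ⊤ := hP.1 W' (by
      rintro _ ⟨x, hx, rfl⟩ _ ⟨v, hv, rfl⟩
      show (((x : Matrix ι ι F)).toLin' v) ∘ e.symm ∈ W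
      have h3 := hW ⟨x, hx⟩ (v ∘ e.symm) hv
      rw [hvec, Function.comp_assoc, Equiv.symm_comp_self, Function.comp_id] at h3
      exact h3)
    have hmem : ∀ v, v ∈ W ↔ v ∘ e ∈ W' := fun v => by
      show v ∈ W ↔ (v ∘ e) ∘ e.symm ∈ W
      rw [Function.comp_assoc, Equiv.self_comp_symm, Function.comp_id]
    rcases hW' with h' | h'
    · refine Or.inl ((Submodule.eq_bot_iff W).2 fun v hv => funext fun k => ?_)
      have h4 := (hmem v).1 hv
      rw [h', Submodule.mem_bot] at h4
      simpa using congrFun h4 (e.symm k)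
    · exact Or.inr (eq_top_iff.2 fun v _ => (hmem v).2 (h' ▸ Submodule.mem_top))
  · let f' : (ι → F) →ₗ[F] (ι → F) :=
      (LinearMap.funLeft F F e).comp (f.comp (LinearMap.funLeft F F e.symm))
    have hf'v : ∀ v, f' v = f (v ∘ e.symm) ∘ e := fun v => rfl
    obtain ⟨c, hc⟩ := hP.2 (LinearMap.toMatrix' f') (by
      rintro _ ⟨x, hx, rfl⟩
      refine Matrix.ext_of_mulVec_single fun k => ?_
      rw [← Matrix.mulVec_mulVec, ← Matrix.mulVec_mulVec, LinearMap.toMatrix'_mulVec,
        LinearMap.toMatrix'_mulVec, hf'v, hf'v]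
      have h5 := congrArg (· ∘ e) (hf ⟨x, hx⟩ ((Pi.single k (1 : F)) ∘ e.symm))
      simp only [hvec, Function.comp_assoc, Equiv.symm_comp_self, Function.comp_id] at h5
      exact h5)
    refine ⟨c, fun a => ?_⟩
    have h6 := LinearMap.toMatrix'_mulVec f' (a ∘ e)
    rw [hc, Matrix.smul_mulVec, Matrix.one_mulVec, hf'v, Function.comp_assoc, Equiv.self_comp_symm,
      Function.comp_id] at h6
    funext k
    simpa using (congrFun h6 (e.symm k)).symm

/-- Traces fixed by a field automorphism: realised over its fixed field. -/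
theorem realisable_of_traces [Fintype F] {P : Subgroup (GL ι F)}
    (hP : ActsAbsolutelyIrreducibly (matrixSet P)) (τ : F ≃+* F)
    (htr : ∀ g ∈ P, τ ((g : Matrix ι ι F).trace) = (g : Matrix ι ι F).trace) :
    RealisableOver (fixedField τ) (matrixSet P) := by
  classical
  let incl : P →* Matrix ι ι F := (Units.coeHom _).comp P.subtype
  let φ : P →* Matrix ι ι F := (RingHom.mapMatrix (τ : F →+* F)).toMonoidHom.comp incl
  have hspan : Submodule.span F (Set.range incl) = ⊤ := span_matrices hP
  have hφ : Submodule.span F (Set.range φ) = ⊤ := by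
    rw [eq_top_iff]
    intro A _
    have key : ∀ M ∈ Submodule.span F (Set.range incl), M.map τ ∈ Submodule.span F (Set.range φ) := by
      intro M hM
      induction hM using Submodule.span_induction with
      | mem x hx =>
        obtain ⟨g, rfl⟩ := hx
        exact Submodule.subset_span ⟨g, rfl⟩
      | zero => rw [Matrix.map_zero _ (map_zero τ)]; exact zero_mem _
      | add x y _ _ hx hy => rw [Matrix.map_add _ (map_add τ)]; exact add_mem hx hy
      | smul c x _ hx =>
        rw [show (c • x).map τ = τ c • x.map τ by ext; simp]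
        exact Submodule.smul_mem _ _ hx
    have e := key (A.map τ.symm) (by rw [hspan]; trivial)
    rwa [show (A.map τ.symm).map τ = A by ext; simp] at e
  obtain ⟨C, hC, hx⟩ := intertwiner_of_traces φ incl hφ hspan fun g => by
    show (((g : GL ι F) : Matrix ι ι F).map τ).trace = _
    rw [show (((g : GL ι F) : Matrix ι ι F).map τ).trace = τ ((g : GL ι F) : Matrix ι ι F).trace by
      simp [Matrix.trace, map_sum]]
    exact htr g g.2
  exact realisable_of_cyclic_intertwiner hP hC fun x hxP => hx ⟨x, hxP⟩

end Cfsg.Agent.SpFourEven
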