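import Cfsg.Agent.Lib.Classical.SpFourEven.AltSixThree
import Cfsg.Agent.Lib.Classical.SpFourEven.Realise
import Cfsg.Agent.Lib.Classical.PThree.FieldGroups

/-!
# No alternating group of degree six over a larger field

All traces of such a group lie in the field of two elements.
-/

set_option autoImplicit false
set_option linter.unusedSectionVars false
set_option linter.style.haveILetI false

namespace Cfsg.Agent.SpFourEven

open Matrix Cfsg.Geo Module

/-- Two commuting elements of order three and their partners for order five. -/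
theorem altSix_pairs : ∃ b c : alternatingGroup (Fin 6), b ^ 3 = 1 ∧ c ^ 3 = 1 ∧ b * c = c * b ∧
    b ≠ 1 ∧ c ≠ 1 ∧ b * c ≠ 1 ∧ b * c ^ 2 ≠ 1 ∧
    ∀ x ∈ [b, c, b * c, b * c ^ 2], ∃ a : alternatingGroup (Fin 6),
      a * a = 1 ∧ (a * x) ^ 5 = 1 ∧ a * x ≠ 1 := by
  let p : alternatingGroup (Fin 6) := ⟨Equiv.swap 1 3 * Equiv.swap 2 4,
    Equiv.Perm.mem_alternatingGroup.2 (by decide +kernel)⟩
  let q : alternatingGroup (Fin 6) := ⟨Equiv.swap 2 3 * Equiv.swap 4 5,
    Equiv.Perm.mem_alternatingGroup.2 (by decide +kernel)⟩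
  let b : alternatingGroup (Fin 6) := ⟨Equiv.swap 0 1 * Equiv.swap 1 2,
    Equiv.Perm.mem_alternatingGroup.2 (by decide +kernel)⟩
  let c : alternatingGroup (Fin 6) := ⟨Equiv.swap 3 4 * Equiv.swap 4 5,
    Equiv.Perm.mem_alternatingGroup.2 (by decide +kernel)⟩
  have e1 : b ^ 3 = 1 ∧ c ^ 3 = 1 ∧ b * c = c * b ∧ b ≠ 1 ∧ c ≠ 1 ∧ b * c ≠ 1 ∧ b * c ^ 2 ≠ 1 := by
    decide +kernel
  have f1 : p * p = 1 ∧ (p * b) ^ 5 = 1 ∧ p * b ≠ 1 := by decide +kernel
  have f2 : p * p = 1 ∧ (p * c) ^ 5 = 1 ∧ p * c ≠ 1 := by decide +kernel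
  have f3 : q * q = 1 ∧ (q * (b * c)) ^ 5 = 1 ∧ q * (b * c) ≠ 1 := by decide +kernel
  have f4 : q * q = 1 ∧ (q * (b * c ^ 2)) ^ 5 = 1 ∧ q * (b * c ^ 2) ≠ 1 := by decide +kernel
  refine ⟨b, c, e1.1, e1.2.1, e1.2.2.1, e1.2.2.2.1, e1.2.2.2.2.1, e1.2.2.2.2.2.1, e1.2.2.2.2.2.2,
    fun x hx => ?_⟩
  simp only [List.mem_cons, List.not_mem_nil, or_false] at hx
  rcases hx with rfl | rfl | rfl | rfl
  · exact ⟨p, f1⟩
  · exact ⟨p, f2⟩
  · exact ⟨q, f3⟩
  · exact ⟨q, f4⟩

variable {ι : Type} [Fintype ι] [DecidableEq ι] {F : Type*} [Field F] [Fintype F]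
  {B : LinearMap.BilinForm F (ι → F)} {P : Subgroup (GL ι F)}

/-- The alternating group of degree six does not occur. -/
theorem Ctx.false_of_alt_six (h : Ctx B P) (habs : ActsAbsolutelyIrreducibly (matrixSet P))
    (hns : ∀ F0 : Subfield F, F0 ≠ ⊤ → ¬ RealisableOver F0 (matrixSet P))
    (h4 : 4 ≤ Fintype.card F) (e : P ≃* alternatingGroup (Fin 6)) : False := by
  classical
  haveI : Nonempty ι := Fintype.card_pos_iff.1 (by rw [h.card]; norm_num)
  haveI : CharP F 2 := CharTwo.of_one_ne_zero_of_two_eq_zero one_ne_zero h.two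
  haveI : Fact (Nat.Prime 2) := ⟨Nat.prime_two⟩
  haveI : Fact (Nat.Prime 5) := ⟨by norm_num⟩
  obtain ⟨b, c, hb3, hc3, hbc, hb1, hc1, hbc1, hbc2, hax⟩ := altSix_pairs
  let j : alternatingGroup (Fin 6) →* GL ι F := P.subtype.comp e.symm.toMonoidHom
  have hjinj : Function.Injective j := fun x y hxy => e.symm.injective (Subtype.ext hxy)
  have hj1 : ∀ x, x ≠ 1 → j x ≠ 1 := fun x hx hjx => hx (hjinj (hjx.trans (map_one j).symm))
  have hjP : ∀ x, j x ∈ P := fun x => (e.symm x).2
  obtain ⟨x, hx, hfix⟩ := h.exists_fpf (hjP b) (hjP c) (by rw [← map_pow, hb3, map_one])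
    (by rw [← map_pow, hc3, map_one]) (by rw [← map_mul, hbc, map_mul]) (hj1 b hb1) (hj1 c hc1)
    (by rw [← map_mul]; exact hj1 _ hbc1) (by rw [← map_pow, ← map_mul]; exact hj1 _ hbc2)
  obtain ⟨x₀, hx₀, rfl⟩ : ∃ x₀ ∈ [b, c, b * c, b * c ^ 2], j x₀ = x := by
    simp only [Set.mem_insert_iff, Set.mem_singleton_iff] at hx
    rcases hx with rfl | rfl | rfl | rfl
    · exact ⟨b, by simp, rfl⟩
    · exact ⟨c, by simp, rfl⟩
    · exact ⟨b * c, by simp, map_mul j b c⟩
    · exact ⟨b * c ^ 2, by simp, by rw [map_mul, map_pow]⟩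
  obtain ⟨a, ha2, ha5, ha1⟩ := hax x₀ hx₀
  -- an element of order five without fixed vectors
  have hg0 : ∀ v, act (j (a * x₀)) v = v → v = 0 := fun v hv => by
    rw [map_mul] at hv
    exact h.five_fpf (by rw [← map_mul, ha2, map_one]) hfix
      (by rw [← map_mul, ← map_pow, ha5, map_one]) v hv
  set g₀ := a * x₀
  have hord : orderOf g₀ = 5 := orderOf_eq_prime ha5 ha1
  have hA : Nat.card (alternatingGroup (Fin 6)) = 360 := by
    rw [nat_card_alternatingGroup, Nat.card_fin]; rfl
  have hfive : ∀ y : alternatingGroup (Fin 6), y ^ 5 = 1 → y ≠ 1 →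
      ∀ v, act (j y) v = v → v = 0 := by
    intro y hy hy1 v hv
    have hordy : orderOf y = 5 := orderOf_eq_prime hy hy1
    have hfac : (Nat.card (alternatingGroup (Fin 6))).factorization 5 = 1 := by
      rw [hA, show 360 = 5 ^ 1 * 72 by norm_num, Nat.factorization_mul (by norm_num) (by norm_num),
        Finsupp.add_apply, Nat.Prime.factorization_pow (by norm_num), Finsupp.single_eq_same,
        Nat.factorization_eq_zero_of_not_dvd (by norm_num)]
    have syl : ∀ z : alternatingGroup (Fin 6), orderOf z = 5 →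
        ∃ S : Sylow 5 (alternatingGroup (Fin 6)), (S : Subgroup _) = Subgroup.zpowers z := fun z hz => by
      have hp : IsPGroup 5 (Subgroup.zpowers z) :=
        IsPGroup.of_card (n := 1) (by rw [Nat.card_zpowers, hz, pow_one])
      obtain ⟨S, hS⟩ := hp.exists_le_sylow
      refine ⟨S, (Subgroup.eq_of_le_of_card_ge hS ?_).symm⟩
      rw [S.card_eq_multiplicity, hfac, Nat.card_zpowers, hz, pow_one]
    obtain ⟨S, hS⟩ := syl g₀ hord
    obtain ⟨T, hT⟩ := syl y hordy
    obtain ⟨k, hk⟩ := MulAction.exists_smul_eq (alternatingGroup (Fin 6)) T S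
    have hmem : k * y * k⁻¹ ∈ Subgroup.zpowers g₀ := by
      rw [← hS, ← hk, Sylow.coe_subgroup_smul]
      exact ⟨y, by rw [hT]; exact Subgroup.mem_zpowers y, rfl⟩
    -- the fixed vector of `y` gives one of `g₀`
    have hy' : orderOf (k * y * k⁻¹) = 5 := by
      rw [← hordy]
      exact orderOf_injective (MulAut.conj k).toMonoidHom (MulAut.conj k).injective y
    have hzp : Subgroup.zpowers (k * y * k⁻¹) = Subgroup.zpowers g₀ :=
      Subgroup.eq_of_le_of_card_ge (Subgroup.zpowers_le.2 hmem) (by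
        rw [Nat.card_zpowers, Nat.card_zpowers, hy', hord])
    obtain ⟨i, hi⟩ : g₀ ∈ Submonoid.powers (k * y * k⁻¹) :=
      mem_powers_iff_mem_zpowers.2 (hzp ▸ Subgroup.mem_zpowers g₀)
    have hw : ∀ n : ℕ, act (j ((k * y * k⁻¹) ^ n)) (act (j k) v) = act (j k) v := by
      intro n
      induction n with
      | zero => rw [pow_zero, map_one, act_one]
      | succ n ih =>
        rw [pow_succ, map_mul, act_mul, map_mul, map_mul, map_inv, act_mul, act_mul, act_inv_act, hv,
          ih]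
    have hi' : (k * y * k⁻¹) ^ i = g₀ := hi
    have h1 := hg0 (act (j k) v) (hi' ▸ hw i)
    rw [← act_inv_act (j k) v, h1, act_zero]
  -- all traces are rational
  have htr : ∀ g ∈ P, ((g : Matrix ι ι F).trace) ^ 2 = (g : Matrix ι ι F).trace := by
    intro g hg
    obtain ⟨y, rfl⟩ : ∃ y, j y = g :=
      ⟨e ⟨g, hg⟩, congrArg Subtype.val (e.symm_apply_apply ⟨g, hg⟩)⟩
    have hsq : ((j y ^ 2 : GL ι F) : Matrix ι ι F).trace = ((j y : Matrix ι ι F).trace) ^ 2 := by
      rw [Units.val_pow_eq_pow_val]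
      simpa using PThree.trace_pow_char_pow 2 (j y : Matrix ι ι F) 1
    rcases PThree.altSix_orders y with h3 | hfour | h5
    · have hi : j y ^ 2 = (j y)⁻¹ := eq_inv_of_mul_eq_one_left (by
        rw [← pow_succ, ← map_pow, h3, map_one])
      rw [← hsq, hi, h.trace_inv hg]
    · have h0 : ((j y : Matrix ι ι F).trace) ^ 4 = 0 := by
        have e4 := PThree.trace_pow_char_pow 2 (j y : Matrix ι ι F) 2
        rw [show (2 : ℕ) ^ 2 = 4 by norm_num, ← Units.val_pow_eq_pow_val, ← map_pow, hfour, map_one,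
          Units.val_one, Matrix.trace_one, h.card] at e4
        rw [← e4]
        push_cast
        linear_combination (2 : F) * h.two
      rw [pow_eq_zero_iff (by norm_num)] at h0
      rw [h0]; simp
    · by_cases hy1 : y = 1
      · rw [hy1, map_one, Units.val_one, Matrix.trace_one, h.card]
        push_cast
        linear_combination (6 : F) * h.two
      · have e5 := h.trace_five hg (by rw [← map_pow, h5, map_one]) (hfive y h5 hy1)
        rw [hsq] at e5
        linear_combination e5 - (j y : Matrix ι ι F).trace * h.two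
  -- the group is realised over two elements
  set τ : F ≃+* F := frobeniusEquiv F 2 with hτ
  refine hns (Classical.fixedField τ) (fun etop => ?_)
    (realisable_of_traces habs τ fun g hg => by rw [hτ, frobeniusEquiv_apply, frobenius_def]; exact htr g hg)
  have hsub : (Finset.univ : Finset F) ⊆ {0, 1} := fun z _ => by
    have hz : z ∈ Classical.fixedField τ := etop ▸ Subfield.mem_top z
    have hz' : τ z = z := hz
    rw [hτ, frobeniusEquiv_apply, frobenius_def] at hz'
    rcases mul_eq_zero.1 (show z * (z - 1) = 0 by linear_combination hz') with e0 | e1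
    · simp [e0]
    · simp [sub_eq_zero.1 e1]
  have := Finset.card_le_card hsub
  rw [Finset.card_univ] at this
  have h2 := Finset.card_le_two (a := (0 : F)) (b := 1)
  omega

end Cfsg.Agent.SpFourEven
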