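import Cfsg.Agent.Lib.Classical.SpFourEven.Pair

/-!
# Elements of order three and five: traces and fixed vectors
-/

set_option autoImplicit false
set_option linter.unusedSectionVars false
set_option linter.style.haveILetI false
set_option linter.deprecated false

namespace Cfsg.Agent.SpFourEven

open Matrix Cfsg.Geo Module

variable {ι : Type} [Fintype ι] [DecidableEq ι] {F : Type*} [Field F]
  {B : LinearMap.BilinForm F (ι → F)} {P : Subgroup (GL ι F)}

section Ring

variable {R : Type*} [CommRing R]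

/-- `1 + x + x²`, the projection to the fixed space of an element of order three. -/
def proj (x : R) : R := 1 + x + x * x

theorem mul_proj {x : R} (hx : x * x * x = 1) : x * proj x = proj x := by
  unfold proj
  linear_combination hx

theorem proj_mul_mul {u v : R} (hu : u * u * u = 1) : proj u * proj (u * v) = proj u * proj v := by
  have h := mul_proj hu
  unfold proj at h ⊢
  linear_combination (v + v * v * (1 + u)) * h

theorem proj_idem (h2 : (2 : R) = 0) {x : R} (hx : x * x * x = 1) : proj x * proj x = proj x := by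
  have h := mul_proj hx
  unfold proj at h ⊢
  linear_combination (2 + x) * h + (1 + x + x * x) * h2

theorem proj_sq {x : R} (hx : x * x * x = 1) : proj (x * x) = proj x := by
  unfold proj
  linear_combination x * hx

theorem proj_eq_one (h2 : (2 : R) = 0) {x : R} (hx : x * x * x = 1) (h : proj x = 1) : x = 1 := by
  unfold proj at h
  linear_combination (x * x) * h - (x + 1) * hx - h2

end Ring

/-- Self-adjoint matrices. -/
def SelfAdj (B : LinearMap.BilinForm F (ι → F)) (M : Matrix ι ι F) : Prop :=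
  ∀ u v, B (M *ᵥ u) v = B u (M *ᵥ v)

theorem SelfAdj.add {M N : Matrix ι ι F} (hM : SelfAdj B M) (hN : SelfAdj B N) : SelfAdj B (M + N) :=
  fun u v => by simp [Matrix.add_mulVec, hM u v, hN u v]

theorem SelfAdj.mul {M N : Matrix ι ι F} (hM : SelfAdj B M) (hN : SelfAdj B N) (hc : M * N = N * M) :
    SelfAdj B (M * N) := fun u v => by
  rw [← Matrix.mulVec_mulVec, hM, hN, Matrix.mulVec_mulVec, hc]

variable (h : Ctx B P)
include h

theorem Ctx.exists_frame : ∃ e₁ f₁ e₂ f₂ : ι → F, B e₁ f₁ = 1 ∧ B e₂ f₂ = 1 ∧ B e₁ e₂ = 0 ∧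
    B e₁ f₂ = 0 ∧ B f₁ e₂ = 0 ∧ B f₁ f₂ = 0 := by
  have pair : ∀ e : ι → F, e ≠ 0 → ∃ w, B e w = 1 := fun e he => by
    obtain ⟨w, hw⟩ : ∃ w, B e w ≠ 0 := by
      by_contra hno
      push Not at hno
      exact he (h.nondeg e hno)
    exact ⟨(B e w)⁻¹ • w, by rw [map_smul, smul_eq_mul, inv_mul_cancel₀ hw]⟩
  haveI : Nonempty ι := Fintype.card_pos_iff.1 (by rw [h.card]; norm_num)
  obtain ⟨e₁, he₁⟩ := exists_ne (0 : ι → F)
  obtain ⟨f₁, h1⟩ := pair e₁ he₁
  obtain ⟨e₂, he₂, hA, hB'⟩ : ∃ u, u ≠ 0 ∧ B u e₁ = 0 ∧ B u f₁ = 0 := by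
    let Φ : (ι → F) →ₗ[F] F × F := (B.flip e₁ : (ι → F) →ₗ[F] F).prod (B.flip f₁)
    have hk : LinearMap.ker Φ ≠ ⊥ := fun hk => by
      have := LinearMap.finrank_le_finrank_of_injective (LinearMap.ker_eq_bot.1 hk)
      rw [h.finrank_eq, Module.finrank_prod, Module.finrank_self] at this
      omega
    obtain ⟨u, hu, hu0⟩ := Submodule.exists_mem_ne_zero_of_ne_bot hk
    rw [LinearMap.mem_ker] at hu
    exact ⟨u, hu0, congrArg Prod.fst hu, congrArg Prod.snd hu⟩
  obtain ⟨w, hw⟩ := pair e₂ he₂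
  have hfe : B f₁ e₁ = 1 := by rw [h.swap, h1]
  refine ⟨e₁, f₁, e₂, w + (B w f₁ • e₁ + B w e₁ • f₁), h1, ?_, by rw [h.swap, hA], ?_,
    by rw [h.swap, hB'], ?_⟩
  · simp [hw, hA, hB']
  · simp [h.alt, h1, h.swap e₁ w, h.add_self_scalar]
  · simp [h.alt, hfe, h.swap f₁ w, h.add_self_scalar]

theorem Ctx.trace_frame {e₁ f₁ e₂ f₂ : ι → F} (h1 : B e₁ f₁ = 1) (h2 : B e₂ f₂ = 1) (h12 : B e₁ e₂ = 0)
    (h14 : B e₁ f₂ = 0) (h32 : B f₁ e₂ = 0) (h34 : B f₁ f₂ = 0) (M : Matrix ι ι F) :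
    M.trace = B (M *ᵥ e₁) f₁ + B (M *ᵥ f₁) e₁ + (B (M *ᵥ e₂) f₂ + B (M *ᵥ f₂) e₂) := by
  let v : Fin 4 → ι → F := ![e₁, f₁, e₂, f₂]
  have hexp : ∀ x, x = ∑ i, ![B x f₁, B x e₁, B x f₂, B x e₂] i • v i := fun x => by
    rw [Fin.sum_univ_four]
    conv_lhs => rw [h.frame h1 h2 h12 h14 h32 h34 x]
    simp only [v, Matrix.cons_val_zero, Matrix.cons_val_one, Matrix.cons_val]
    abel
  have hspan : ⊤ ≤ Submodule.span F (Set.range v) := fun x _ => by
    rw [hexp x]
    exact Submodule.sum_mem _ fun i _ => Submodule.smul_mem _ _ (Submodule.subset_span ⟨i, rfl⟩)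
  let bas := basisOfTopLeSpanOfCardEqFinrank v hspan (by rw [Fintype.card_fin, h.finrank_eq])
  have hbas : ⇑bas = v := coe_basisOfTopLeSpanOfCardEqFinrank v hspan _
  have hrepr : ∀ x i, bas.repr x i = ![B x f₁, B x e₁, B x f₂, B x e₂] i := fun x i => by
    conv_lhs => rw [hexp x, ← hbas]
    rw [bas.repr_sum_self]
  rw [← Matrix.trace_toLin'_eq, LinearMap.trace_eq_matrix_trace F bas, Matrix.trace,
    Fin.sum_univ_four]
  simp only [Matrix.diag_apply, LinearMap.toMatrix_apply, hrepr, hbas, Matrix.toLin'_apply, v,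
    Matrix.cons_val_zero, Matrix.cons_val_one, Matrix.cons_val]
  abel

theorem Ctx.trace_inv {g : GL ι F} (hg : g ∈ P) :
    ((g⁻¹ : GL ι F) : Matrix ι ι F).trace = (g : Matrix ι ι F).trace := by
  obtain ⟨e₁, f₁, e₂, f₂, h1, h2, h12, h14, h32, h34⟩ := h.exists_frame
  have key : ∀ u v, B (((g⁻¹ : GL ι F) : Matrix ι ι F) *ᵥ u) v = B ((g : Matrix ι ι F) *ᵥ v) u :=
    fun u v => by
      show B (act g⁻¹ u) v = B (act g v) u
      rw [h.swap (act g v), h.pres_inv (P.inv_mem hg), inv_inv]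
  rw [h.trace_frame h1 h2 h12 h14 h32 h34, h.trace_frame h1 h2 h12 h14 h32 h34 (g : Matrix ι ι F),
    key, key, key, key]
  ring

/-- An element of order five without fixed vectors has rational trace. -/
theorem Ctx.trace_five {g : GL ι F} (hg : g ∈ P) (h5 : g ^ 5 = 1) (hfix : ∀ v, act g v = v → v = 0) :
    (g : Matrix ι ι F).trace + ((g ^ 2 : GL ι F) : Matrix ι ι F).trace = 0 := by
  obtain ⟨e₁, f₁, e₂, f₂, h1, h2, h12, h14, h32, h34⟩ := h.exists_frame
  have hsum : ∀ v, act g v + act (g ^ 2) v + act (g ^ 3) v + act (g ^ 4) v = v := by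
    intro v
    have h0 := hfix (v + act g v + act (g ^ 2) v + act (g ^ 3) v + act (g ^ 4) v) (by
      simp only [act_add, ← act_mul, ← pow_succ', ← pow_two]
      rw [h5, act_one]
      abel)
    calc act g v + act (g ^ 2) v + act (g ^ 3) v + act (g ^ 4) v
        = v + (v + act g v + act (g ^ 2) v + act (g ^ 3) v + act (g ^ 4) v) := by
          have e := h.add_self v
          linear_combination (norm := module) (-1 : ℤ) • e
      _ = v := by rw [h0, add_zero]
  have i1 : g⁻¹ = g ^ 4 := inv_eq_of_mul_eq_one_right (by rw [← pow_succ', h5])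
  have i2 : (g ^ 2)⁻¹ = g ^ 3 := inv_eq_of_mul_eq_one_right (by rw [← pow_add, h5])
  have key : ∀ u v, B u v = 1 →
      B (act g u) v + B (act g v) u + (B (act (g ^ 2) u) v + B (act (g ^ 2) v) u) = 1 := by
    intro u v huv
    have hj : ∀ k ∈ P, B (act k v) u = B (act k⁻¹ u) v := fun k hk => by
      rw [h.pres_inv hk, h.swap]
    rw [hj g hg, hj _ (P.pow_mem hg 2), i1, i2]
    have e := congrArg (fun z => B z v) (hsum u)
    simp only [map_add, LinearMap.add_apply, huv] at e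
    linear_combination e
  have k1 := key e₁ f₁ h1
  have k2 := key e₂ f₂ h2
  rw [h.trace_frame h1 h2 h12 h14 h32 h34, h.trace_frame h1 h2 h12 h14 h32 h34]
  show B (act g e₁) f₁ + B (act g f₁) e₁ + (B (act g e₂) f₂ + B (act g f₂) e₂) +
    (B (act (g ^ 2) e₁) f₁ + B (act (g ^ 2) f₁) e₁ +
      (B (act (g ^ 2) e₂) f₂ + B (act (g ^ 2) f₂) e₂)) = 0
  linear_combination k1 + k2 + h.two

/-- At most two orthogonal self-adjoint idempotents are nonzero. -/
theorem Ctx.three_absurd {X Y Z : Matrix ι ι F} (hX : SelfAdj B X) (hY : SelfAdj B Y) (hZ : SelfAdj B Z)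
    (eX : X * X = X) (eY : Y * Y = Y) (eZ : Z * Z = Z) (hYX : Y * X = 0) (hZX : Z * X = 0)
    (hZY : Z * Y = 0) (nX : X ≠ 0) (nY : Y ≠ 0) (nZ : Z ≠ 0) : False := by
  have pair : ∀ M : Matrix ι ι F, SelfAdj B M → M * M = M → M ≠ 0 →
      ∃ s t, B (M *ᵥ s) (M *ᵥ t) = 1 := by
    intro M hM eM nM
    obtain ⟨s, hs⟩ : ∃ s, M *ᵥ s ≠ 0 := by
      by_contra hno
      push Not at hno
      exact nM (Matrix.ext_iff_mulVec.2 fun s => by rw [hno, Matrix.zero_mulVec])
    obtain ⟨w, hw⟩ : ∃ w, B (M *ᵥ s) w ≠ 0 := by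
      by_contra hno
      push Not at hno
      exact hs (h.nondeg _ hno)
    refine ⟨s, (B (M *ᵥ s) w)⁻¹ • w, ?_⟩
    rw [Matrix.mulVec_smul, map_smul, smul_eq_mul, ← hM, Matrix.mulVec_mulVec, eM,
      inv_mul_cancel₀ hw]
  have cross : ∀ M N : Matrix ι ι F, SelfAdj B N → N * M = 0 → ∀ s t, B (M *ᵥ s) (N *ᵥ t) = 0 := by
    intro M N hN hNM s t
    rw [← hN, Matrix.mulVec_mulVec, hNM, Matrix.zero_mulVec, map_zero, LinearMap.zero_apply]
  obtain ⟨s, t, hst⟩ := pair X hX eX nX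
  obtain ⟨s', t', hst'⟩ := pair Y hY eY nY
  obtain ⟨s'', t'', hst''⟩ := pair Z hZ eZ nZ
  have e := h.frame hst hst' (cross X Y hY hYX _ _) (cross X Y hY hYX _ _) (cross X Y hY hYX _ _)
    (cross X Y hY hYX _ _) (Z *ᵥ s'')
  rw [h.swap _ (X *ᵥ t), cross X Z hZ hZX, h.swap _ (X *ᵥ s), cross X Z hZ hZX,
    h.swap _ (Y *ᵥ t'), cross Y Z hZ hZY, h.swap _ (Y *ᵥ s'), cross Y Z hZ hZY] at e
  simp only [zero_smul, add_zero] at e
  rw [e, map_zero, LinearMap.zero_apply] at hst''
  exact zero_ne_one hst''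

/-- Among two commuting elements of order three and their products one has no fixed vector. -/
theorem Ctx.exists_fpf {b c : GL ι F} (hb : b ∈ P) (hc : c ∈ P) (hb3 : b ^ 3 = 1) (hc3 : c ^ 3 = 1)
    (hbc : b * c = c * b) (hb1 : b ≠ 1) (hc1 : c ≠ 1) (hbc1 : b * c ≠ 1) (hbc2 : b * c ^ 2 ≠ 1) :
    ∃ x ∈ ({b, c, b * c, b * c ^ 2} : Set (GL ι F)),
      ∀ v, act x (act x v) + act x v + v = 0 := by
  classical
  let S : Subring (Matrix ι ι F) :=
    Subring.closure {(b : Matrix ι ι F), (c : Matrix ι ι F)}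
  have hcm : (b : Matrix ι ι F) * c = c * b := congrArg Units.val hbc
  letI : CommRing S := Subring.closureCommRingOfComm (by
    rintro x (rfl | rfl) y (rfl | rfl) <;> first | rfl | exact hcm | exact hcm.symm)
  let β : S := ⟨(b : Matrix ι ι F), Subring.subset_closure (Or.inl rfl)⟩
  let γ : S := ⟨(c : Matrix ι ι F), Subring.subset_closure (Or.inr rfl)⟩
  have h2 : (2 : S) = 0 := Subtype.ext (by
    show (2 : Matrix ι ι F) = 0
    rw [← one_add_one_eq_two]
    ext i j
    simp [← two_mul, h.two])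
  have cube : ∀ {g : GL ι F} (z : S), (z : Matrix ι ι F) = g → g ^ 3 = 1 → z * z * z = 1 := by
    intro g z hz hg
    refine Subtype.ext ?_
    show (z : Matrix ι ι F) * (z : Matrix ι ι F) * z = 1
    rw [hz, ← pow_two, ← pow_succ, ← Units.val_pow_eq_pow_val, hg, Units.val_one]
  have hβ := cube β rfl hb3
  have hγ := cube γ rfl hc3
  have hδ : β * γ * (β * γ) * (β * γ) = 1 := by linear_combination (β * β * β) * hγ + hβ
  have hε : β * (γ * γ) * (β * (γ * γ)) * (β * (γ * γ)) = 1 := by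
    linear_combination (β * β * β * (γ * γ * γ + 1)) * hγ + hβ
  have adj : ∀ (g : GL ι F) (z : S), (z : Matrix ι ι F) = g → g ∈ P → g ^ 3 = 1 →
      SelfAdj B ((proj z : S) : Matrix ι ι F) := by
    intro g z hz hg hg3 u v
    have e : ∀ w, ((proj z : S) : Matrix ι ι F) *ᵥ w = w + act g w + act g (act g w) := fun w => by
      show (1 + (z : Matrix ι ι F) + (z : Matrix ι ι F) * (z : Matrix ι ι F)) *ᵥ w = _
      rw [hz, Matrix.add_mulVec, Matrix.add_mulVec, Matrix.one_mulVec, ← Matrix.mulVec_mulVec]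
      rfl
    have hi : g⁻¹ = g * g := inv_eq_of_mul_eq_one_right (by rw [← mul_assoc, ← pow_two, ← pow_succ, hg3])
    simp only [e, map_add, LinearMap.add_apply, h.pres_inv hg, hi, act_mul]
    have hggg : ∀ w, act g (act g (act g w)) = w := fun w => by
      rw [← act_mul, ← act_mul, ← pow_two, ← pow_succ, hg3, act_one]
    rw [hggg]
    ring
  set a₁ := proj β with ha₁
  set a₂ := proj γ with ha₂
  set a₃ := proj (β * γ) with ha₃
  set a₄ := proj (β * (γ * γ)) with ha₄
  set E := a₁ * a₂ with hE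
  have p13 : a₁ * a₃ = E := proj_mul_mul hβ
  have p14 : a₁ * a₄ = E := by rw [ha₁, ha₄, proj_mul_mul hβ, proj_sq hγ]
  have p23 : a₂ * a₃ = E := by
    rw [ha₂, ha₃, mul_comm β γ, proj_mul_mul hγ, hE, ← ha₁, mul_comm]
  have p24 : a₂ * a₄ = E := by
    rw [ha₂, ha₄, show β * (γ * γ) = γ * (γ * β) by ring, proj_mul_mul hγ, proj_mul_mul hγ, hE,
      ← ha₁, mul_comm]
  have p34 : a₃ * a₄ = E := by
    rw [ha₃, ha₄, show β * (γ * γ) = β * γ * γ by ring, proj_mul_mul hδ, ← ha₂, ← ha₃, mul_comm, p23]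
  have i1 := proj_idem h2 hβ
  have i2 := proj_idem h2 hγ
  have i3 := proj_idem h2 hδ
  have i4 := proj_idem h2 hε
  rw [← ha₁] at i1
  rw [← ha₂] at i2
  rw [← ha₃] at i3
  rw [← ha₄] at i4
  have hEE : E * E = E := by linear_combination (a₂ * a₂) * i1 + a₁ * i2
  have e1 : a₁ * E = E := by linear_combination a₂ * i1
  have e2 : a₂ * E = E := by linear_combination a₁ * i2
  have e3 : a₃ * E = E := by linear_combination a₂ * p13 + e2
  have e4 : a₄ * E = E := by linear_combination a₂ * p14 + e2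
  have hsum : a₁ + a₂ + a₃ + a₄ = 1 + E := by
    simp only [hE, ha₁, ha₂, ha₃, ha₄, proj]
    linear_combination (β * β * γ) * hγ + h2 * (1 : S)
  have sE : SelfAdj B (E : Matrix ι ι F) :=
    (adj b β rfl hb hb3).mul (adj c γ rfl hc hc3) (congrArg Subtype.val (mul_comm a₁ a₂))
  have s1 := (adj b β rfl hb hb3).add sE
  have s2 := (adj c γ rfl hc hc3).add sE
  have s3 := (adj (b * c) (β * γ) rfl (P.mul_mem hb hc)
    (by rw [(show Commute b c from hbc).mul_pow, hb3, hc3, one_mul])).add sE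
  have s4 := (adj (b * c ^ 2) (β * (γ * γ)) (by rw [pow_two]; rfl) (P.mul_mem hb (P.pow_mem hc 2))
    (by rw [((show Commute b c from hbc).pow_right 2).mul_pow, hb3, ← pow_mul, pow_mul', hc3,
      one_pow, one_mul])).add sE
  have orth : ∀ x y : S, x * y = E → x * E = E → y * E = E → (x + E) * (y + E) = 0 :=
    fun x y hxy hx hy => by linear_combination hxy + hx + hy + hEE + (2 * E) * h2
  have idem : ∀ x : S, x * x = x → x * E = E → (x + E) * (x + E) = x + E :=
    fun x hxx hx => by linear_combination hxx + 2 * hx + hEE + E * h2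
  -- the reading of a vanishing projection
  by_contra hno
  push Not at hno
  have nz : ∀ (g : GL ι F) (z : S), (z : Matrix ι ι F) = g →
      g ∈ ({b, c, b * c, b * c ^ 2} : Set (GL ι F)) → proj z ≠ 0 := by
    intro g z hz hg h0
    obtain ⟨v, hv⟩ := hno g hg
    refine hv ?_
    have e := congrArg (fun M : S => (M : Matrix ι ι F) *ᵥ v) h0
    simp only [ZeroMemClass.coe_zero, Matrix.zero_mulVec] at e
    rw [← e]
    show _ = (1 + (z : Matrix ι ι F) + (z : Matrix ι ι F) * (z : Matrix ι ι F)) *ᵥ v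
    rw [hz, Matrix.add_mulVec, Matrix.add_mulVec, Matrix.one_mulVec, ← Matrix.mulVec_mulVec]
    show act g (act g v) + act g v + v = v + act g v + act g (act g v)
    abel
  have n1 : a₁ ≠ 0 := nz b β rfl (by simp)
  have n2 : a₂ ≠ 0 := nz c γ rfl (by simp)
  have n3 : a₃ ≠ 0 := nz (b * c) (β * γ) rfl (by simp)
  have n4 : a₄ ≠ 0 := nz (b * c ^ 2) (β * (γ * γ)) (by rw [pow_two]; rfl) (by simp)
  have key : ∀ {x y z : S}, SelfAdj B (x : Matrix ι ι F) → SelfAdj B (y : Matrix ι ι F) →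
      SelfAdj B (z : Matrix ι ι F) → x * x = x → y * y = y → z * z = z → y * x = 0 → z * x = 0 →
      z * y = 0 → x ≠ 0 → y ≠ 0 → z ≠ 0 → False :=
    fun hx hy hz ex ey ez exy exz eyz nx ny nz' =>
      h.three_absurd hx hy hz (congrArg Subtype.val ex) (congrArg Subtype.val ey)
        (congrArg Subtype.val ez) (congrArg Subtype.val exy) (congrArg Subtype.val exz)
        (congrArg Subtype.val eyz) (fun e => nx (Subtype.ext e)) (fun e => ny (Subtype.ext e))
        (fun e => nz' (Subtype.ext e))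
  by_cases hE0 : E = 0
  · refine key (adj b β rfl hb hb3) (adj c γ rfl hc hc3) (adj (b * c) (β * γ) rfl (P.mul_mem hb hc)
      (by rw [(show Commute b c from hbc).mul_pow, hb3, hc3, one_mul]))
      i1 i2 i3 ?_ ?_ ?_ n1 n2 n3
    · rw [← ha₁, ← ha₂, mul_comm, ← hE, hE0]
    · rw [← ha₁, ← ha₃, mul_comm, p13, hE0]
    · rw [← ha₂, ← ha₃, mul_comm, p23, hE0]
  have two' : ∀ x y : S, x * y = E → x * x = x → y * y = y → x * E = E → y * E = E →
      SelfAdj B ((x + E : S) : Matrix ι ι F) → SelfAdj B ((y + E : S) : Matrix ι ι F) →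
      x + E = 0 ∨ y + E = 0 := by
    intro x y hxy hx hy hxE hyE sx sy
    by_contra hcon
    push Not at hcon
    refine key sE sx sy hEE (idem x hx hxE) (idem y hy hyE) ?_ ?_ ?_ hE0 hcon.1 hcon.2
    · linear_combination hxE + hEE + E * h2
    · linear_combination hyE + hEE + E * h2
    · rw [mul_comm]; exact orth x y hxy hxE hyE
  have sub : ∀ {x : S}, x + E = 0 → x = E := fun {x} hx => by linear_combination hx - E * h2
  have ne1 : ∀ (g : GL ι F) (z : S), (z : Matrix ι ι F) = g → g ≠ 1 → z * z * z = 1 → proj z ≠ 1 :=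
    fun g z hz hg hz3 e => hg (Units.ext (by
      rw [← hz, proj_eq_one h2 hz3 e]; rfl))
  have m1 : a₁ ≠ 1 := ne1 b β rfl hb1 hβ
  have m2 : a₂ ≠ 1 := ne1 c γ rfl hc1 hγ
  have m3 : a₃ ≠ 1 := ne1 (b * c) (β * γ) rfl hbc1 hδ
  have m4 : a₄ ≠ 1 := ne1 (b * c ^ 2) (β * (γ * γ)) (by rw [pow_two]; rfl) hbc2 hε
  have t12 := two' a₁ a₂ rfl i1 i2 e1 e2 s1 s2
  have t13 := two' a₁ a₃ p13 i1 i3 e1 e3 s1 s3
  have t14 := two' a₁ a₄ p14 i1 i4 e1 e4 s1 s4
  have t23 := two' a₂ a₃ p23 i2 i3 e2 e3 s2 s3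
  have t24 := two' a₂ a₄ p24 i2 i4 e2 e4 s2 s4
  have t34 := two' a₃ a₄ p34 i3 i4 e3 e4 s3 s4
  by_cases q1 : a₁ + E = 0
  · by_cases q2 : a₂ + E = 0
    · by_cases q3 : a₃ + E = 0
      · exact m4 (by linear_combination hsum - sub q1 - sub q2 - sub q3 - E * h2)
      · exact m3 (by linear_combination hsum - sub q1 - sub q2 - sub (t34.resolve_left q3) - E * h2)
    · exact m2 (by
        linear_combination hsum - sub q1 - sub (t23.resolve_left q2) - sub (t24.resolve_left q2) - E * h2)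
  · exact m1 (by
      linear_combination hsum - sub (t12.resolve_left q1) - sub (t13.resolve_left q1) -
        sub (t14.resolve_left q1) - E * h2)

/-- A product of an involution with a fixed-point-free element of order three, of order five, fixes nothing. -/
theorem Ctx.five_fpf {a x : GL ι F} (ha : a * a = 1) (hx : ∀ v, act x (act x v) + act x v + v = 0)
    (h5 : (a * x) ^ 5 = 1) (v : ι → F) (hv : act (a * x) v = v) : v = 0 := by
  have hav : act a v = act x v := by
    conv_lhs => rw [← hv]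
    rw [← act_mul, ← mul_assoc, ha, one_mul]
  have hxx : act x (act x v) = act x v + v := by
    have e := hx v
    have e' := h.add_self (act x v + v)
    linear_combination (norm := module) e - e'
  have hg : act (a * x) (act x v) = act x v + v := by
    rw [act_mul, hxx, act_add, hav, ← act_mul, hv, add_comm]
  have hgg : act ((a * x) ^ 2) (act x v) = act x v := by
    rw [pow_two, act_mul, hg, act_add, hv, hg, add_assoc, h.add_self, add_zero]
  have h1 : act ((a * x) ^ 5) (act x v) = act x v + v := by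
    rw [show (a * x) ^ 5 = (a * x) * (a * x) ^ 2 * (a * x) ^ 2 by
      rw [← pow_succ', ← pow_add], act_mul, act_mul, hgg, hgg, hg]
  rw [h5, act_one, left_eq_add] at h1
  exact h1

end Cfsg.Agent.SpFourEven
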