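import Cfsg.Agent.Lib.Classical.SpFourEven.Pair
import Cfsg.Agent.Lib.Solv.CIT.Basic

/-!
# Involution centralisers when every involution moves some vector off its orthogonal

If all involutions of `P` are of type `c₂`, their centralisers in `P` have exponent four.
-/

set_option autoImplicit false
set_option linter.unusedSectionVars false

namespace Cfsg.Agent.SpFourEven

open Matrix Cfsg.Geo Module

variable {ι : Type} [Fintype ι] [DecidableEq ι] {F : Type*} [Field F] [Finite F]
  {B : LinearMap.BilinForm F (ι → F)} {P : Subgroup (GL ι F)}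

/-- An element of `P` commuting with an involution of type `c₂` has order dividing four. -/
theorem Ctx.pow_four_of_commute (h : Ctx B P) (hc : AllNonAlt B P) {t g : GL ι F} (ht : t ∈ P)
    (ht2 : t * t = 1) (ht1 : t ≠ 1) (hg : g ∈ P) (htg : t * g = g * t) : g ^ 4 = 1 := by
  obtain ⟨x0, hx0⟩ := hc.2 t ht ht2 ht1
  rcases h.invol_cases ht ht2 with ⟨a, κ, hT⟩ | ⟨L, hdim, hfix, hN, horth, honto⟩
  · exact absurd (hc.1 t ht a κ hT) ht1
  have hcomm : ∀ x, act t (act g x) = act g (act t x) := fun x => by rw [← act_mul, htg, act_mul]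
  have hgL : ∀ w ∈ L, act g w ∈ L := fun w hw => by rw [hfix, hcomm, (hfix w).1 hw]
  -- the displacement is self adjoint and its square form is semilinear
  have hadj : ∀ x y, B (x + act t x) y = B x (y + act t y) := fun x y => by
    simp only [map_add, LinearMap.add_apply]
    congr 1
    rw [h.pres_inv ht, inv_eq_of_mul_eq_one_right ht2]
  have hqadd : ∀ x y, B (x + y + act t (x + y)) (x + y) = B (x + act t x) x + B (y + act t y) y := fun x y => by
    rw [show x + y + act t (x + y) = (x + act t x) + (y + act t y) by rw [act_add]; abel]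
    have e : B (y + act t y) x = B (x + act t x) y := by rw [hadj y x, h.swap]
    generalize x + act t x = u at e ⊢
    generalize y + act t y = w at e ⊢
    simp only [map_add, LinearMap.add_apply, e]
    linear_combination (B u y) * h.two
  have hqsmul : ∀ (c : F) x, B (c • x + act t (c • x)) (c • x) = c * c * B (x + act t x) x := fun c x => by
    rw [act_smul, ← smul_add, map_smul, map_smul, LinearMap.smul_apply, smul_eq_mul, smul_eq_mul]
    ring
  have hqg : ∀ x, B (act g x + act t (act g x)) (act g x) = B (x + act t x) x := fun x => by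
    rw [hcomm, ← act_add, h.pres g hg]
  have hNg : ∀ x, act g x + act t (act g x) = act g (x + act t x) := fun x => by rw [hcomm, act_add]
  -- the image of `x0` and the vector of value zero
  set e := x0 + act t x0 with he
  have hqe : B e x0 ≠ 0 := by
    rw [he, LinearMap.map_add₂, h.alt, zero_add]; exact hx0
  have heL : e ∈ L := hN x0
  obtain ⟨x1, hx1d, hx1q, hdind⟩ : ∃ x1, (x1 + act t x1 ∈ L) ∧ B (x1 + act t x1) x1 = 0 ∧
      (∀ c : F, x1 + act t x1 ≠ c • e) := by
    obtain ⟨w, hw, hwne⟩ : ∃ w ∈ L, ∀ c : F, w ≠ c • e := by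
      by_contra hcon
      push Not at hcon
      have hle : L ≤ Submodule.span F {e} := fun w hw => by
        obtain ⟨c, rfl⟩ := hcon w hw
        exact Submodule.smul_mem _ _ (Submodule.mem_span_singleton_self e)
      have h1 := Submodule.finrank_mono hle
      have h2 := finrank_span_singleton (K := F) (show e ≠ 0 from fun e0 => hqe (by rw [e0, map_zero, LinearMap.zero_apply]))
      omega
    obtain ⟨y, rfl⟩ := honto w hw
    obtain ⟨a, ha⟩ := (Finite.injective_iff_surjective.1
      (show Function.Injective fun a : F => a * a from fun a b e => h.sq_inj e)) (B (y + act t y) y / B e x0)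
    refine ⟨y + a • x0, hN _, ?_, fun c hc => hwne (c - a) ?_⟩
    · rw [hqadd, hqsmul, ← he, show a * a = _ from ha, div_mul_cancel₀ _ hqe]
      exact h.add_self_scalar _
    · rw [act_add, act_smul, add_add_add_comm, ← smul_add, ← he] at hc
      rw [sub_smul, ← hc, add_sub_cancel_right]
  set d := x1 + act t x1 with hd
  have hde : LinearIndependent F ![d, e] := by
    refine (LinearIndependent.pair_iff).2 fun s r hsr => ?_
    by_cases hs : s = 0
    · subst hs
      rw [zero_smul, zero_add, smul_eq_zero] at hsr
      exact ⟨rfl, hsr.resolve_right fun e0 => hqe (by rw [e0, map_zero, LinearMap.zero_apply])⟩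
    · refine absurd ?_ (hdind (-(r / s)))
      have h1 : s • d = -(r • e) := eq_neg_of_add_eq_zero_left hsr
      rw [← inv_smul_smul₀ hs d, h1, smul_neg, smul_smul, ← neg_smul, div_eq_mul_inv, mul_comm]
  have hspan : ∀ w ∈ L, ∃ s r : F, s • d + r • e = w := fun w hw => by
    have hle : Submodule.span F (Set.range ![d, e]) ≤ L := Submodule.span_le.2 (by
      rintro _ ⟨i, rfl⟩
      fin_cases i
      · exact hx1d
      · exact heL)
    have heq := Submodule.eq_of_le_of_finrank_le hle
      (by rw [hdim, finrank_span_eq_card hde, Fintype.card_fin])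
    rw [← heq, Matrix.range_cons_cons_empty] at hw
    exact Submodule.mem_span_pair.1 hw
  -- an element of value zero is a multiple of `d`
  have hzero : ∀ x, B (x + act t x) x = 0 → ∃ s : F, x + act t x = s • d := fun x hx => by
    obtain ⟨s, r, hsr⟩ := hspan _ (hN x)
    refine ⟨s, ?_⟩
    have hz : x + s • x1 + r • x0 ∈ L := by
      rw [hfix, ← sub_eq_zero, sub_eq_add_neg, h.neg_eq, act_add, act_add, act_smul, act_smul]
      have : (act t x + s • act t x1 + r • act t x0) + (x + s • x1 + r • x0) =
          (x + act t x) + (s • d + r • e) := by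
        rw [hd, he, smul_add, smul_add]; abel
      rw [this, hsr, h.add_self]
    have hqz : B ((x + s • x1 + r • x0) + act t (x + s • x1 + r • x0)) (x + s • x1 + r • x0) = 0 := by
      rw [(hfix _).1 hz, h.add_self, map_zero, LinearMap.zero_apply]
    rw [hqadd, hqadd, hqsmul, hqsmul, hx, ← hd, ← he, hx1q, mul_zero, zero_add, zero_add, mul_eq_zero,
      mul_self_eq_zero] at hqz
    rw [← hsr, hqz.resolve_right hqe, zero_smul, add_zero]
  -- the action on the Lagrangian
  obtain ⟨c, hge⟩ : ∃ c : F, act g e = e + c • d := by
    have h0 : B ((act g x0 + x0) + act t (act g x0 + x0)) (act g x0 + x0) = 0 := by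
      rw [hqadd, hqg, ← he]; exact h.add_self_scalar _
    obtain ⟨c, hc'⟩ := hzero _ h0
    refine ⟨c, ?_⟩
    rw [act_add, add_add_add_comm, hNg, ← he] at hc'
    rw [← hc', add_comm (act g e) e, ← add_assoc, h.add_self, zero_add]
  obtain ⟨lam, hgd⟩ : ∃ lam : F, act g d = lam • d := by
    obtain ⟨lam, hl⟩ := hzero (act g x1) (by rw [hqg]; exact hx1q)
    exact ⟨lam, by rw [← hl, hNg]⟩
  have hpair : B d x0 ≠ 0 := fun h0 => by
    refine hdind 0 ?_
    rw [zero_smul]
    refine h.nondeg _ fun v => ?_
    obtain ⟨s, r, hsr⟩ := hspan _ (hN v)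
    have hz : v + s • x1 + r • x0 ∈ L := by
      rw [hfix, ← sub_eq_zero, sub_eq_add_neg, h.neg_eq, act_add, act_add, act_smul, act_smul]
      have : (act t v + s • act t x1 + r • act t x0) + (v + s • x1 + r • x0) =
          (v + act t v) + (s • d + r • e) := by
        rw [hd, he, smul_add, smul_add]; abel
      rw [this, hsr, h.add_self]
    have h1 := (horth d).1 hx1d _ hz
    simp only [map_add, map_smul, smul_eq_mul] at h1
    rwa [h0, hd, hx1q, mul_zero, mul_zero, add_zero, add_zero] at h1
  have hlam : lam = 1 := by
    have h1 : B (act g d) (act g x0) = B d x0 := h.pres g hg d x0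
    have h2 : B d (act g x0) = B d x0 := by
      rw [hd, hadj, hNg, ← he, hge, map_add, map_smul, smul_eq_mul, show B x1 d = 0 by
        rw [h.swap]; exact hx1q, mul_zero, add_zero, he, ← hadj]
    rw [hgd, map_smul, LinearMap.smul_apply, smul_eq_mul, h2] at h1
    exact mul_right_cancel₀ hpair (h1.trans (one_mul _).symm)
  have hsqL : ∀ w ∈ L, act g (act g w) = w := fun w hw => by
    obtain ⟨s, r, rfl⟩ := hspan w hw
    simp only [act_add, act_smul, hgd, hge, hlam, one_smul]
    rw [add_assoc e, h.add_self, add_zero]
  -- the square is trivial modulo the Lagrangian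
  refine ext_act fun x => ?_
  have hm : act g (act g x) + x ∈ L := by
    rw [hfix, ← sub_eq_zero, sub_eq_add_neg, h.neg_eq]
    have : act t (act g (act g x) + x) + (act g (act g x) + x) =
        (act g (act g x) + act t (act g (act g x))) + (x + act t x) := by rw [act_add]; abel
    rw [this, hNg, hNg, hsqL _ (hN x), h.add_self]
  have h4 := hsqL _ hm
  rw [show g ^ 4 = g * g * (g * g) by simp [pow_succ, mul_assoc], act_mul, act_mul, act_mul, act_one]
  rw [act_add, act_add] at h4
  calc act g (act g (act g (act g x)))
      = act g (act g (act g (act g x))) + (act g (act g x) + act g (act g x)) := by rw [h.add_self, add_zero]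
    _ = (act g (act g (act g (act g x))) + act g (act g x)) + act g (act g x) := by rw [add_assoc]
    _ = x := by rw [h4, add_comm, ← add_assoc, h.add_self, zero_add]

/-- Under `AllNonAlt` every involution centraliser is a two-group. -/
theorem Ctx.cit (h : Ctx B P) (hc : AllNonAlt B P) : Solv.CITGroups.CIT P := by
  intro t ht g
  have ht' := orderOf_dvd_iff_pow_eq_one.1 ht.dvd
  rw [pow_two] at ht'
  refine ⟨2, Subtype.ext (Subtype.ext ?_)⟩
  exact h.pow_four_of_commute hc t.2 (congrArg Subtype.val ht')
    (fun e => by rw [show t = 1 from Subtype.ext e, orderOf_one] at ht; exact absurd ht (by omega))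
    (g : P).2 (congrArg Subtype.val (Subgroup.mem_centralizer_singleton_iff.1 g.2).symm)

end Cfsg.Agent.SpFourEven
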