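import Cfsg.Agent.Lib.Classical.SpFourEven.Cit
import Mathlib.FieldTheory.IsAlgClosed.AlgebraicClosure

/-!
# The small linear groups are not such subgroups

`PSL₂(p)`, `p ≥ 7`: an element of order `p` would have five eigenvalues. `PSL₃(4)`: the four subgroups of
order three of a group of type `(3, 3)` cannot all have fixed spaces of one dimension.
-/

set_option autoImplicit false
set_option linter.unusedSectionVars false
set_option linter.style.haveILetI false

namespace Cfsg.Agent.SpFourEven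

open Matrix Cfsg.Geo Module Polynomial

variable {ι : Type} [Fintype ι] [DecidableEq ι] {F : Type*} [Field F]
  {B : LinearMap.BilinForm F (ι → F)} {P : Subgroup (GL ι F)}

/-- An isometry and its inverse have the same characteristic polynomial. -/
theorem Ctx.charpoly_inv (h : Ctx B P) {g : GL ι F} (hg : g ∈ P) :
    ((g⁻¹ : GL ι F) : Matrix ι ι F).charpoly = (g : Matrix ι ι F).charpoly := by
  set G := LinearMap.BilinForm.toMatrix' B with hG
  have hB : ∀ v w, B v w = v ⬝ᵥ G *ᵥ w := fun v w => by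
    rw [hG, ← Matrix.toBilin'_apply', Matrix.toBilin'_toMatrix']
  have hdet : G.det ≠ 0 := fun e => by
    obtain ⟨c, hc0, hc⟩ := Matrix.exists_mulVec_eq_zero_iff.2 e
    exact hc0 (h.nondeg c fun w => by rw [h.swap, hB, hc, dotProduct_zero])
  have hinv : (g : Matrix ι ι F)ᵀ * G * (g : Matrix ι ι F) = G := by
    refine Matrix.ext fun i j => ?_
    have e := h.pres g hg (Pi.single i 1) (Pi.single j 1)
    rw [hB, hB, act, act, Matrix.mulVec_mulVec, ← Matrix.vecMul_transpose, ← Matrix.dotProduct_mulVec,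
      Matrix.mulVec_mulVec, ← Matrix.mul_assoc] at e
    simpa using e
  let U : GL ι F := Matrix.GeneralLinearGroup.mkOfDetNeZero G hdet
  have e : ((g⁻¹ : GL ι F) : Matrix ι ι F) = ((U⁻¹ : GL ι F) : Matrix ι ι F) * (g : Matrix ι ι F)ᵀ * (U : Matrix ι ι F) := by
    have e1 : (g : Matrix ι ι F)ᵀ * G = G * ((g⁻¹ : GL ι F) : Matrix ι ι F) := by
      conv_rhs => rw [← hinv]
      rw [Matrix.mul_assoc _ (g : Matrix ι ι F), ← Units.val_mul, mul_inv_cancel, Units.val_one, Matrix.mul_one]
    rw [Matrix.mul_assoc, show (U : Matrix ι ι F) = G from rfl, e1, ← Matrix.mul_assoc,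
      show G = (U : Matrix ι ι F) from rfl, ← Units.val_mul, inv_mul_cancel, Units.val_one, Matrix.one_mul]
  rw [e, Matrix.coe_units_inv, Matrix.charpoly_units_conj', Matrix.charpoly_transpose]

/-- Conjugate elements have the same characteristic polynomial. -/
theorem charpoly_conj (c x : GL ι F) :
    ((c * x * c⁻¹ : GL ι F) : Matrix ι ι F).charpoly = (x : Matrix ι ι F).charpoly := by
  rw [Units.val_mul, Units.val_mul, Matrix.coe_units_inv, Matrix.charpoly_units_conj]

/-- Five distinct exponents for an element of odd prime order in dimension four are too many. -/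
theorem false_of_five_powers (hcard : Fintype.card ι = 4) (h2 : (2 : F) = 0) {p : ℕ} (hp : p.Prime) (hp2 : p ≠ 2)
    {g : GL ι F} (hg : orderOf g = p) (E : Finset ℕ) (hE : 5 ≤ E.card)
    (hdist : ∀ a ∈ E, ∀ b ∈ E, a % p = b % p → a = b)
    (hcp : ∀ n ∈ E, ((g ^ n : GL ι F) : Matrix ι ι F).charpoly = (g : Matrix ι ι F).charpoly) : False := by
  classical
  let φ : F →+* AlgebraicClosure F := algebraMap F (AlgebraicClosure F)
  set M := (g : Matrix ι ι F).map φ with hM
  have hpow : ∀ n : ℕ, M ^ n = ((g ^ n : GL ι F) : Matrix ι ι F).map φ := fun n => by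
    rw [hM, Units.val_pow_eq_pow_val]
    exact (map_pow φ.mapMatrix (g : Matrix ι ι F) n).symm
  have hMp : M ^ p = 1 := by
    rw [hpow, ← hg, pow_orderOf_eq_one, Units.val_one, Matrix.map_one _ (map_zero φ) (map_one φ)]
  set f := M.charpoly with hf
  have hf0 : f ≠ 0 := (Matrix.charpoly_monic M).ne_zero
  -- some eigenvalue is not one
  obtain ⟨lam, hlam, hlam1⟩ : ∃ lam, f.IsRoot lam ∧ lam ≠ 1 := by
    by_contra hcon
    push Not at hcon
    have hs : f.Splits := IsAlgClosed.splits _
    have h4 : f.roots.card = 4 := by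
      rw [← hs.natDegree_eq_card_roots, hf, Matrix.charpoly_natDegree_eq_dim, hcard]
    have hrep : f.roots = Multiset.replicate 4 1 :=
      Multiset.eq_replicate.2 ⟨h4, fun b hb => hcon b (Polynomial.isRoot_of_mem_roots hb)⟩
    have hfe : f = (X - Polynomial.C 1) ^ 4 := by
      rw [hs.eq_prod_roots_of_monic (Matrix.charpoly_monic M), hrep, Multiset.map_replicate, Multiset.prod_replicate]
    have hch := Matrix.aeval_self_charpoly M
    rw [← hf, hfe, map_pow, map_sub, aeval_X, aeval_C, map_one] at hch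
    have hfour : M ^ 4 = 1 := by
      have h2' : (2 : Matrix ι ι (AlgebraicClosure F)) = 0 := by
        rw [← map_ofNat (algebraMap (AlgebraicClosure F) (Matrix ι ι (AlgebraicClosure F))) 2,
          ← map_ofNat φ 2, h2, map_zero, map_zero]
      have e : (M - 1) ^ 4 = (M ^ 4 - 1) + 2 * (-2 * M ^ 3 + 3 * M ^ 2 - 2 * M + 1) := by noncomm_ring
      rw [e, h2', zero_mul, add_zero, sub_eq_zero] at hch
      exact hch
    have h1 : M = 1 := by
      have ho : orderOf M ∣ Nat.gcd 4 p :=
        Nat.dvd_gcd (orderOf_dvd_of_pow_eq_one hfour) (orderOf_dvd_of_pow_eq_one hMp)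
      have hg4 : Nat.gcd 4 p = 1 := by
        have := (Nat.Coprime.pow_left 2 ((Nat.coprime_primes Nat.prime_two hp).2 hp2.symm))
        norm_num at this
        exact this
      rw [hg4, Nat.dvd_one, orderOf_eq_one_iff] at ho
      exact ho
    have hg1 : g = 1 := Units.ext (Matrix.map_injective φ.injective
      (show (g : Matrix ι ι F).map φ = (1 : Matrix ι ι F).map φ by
        rw [← hM, h1, Matrix.map_one _ (map_zero φ) (map_one φ)]))
    rw [hg1, orderOf_one] at hg
    exact hp.ne_one hg.symm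
  obtain ⟨v, hv0, hv⟩ : ∃ v ≠ 0, M *ᵥ v = lam • v := by
    have hdet : (Matrix.scalar ι lam - M).det = 0 := by rw [← Matrix.eval_charpoly]; exact hlam
    obtain ⟨v, hv0, hv⟩ := Matrix.exists_mulVec_eq_zero_iff.2 hdet
    refine ⟨v, hv0, ?_⟩
    rw [Matrix.sub_mulVec, sub_eq_zero] at hv
    rw [← hv]
    simp [Matrix.scalar_apply, Matrix.mulVec_diagonal, funext_iff]
  have heig : ∀ n : ℕ, M ^ n *ᵥ v = lam ^ n • v := fun n => by
    induction n with
    | zero => simp
    | succ n ih => rw [pow_succ', ← Matrix.mulVec_mulVec, ih, Matrix.mulVec_smul, hv, smul_smul, pow_succ]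
  have hlp : lam ^ p = 1 := by
    have e := heig p
    rw [hMp, Matrix.one_mulVec] at e
    exact smul_left_injective _ hv0 (by show lam ^ p • v = (1 : AlgebraicClosure F) • v; rw [← e, one_smul])
  have hord : orderOf lam = p := by
    haveI := Fact.mk hp
    exact orderOf_eq_prime hlp hlam1
  have hroot : ∀ n ∈ E, lam ^ n ∈ f.roots.toFinset := fun n hn => by
    rw [Multiset.mem_toFinset, Polynomial.mem_roots hf0]
    have e : f = (M ^ n).charpoly := by
      rw [hf, hpow, hM, Matrix.charpoly_map, Matrix.charpoly_map, hcp n hn]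
    rw [Polynomial.IsRoot, e, Matrix.eval_charpoly]
    refine Matrix.exists_mulVec_eq_zero_iff.1 ⟨v, hv0, ?_⟩
    rw [Matrix.sub_mulVec, heig, sub_eq_zero]
    simp [Matrix.scalar_apply, Matrix.mulVec_diagonal, funext_iff]
  have hc : (E.image fun n => lam ^ n).card = E.card := by
    refine Finset.card_image_of_injOn fun a ha b hb e => hdist a ha b hb ?_
    have hpos : IsOfFinOrder lam := isOfFinOrder_iff_pow_eq_one.2 ⟨p, hp.pos, hlp⟩
    have := hpos.pow_eq_pow_iff_modEq.1 e
    rwa [hord] at this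
  have h5 : (E.image fun n => lam ^ n).card ≤ f.roots.toFinset.card :=
    Finset.card_le_card (Finset.image_subset_iff.2 hroot)
  have h6 := (Multiset.toFinset_card_le f.roots).trans (Polynomial.card_roots' f)
  have h7 : f.natDegree = 4 := by rw [hf, Matrix.charpoly_natDegree_eq_dim, hcard]
  omega

/-- `[[1, a], [0, 1]]`. -/
def slU {K : Type*} [Field K] (a : K) : Matrix.SpecialLinearGroup (Fin 2) K :=
  ⟨!![1, a; 0, 1], by simp [Matrix.det_fin_two]⟩

theorem slU_val {K : Type*} [Field K] (a : K) : (slU a).1 = !![1, a; 0, 1] := rfl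

/-- `[[a, 0], [0, a⁻¹]]`. -/
def slD {K : Type*} [Field K] {a : K} (ha : a ≠ 0) : Matrix.SpecialLinearGroup (Fin 2) K :=
  ⟨!![a, 0; 0, a⁻¹], by simp [Matrix.det_fin_two, ha]⟩

theorem slD_val {K : Type*} [Field K] {a : K} (ha : a ≠ 0) : (slD ha).1 = !![a, 0; 0, a⁻¹] := rfl

/-- `P` is not `PSL₂(p)` for a prime `p ≥ 7`. -/
theorem Ctx.false_of_psl_two_prime (h : Ctx B P) {K : Type*} [Field K] [Fintype K]
    (hK : (Fintype.card K).Prime) (h7 : 7 ≤ Fintype.card K)
    (e : P ≃* Matrix.ProjectiveSpecialLinearGroup (Fin 2) K) : False := by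
  set p := Fintype.card K with hp
  haveI := Fact.mk hK
  haveI : CharP K p := by
    obtain ⟨c, hc⟩ := CharP.exists K
    obtain ⟨n, hcp, hn⟩ := FiniteField.card K c
    have : c = p := (Nat.prime_dvd_prime_iff_eq hcp hK).1 (by rw [hp, hn]; exact dvd_pow_self c n.ne_zero)
    rwa [this] at hc
  let φ : Matrix.SpecialLinearGroup (Fin 2) K →* GL ι F :=
    (P.subtype.comp e.symm.toMonoidHom).comp (QuotientGroup.mk' _)
  set u : K → Matrix.SpecialLinearGroup (Fin 2) K := slU with hudef
  have hu : ∀ a b, u (a + b) = u a * u b := fun a b => Subtype.ext (by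
    ext i j
    fin_cases i <;> fin_cases j <;>
      simp [hudef, slU_val, Matrix.SpecialLinearGroup.coe_mul, Matrix.mul_apply, Fin.sum_univ_two, add_comm])
  have hu0 : u 0 = 1 := Subtype.ext (by ext i j; fin_cases i <;> fin_cases j <;> simp [hudef, slU_val])
  have hun : ∀ n : ℕ, u 1 ^ n = u n := fun n => by
    induction n with
    | zero => rw [pow_zero, Nat.cast_zero, hu0]
    | succ n ih => rw [pow_succ, ih, Nat.cast_succ, hu]
  set g := φ (u 1) with hg
  have hgP : g ∈ P := Subtype.prop _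
  have hg1 : g ≠ 1 := fun e1 => by
    have h1 : QuotientGroup.mk' (Subgroup.center (Matrix.SpecialLinearGroup (Fin 2) K)) (u 1) = 1 :=
      e.symm.injective (Subtype.ext (e1.trans (by simp)))
    obtain ⟨r, -, hr⟩ := Matrix.SpecialLinearGroup.mem_center_iff.1 ((QuotientGroup.eq_one_iff _).1 h1)
    have := congrFun (congrFun hr 0) 1
    simp [hudef, slU_val, Matrix.scalar_apply] at this
  have hgord : orderOf g = p := orderOf_eq_prime (by
    rw [hg, ← map_pow, hun, CharP.cast_eq_zero, hu0, map_one]) hg1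
  have hsq : ∀ a : ℕ, (a : K) ≠ 0 →
      ((g ^ (a * a) : GL ι F) : Matrix ι ι F).charpoly = (g : Matrix ι ι F).charpoly := fun a ha => by
    set d : Matrix.SpecialLinearGroup (Fin 2) K := slD ha with hddef
    have e1 : d * u 1 * d⁻¹ = u 1 ^ (a * a) := by
      rw [mul_inv_eq_iff_eq_mul, hun]
      refine Subtype.ext ?_
      ext i j
      fin_cases i <;> fin_cases j <;>
        simp [hudef, hddef, slU_val, slD_val, Matrix.SpecialLinearGroup.coe_mul, Matrix.mul_apply, Fin.sum_univ_two]
    rw [hg, ← map_pow, ← e1, map_mul, map_mul, map_inv, charpoly_conj]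
  have hnz : ∀ a : ℕ, 0 < a → a < p → (a : K) ≠ 0 := fun a h0 h1 e1 =>
    absurd (Nat.le_of_dvd h0 ((CharP.cast_eq_zero_iff K p a).1 e1)) (by omega)
  rcases eq_or_lt_of_le h7 with h7' | h7'
  · -- squares and their negatives
    rw [← h7'] at hgord hnz
    refine false_of_five_powers h.card h.two (by norm_num) (by norm_num) hgord {1, 4, 9, 6, 3} (by decide)
      (by decide) ?_
    have hs1 := hsq 1 (hnz 1 one_pos (by norm_num))
    have hs2 := hsq 2 (hnz 2 two_pos (by norm_num))
    have hs3 := hsq 3 (hnz 3 three_pos (by norm_num))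
    have hi : ∀ n, ((g ^ n : GL ι F) : Matrix ι ι F).charpoly = (g : Matrix ι ι F).charpoly →
        ((g ^ (6 * n) : GL ι F) : Matrix ι ι F).charpoly = (g : Matrix ι ι F).charpoly := fun n hn => by
      have e1 : g ^ (6 * n) = (g ^ n)⁻¹ := by
        refine eq_inv_of_mul_eq_one_left ?_
        rw [← pow_add, show 6 * n + n = 7 * n by ring, pow_mul, ← hgord, pow_orderOf_eq_one, one_pow]
      rw [e1, h.charpoly_inv (pow_mem hgP n), hn]
    intro n hn
    simp only [Finset.mem_insert, Finset.mem_singleton] at hn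
    rcases hn with rfl | rfl | rfl | rfl | rfl
    · exact hs1
    · exact hs2
    · exact hs3
    · exact hi 1 hs1
    · rw [show g ^ 3 = g ^ (6 * 4) by
        rw [show 6 * 4 = 7 * 3 + 3 from rfl, pow_add, pow_mul, ← hgord, pow_orderOf_eq_one, one_pow, one_mul]]
      exact hi 4 hs2
  · have h11 : 11 ≤ p := by
      by_contra h11
      have : p = 8 ∨ p = 9 ∨ p = 10 := by omega
      rcases this with e1 | e1 | e1 <;> rw [e1] at hK <;> norm_num at hK
    refine false_of_five_powers h.card h.two hK (by omega) hgord {1, 4, 9, 16, 25} (by decide) ?_ ?_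
    · intro a ha b hb e1
      by_contra hne
      wlog hlt : a < b generalizing a b
      · exact this b hb a ha e1.symm (Ne.symm hne) (by omega)
      obtain ⟨i, hi, rfl⟩ : ∃ i, i ≤ 5 ∧ a = i * i := by
        simp only [Finset.mem_insert, Finset.mem_singleton] at ha
        rcases ha with rfl | rfl | rfl | rfl | rfl
        exacts [⟨1, by norm_num⟩, ⟨2, by norm_num⟩, ⟨3, by norm_num⟩, ⟨4, by norm_num⟩, ⟨5, by norm_num⟩]
      obtain ⟨k, hk, rfl⟩ : ∃ k, k ≤ 5 ∧ b = k * k := by
        simp only [Finset.mem_insert, Finset.mem_singleton] at hb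
        rcases hb with rfl | rfl | rfl | rfl | rfl
        exacts [⟨1, by norm_num⟩, ⟨2, by norm_num⟩, ⟨3, by norm_num⟩, ⟨4, by norm_num⟩, ⟨5, by norm_num⟩]
      have hik : i < k := Nat.mul_self_lt_mul_self_iff.1 hlt
      have hd : p ∣ (k + i) * (k - i) := by
        rw [← Nat.mul_self_sub_mul_self_eq]
        exact (Nat.modEq_iff_dvd' hlt.le).1 e1
      rcases hK.dvd_mul.1 hd with hd | hd
      · exact absurd (Nat.le_of_dvd (by omega) hd) (by omega)
      · exact absurd (Nat.le_of_dvd (by omega) hd) (by omega)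
    · intro n hn
      simp only [Finset.mem_insert, Finset.mem_singleton] at hn
      rcases hn with rfl | rfl | rfl | rfl | rfl
      · exact hsq 1 (hnz 1 one_pos (by omega))
      · exact hsq 2 (hnz 2 two_pos (by omega))
      · exact hsq 3 (hnz 3 three_pos (by omega))
      · exact hsq 4 (hnz 4 four_pos (by omega))
      · exact hsq 5 (hnz 5 (by omega) (by omega))

section Rank

/-- The dimension of the image. -/
noncomputable def imDim (p : Matrix ι ι F) : ℕ := finrank F (LinearMap.range p.toLin')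

theorem imDim_add {p q : Matrix ι ι F} (hp : p * p = p) (hq : q * q = q) (hpq : p * q = 0) (hqp : q * p = 0) :
    imDim (p + q) = imDim p + imDim q := by
  have hrange : LinearMap.range (p + q).toLin' = LinearMap.range p.toLin' ⊔ LinearMap.range q.toLin' := by
    refine le_antisymm ?_ (sup_le ?_ ?_)
    · rintro _ ⟨x, rfl⟩
      rw [map_add, LinearMap.add_apply]
      exact Submodule.add_mem_sup ⟨x, rfl⟩ ⟨x, rfl⟩
    · rintro _ ⟨x, rfl⟩
      refine ⟨p *ᵥ x, ?_⟩
      simp [Matrix.mulVec_mulVec, add_mul, hp, hqp]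
    · rintro _ ⟨x, rfl⟩
      refine ⟨q *ᵥ x, ?_⟩
      simp [Matrix.mulVec_mulVec, add_mul, hq, hpq]
  have hinf : LinearMap.range p.toLin' ⊓ LinearMap.range q.toLin' = ⊥ := by
    rw [Submodule.eq_bot_iff]
    rintro _ ⟨⟨x, rfl⟩, y, hy⟩
    have e := congrArg (fun z => p *ᵥ z) hy
    simp only [Matrix.toLin'_apply, Matrix.mulVec_mulVec, hpq, hp, Matrix.zero_mulVec] at e ⊢
    exact e.symm
  have := Submodule.finrank_sup_add_finrank_inf_eq (LinearMap.range p.toLin') (LinearMap.range q.toLin')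
  rw [hinf, finrank_bot, add_zero, ← hrange] at this
  exact this

theorem imDim_conj (c : GL ι F) (p : Matrix ι ι F) :
    imDim ((c : Matrix ι ι F) * p * ((c⁻¹ : GL ι F) : Matrix ι ι F)) = imDim p := by
  have hinj : Function.Injective (Matrix.toLin' (c : Matrix ι ι F)) := fun a b hab => by
    have e := congrArg (fun z => ((c⁻¹ : GL ι F) : Matrix ι ι F) *ᵥ z) hab
    simpa [Matrix.toLin'_apply, Matrix.mulVec_mulVec, ← Units.val_mul] using e
  have hsurj : Function.Surjective (Matrix.toLin' ((c⁻¹ : GL ι F) : Matrix ι ι F)) := fun a =>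
    ⟨(c : Matrix ι ι F) *ᵥ a, by simp [Matrix.toLin'_apply, Matrix.mulVec_mulVec, ← Units.val_mul]⟩
  rw [imDim, imDim, Matrix.toLin'_mul, Matrix.toLin'_mul, LinearMap.range_comp_of_range_eq_top _ (LinearMap.range_eq_top.2 hsurj),
    LinearMap.range_comp]
  exact (Submodule.equivMapOfInjective _ hinj _).finrank_eq.symm

theorem imDim_one : imDim (1 : Matrix ι ι F) = Fintype.card ι := by
  rw [imDim, Matrix.toLin'_one, LinearMap.range_id, finrank_top, Module.finrank_pi]

end Rank

/-- The projection onto the fixed space of an element of order three. -/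
def pr {R : Type*} [Semiring R] (x : R) : R := 1 + x + x * x

theorem pr_identities {R : Type*} [CommRing R] (h2 : (2 : R) = 0) {x y : R} (hx : x ^ 3 = 1) (hy : y ^ 3 = 1) :
    pr x * pr x = pr x ∧ pr y * pr y = pr y ∧ pr (x * y) * pr (x * y) = pr (x * y) ∧
    pr (x * (y * y)) * pr (x * (y * y)) = pr (x * (y * y)) ∧
    pr x * pr (x * y) = pr x * pr y ∧ pr x * pr (x * (y * y)) = pr x * pr y ∧
    pr y * pr (x * y) = pr x * pr y ∧ pr y * pr (x * (y * y)) = pr x * pr y ∧
    pr (x * y) * pr (x * (y * y)) = pr x * pr y ∧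
    pr x + pr y + pr (x * y) + pr (x * (y * y)) = 1 + pr x * pr y := by
  have idem : ∀ z : R, z ^ 3 = 1 → pr z * pr z = pr z := fun z hz => by
    simp only [pr]; linear_combination (z + 2) * hz + (1 + z + z ^ 2) * h2
  have key : ∀ a b : R, a ^ 3 = 1 → pr a * pr (a * b) = pr a * pr b := fun a b ha => by
    simp only [pr]; linear_combination (b + b ^ 2 * (a + 1)) * ha
  have hsq : ∀ z : R, z ^ 3 = 1 → pr (z * z) = pr z := fun z hz => by
    simp only [pr]; linear_combination z * hz
  have hxy : (x * y) ^ 3 = 1 := by rw [mul_pow, hx, hy, one_mul]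
  refine ⟨idem x hx, idem y hy, idem _ hxy, idem _ (by rw [mul_pow, mul_pow, hx, hy, one_mul, one_mul]), key x y hx,
    by rw [key x _ hx, hsq y hy], by rw [mul_comm x y, key y x hy, mul_comm], ?_, ?_, ?_⟩
  · rw [show x * (y * y) = y * (y * x) by ring, key y _ hy, key y x hy, mul_comm]
  · rw [show x * (y * y) = x * y * y by ring, key _ _ hxy, mul_comm (pr (x * y)), mul_comm x y, key y x hy, mul_comm]
  · simp only [pr]; linear_combination (x ^ 2 * y) * hy + h2

/-- The four subgroups of order three of a group of type `(3, 3)` are not all conjugate in `P`. -/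
theorem Ctx.false_of_three_three (h : Ctx B P) {x y : GL ι F} (hxP : x ∈ P) (hyP : y ∈ P)
    (hxy : x * y = y * x) (hx : x ^ 3 = 1) (hy : y ^ 3 = 1) (hx1 : x ≠ 1)
    (c₁ c₂ c₃ : GL ι F) (e₁ : c₁ * x * c₁⁻¹ = y) (e₂ : c₂ * x * c₂⁻¹ = x * y)
    (e₃ : c₃ * x * c₃⁻¹ = x * (y * y)) : False := by
  classical
  set X : Matrix ι ι F := (x : Matrix ι ι F) with hXdef
  set Y : Matrix ι ι F := (y : Matrix ι ι F) with hYdef
  have hcomm : ∀ a ∈ ({X, Y} : Set (Matrix ι ι F)), ∀ b ∈ ({X, Y} : Set (Matrix ι ι F)), a * b = b * a := by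
    rintro a (rfl | rfl) b (rfl | rfl) <;> first
      | rfl
      | (rw [hXdef, hYdef, ← Units.val_mul, ← Units.val_mul, hxy])
  letI := Algebra.adjoinCommRingOfComm F hcomm
  let X' : Algebra.adjoin F ({X, Y} : Set (Matrix ι ι F)) := ⟨X, Algebra.subset_adjoin (by simp)⟩
  let Y' : Algebra.adjoin F ({X, Y} : Set (Matrix ι ι F)) := ⟨Y, Algebra.subset_adjoin (by simp)⟩
  have hX3 : X' ^ 3 = 1 := Subtype.ext (show X ^ 3 = 1 by rw [hXdef, ← Units.val_pow_eq_pow_val, hx, Units.val_one])
  have hY3 : Y' ^ 3 = 1 := Subtype.ext (show Y ^ 3 = 1 by rw [hYdef, ← Units.val_pow_eq_pow_val, hy, Units.val_one])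
  have h2 : (2 : Algebra.adjoin F ({X, Y} : Set (Matrix ι ι F))) = 0 := by
    rw [← map_ofNat (algebraMap F _) 2, h.two, map_zero]
  obtain ⟨p1, p2, p3, p4, q12, q13, q22, q23, q33, hsum⟩ := pr_identities h2 hX3 hY3
  -- the five orthogonal idempotents
  set E := pr X' * pr Y' with hE
  have hEE : E * E = E := by rw [hE]; linear_combination (pr Y' * pr Y') * p1 + (pr X') * p2
  have hEx : E * pr X' = E := by rw [hE]; linear_combination (pr Y') * p1
  have hEy : E * pr Y' = E := by rw [hE]; linear_combination (pr X') * p2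
  have hEu : E * pr (X' * Y') = E := by rw [hE]; linear_combination (pr Y') * q12 + (pr X') * p2
  have hEv : E * pr (X' * (Y' * Y')) = E := by rw [hE]; linear_combination (pr Y') * q13 + (pr X') * p2
  have hV : ∀ a b : Algebra.adjoin F ({X, Y} : Set (Matrix ι ι F)),
      (a * b).1 = a.1 * b.1 := fun a b => rfl
  have split : ∀ a : Algebra.adjoin F ({X, Y} : Set (Matrix ι ι F)), a * a = a → E * a = E →
      imDim a.1 = imDim E.1 + imDim (a + E).1 := fun a ha hEa => by
    have e : a = E + (a + E) := by linear_combination (-E) * h2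
    conv_lhs => rw [e]
    refine imDim_add (congrArg Subtype.val hEE) (congrArg Subtype.val (?_ : (a + E) * (a + E) = a + E))
      (congrArg Subtype.val (?_ : E * (a + E) = 0)) (congrArg Subtype.val (?_ : (a + E) * E = 0))
    · linear_combination ha + 2 * hEa + hEE + E * h2
    · linear_combination hEa + hEE + E * h2
    · linear_combination hEa + hEE + E * h2
  set u1 := pr X' + E with hu1
  set u2 := pr Y' + E with hu2
  set u3 := pr (X' * Y') + E with hu3
  set u4 := pr (X' * (Y' * Y')) + E with hu4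
  have o12 : u1 * u2 = 0 := by rw [hu1, hu2]; linear_combination hEx + hEy + hEE + (2 * E) * h2 - hE
  have o13 : u1 * u3 = 0 := by rw [hu1, hu3]; linear_combination q12 + hEx + hEu + hEE + (2 * E) * h2 - hE
  have o14 : u1 * u4 = 0 := by rw [hu1, hu4]; linear_combination q13 + hEx + hEv + hEE + (2 * E) * h2 - hE
  have o23 : u2 * u3 = 0 := by rw [hu2, hu3]; linear_combination q22 + hEy + hEu + hEE + (2 * E) * h2 - hE
  have o24 : u2 * u4 = 0 := by rw [hu2, hu4]; linear_combination q23 + hEy + hEv + hEE + (2 * E) * h2 - hE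
  have o34 : u3 * u4 = 0 := by rw [hu3, hu4]; linear_combination q33 + hEu + hEv + hEE + (2 * E) * h2 - hE
  have i1 : u1 * u1 = u1 := by rw [hu1]; linear_combination p1 + 2 * hEx + hEE + E * h2
  have i2 : u2 * u2 = u2 := by rw [hu2]; linear_combination p2 + 2 * hEy + hEE + E * h2
  have i3 : u3 * u3 = u3 := by rw [hu3]; linear_combination p3 + 2 * hEu + hEE + E * h2
  have i4 : u4 * u4 = u4 := by rw [hu4]; linear_combination p4 + 2 * hEv + hEE + E * h2
  have e1 : E * u1 = 0 := by rw [hu1]; linear_combination hEx + hEE + E * h2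
  have e2 : E * u2 = 0 := by rw [hu2]; linear_combination hEy + hEE + E * h2
  have e3 : E * u3 = 0 := by rw [hu3]; linear_combination hEu + hEE + E * h2
  have e4 : E * u4 = 0 := by rw [hu4]; linear_combination hEv + hEE + E * h2
  have hone : E + u1 + u2 + u3 + u4 = 1 := by
    rw [hu1, hu2, hu3, hu4]; linear_combination hsum + (3 * E) * h2 - hE
  have hdim : Fintype.card ι = imDim E.1 + imDim u1.1 + imDim u2.1 + imDim u3.1 + imDim u4.1 := by
    have add' : ∀ a b : Algebra.adjoin F ({X, Y} : Set (Matrix ι ι F)), a * a = a → b * b = b → a * b = 0 →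
        imDim (a + b).1 = imDim a.1 + imDim b.1 := fun a b ha hb hab =>
      imDim_add (congrArg Subtype.val ha) (congrArg Subtype.val hb) (congrArg Subtype.val hab)
        (congrArg Subtype.val ((mul_comm b a).trans hab))
    rw [← add' E u1 hEE i1 e1,
      ← add' (E + u1) u2 (by linear_combination hEE + i1 + 2 * e1) i2 (by linear_combination e2 + o12),
      ← add' (E + u1 + u2) u3 (by linear_combination hEE + i1 + i2 + 2 * e1 + 2 * e2 + 2 * o12) i3
        (by linear_combination e3 + o13 + o23),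
      ← add' (E + u1 + u2 + u3) u4
        (by linear_combination hEE + i1 + i2 + i3 + 2 * e1 + 2 * e2 + 2 * e3 + 2 * o12 + 2 * o13 + 2 * o23) i4
        (by linear_combination e4 + o14 + o24 + o34), hone]
    exact imDim_one.symm
  -- all four fixed spaces have one dimension
  have hconj : ∀ (c z : GL ι F), c * x * c⁻¹ = z → imDim (pr (z : Matrix ι ι F)) = imDim (pr X) := fun c z e => by
    rw [← e, ← imDim_conj c (pr X), hXdef]
    congr 1
    simp only [pr, Units.val_mul, mul_add, add_mul, mul_one, Units.mul_inv, mul_assoc,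
      Units.inv_mul_cancel_left]
  have hd1 := split (pr X') p1 hEx
  have hd2 := split (pr Y') p2 hEy
  have hd3 := split (pr (X' * Y')) p3 hEu
  have hd4 := split (pr (X' * (Y' * Y'))) p4 hEv
  have v1 : imDim (pr X').1 = imDim (pr X) := rfl
  have v2 : imDim (pr Y').1 = imDim (pr X) := (hconj c₁ y e₁)
  have v3 : imDim (pr (X' * Y')).1 = imDim (pr X) := by
    have := hconj c₂ _ e₂; rwa [Units.val_mul] at this
  have v4 : imDim (pr (X' * (Y' * Y'))).1 = imDim (pr X) := by
    have := hconj c₃ _ e₃; rwa [Units.val_mul, Units.val_mul] at this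
  rw [← hu1] at hd1
  rw [← hu2] at hd2
  rw [← hu3] at hd3
  rw [← hu4] at hd4
  -- that dimension is not one
  have hne1 : imDim (pr X) ≠ 1 := fun h1 => by
    obtain ⟨⟨v, hv⟩, hv0, -⟩ := finrank_eq_one_iff'.1 h1
    obtain ⟨w, rfl⟩ := hv
    have hXi : ∀ a b, B (X *ᵥ a) b = B a ((X * X) *ᵥ b) := fun a b => by
      rw [← Matrix.mulVec_mulVec]
      have e := h.pres_inv hxP a b
      rw [show x⁻¹ = x * x from inv_eq_of_mul_eq_one_right (by rw [← hx]; simp [pow_succ, mul_assoc]), act_mul] at e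
      exact e
    have hadj : ∀ a b, B (pr X *ᵥ a) b = B a (pr X *ᵥ b) := fun a b => by
      simp only [pr, Matrix.add_mulVec, Matrix.one_mulVec, map_add, LinearMap.add_apply, ← Matrix.mulVec_mulVec]
      rw [hXi a b, hXi (X *ᵥ a) b, hXi a ((X * X) *ᵥ b), Matrix.mulVec_mulVec, Matrix.mulVec_mulVec,
        show X * X * (X * X) = X by
          have := congrArg Subtype.val hX3
          change X ^ 3 = 1 at this
          rw [show X * X * (X * X) = X ^ 3 * X by simp [pow_succ, mul_assoc], this, one_mul]]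
      ring
    refine hv0 (Subtype.ext (h.nondeg _ fun b => ?_))
    show B ((Matrix.toLin' (pr X)) w) b = 0
    rw [Matrix.toLin'_apply]
    have hid : pr X * pr X = pr X := congrArg Subtype.val p1
    have hline : ∃ c : F, pr X *ᵥ b = c • (pr X *ᵥ w) := by
      obtain ⟨⟨v, hv⟩, -, hall⟩ := finrank_eq_one_iff'.1 h1
      obtain ⟨c1, hc1⟩ := hall ⟨pr X *ᵥ b, ⟨b, rfl⟩⟩
      obtain ⟨c2, hc2⟩ := hall ⟨pr X *ᵥ w, ⟨w, rfl⟩⟩
      have hc1' := congrArg Subtype.val hc1
      have hc2' := congrArg Subtype.val hc2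
      simp only [SetLike.val_smul] at hc1' hc2'
      refine ⟨c1 / c2, ?_⟩
      have hc20 : c2 ≠ 0 := fun e0 => hv0 (Subtype.ext (by
        rw [e0, zero_smul] at hc2'
        exact hc2'.symm))
      rw [← hc1', ← hc2', smul_smul, div_mul_cancel₀ _ hc20]
    obtain ⟨c, hc⟩ := hline
    rw [← hid, ← Matrix.mulVec_mulVec, hadj, hc, map_smul, h.alt, smul_zero]
  have hne4 : imDim (pr X) ≠ 4 := fun h4 => by
    have htop : LinearMap.range (pr X).toLin' = ⊤ :=
      Submodule.eq_top_of_finrank_eq (h4.trans (by rw [h.finrank_eq]))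
    refine hx1 (ext_act fun a => ?_)
    obtain ⟨b, rfl⟩ := LinearMap.range_eq_top.1 htop a
    rw [act_one, Matrix.toLin'_apply]
    show X *ᵥ (pr X *ᵥ b) = _
    rw [Matrix.mulVec_mulVec]
    congr 1
    have := congrArg Subtype.val hX3
    change X ^ 3 = 1 at this
    simp only [pr, mul_add, mul_one]
    rw [show X * (X * X) = X ^ 3 by simp [pow_succ, mul_assoc], this]
    abel
  have := h.card
  omega

/-- `diag(1, w, w²)`. -/
def slX {K : Type*} [Field K] {w : K} (hw3 : w ^ 3 = 1) : Matrix.SpecialLinearGroup (Fin 3) K :=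
  ⟨!![1, 0, 0; 0, w, 0; 0, 0, w ^ 2], by simp [Matrix.det_fin_three]; linear_combination hw3⟩

theorem slX_val {K : Type*} [Field K] {w : K} (hw3 : w ^ 3 = 1) :
    (slX hw3).1 = !![1, 0, 0; 0, w, 0; 0, 0, w ^ 2] := rfl

/-- The cyclic permutation of the coordinates. -/
def slY (K : Type*) [Field K] : Matrix.SpecialLinearGroup (Fin 3) K :=
  ⟨!![0, 0, 1; 1, 0, 0; 0, 1, 0], by simp [Matrix.det_fin_three]⟩

theorem slY_val (K : Type*) [Field K] : (slY K).1 = !![0, 0, 1; 1, 0, 0; 0, 1, 0] := rfl

/-- `P` is not `PSL₃(4)`. -/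
theorem Ctx.false_of_psl_three_four (h : Ctx B P) {K : Type*} [Field K] [Fintype K] (hK : Fintype.card K = 4)
    (e : P ≃* Matrix.ProjectiveSpecialLinearGroup (Fin 3) K) : False := by
  classical
  have h2 : (2 : K) = 0 := by
    have h1 : ((4 : ℕ) : K) = 0 := hK ▸ FiniteField.cast_card_eq_zero K
    push_cast at h1
    exact mul_self_eq_zero.1 (show (2 : K) * 2 = 0 by linear_combination h1)
  obtain ⟨w, hw0, hw1⟩ : ∃ w : K, w ≠ 0 ∧ w ≠ 1 := by
    obtain ⟨w, hw⟩ := Finset.exists_mem_notMem_of_card_lt_card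
      (show ({0, 1} : Finset K).card < (Finset.univ : Finset K).card by
        rw [Finset.card_univ, hK]; exact (Finset.card_le_two).trans_lt (by norm_num))
    exact ⟨w, by simpa using hw.2 |> fun q => (not_or.1 (by simpa using q)).1, (not_or.1 (by simpa using hw.2)).2⟩
  have hw3 : w ^ 3 = 1 := by
    have := FiniteField.pow_card_sub_one_eq_one w hw0
    rwa [hK] at this
  have hw2 : w ^ 2 + w + 1 = 0 := by
    have : (w - 1) * (w ^ 2 + w + 1) = 0 := by linear_combination hw3
    exact (mul_eq_zero.1 this).resolve_left (sub_ne_zero.2 hw1)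
  let mk : Matrix.SpecialLinearGroup (Fin 3) K →* GL ι F :=
    (P.subtype.comp e.symm.toMonoidHom).comp (QuotientGroup.mk' _)
  set SX := slX hw3 with hSX
  set SY := slY K with hSY
  have conj : ∀ (Z : Matrix.SpecialLinearGroup (Fin 3) K) (Q : Matrix (Fin 3) (Fin 3) K), Q.det ≠ 0 →
      (Z : Matrix (Fin 3) (Fin 3) K) * Q = Q * (SX : Matrix (Fin 3) (Fin 3) K) →
      ∃ c, c * mk SX * c⁻¹ = mk Z := fun Z Q hQ hZQ => by
    let S : Matrix.SpecialLinearGroup (Fin 3) K := ⟨Q * Matrix.diagonal ![Q.det⁻¹, 1, 1], by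
      simp [Matrix.det_mul, Fin.prod_univ_three, hQ]⟩
    refine ⟨mk S, ?_⟩
    rw [← map_inv, ← map_mul, ← map_mul]
    refine congrArg mk (mul_inv_eq_iff_eq_mul.2 (Subtype.ext ?_))
    simp only [Matrix.SpecialLinearGroup.coe_mul]
    show Q * Matrix.diagonal _ * _ = _ * (Q * Matrix.diagonal _)
    rw [← Matrix.mul_assoc, hZQ, Matrix.mul_assoc, Matrix.mul_assoc]
    congr 1
    ext i j
    fin_cases i <;> fin_cases j <;> simp [hSX, slX_val, Matrix.mul_apply, Fin.sum_univ_three, mul_comm]
  obtain ⟨c₁, e₁⟩ := conj SY !![1, 1, 1; 1, w ^ 2, w; 1, w, w ^ 2]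
    (by simp [Matrix.det_fin_three]; intro hd; apply one_ne_zero (α := K); grobner) (by
      ext i j
      fin_cases i <;> fin_cases j <;> simp [hSX, hSY, slX_val, slY_val, Matrix.SpecialLinearGroup.coe_mul, Matrix.mul_apply, Fin.sum_univ_three] <;>
        first | (linear_combination hw3) | (linear_combination -hw3) | (linear_combination (w : K) * hw3) | (linear_combination -(w : K) * hw3) | grobner)
  obtain ⟨c₂, e₂⟩ := conj (SX * SY) !![1, 1, 1; w, 1, w ^ 2; 1, w, w ^ 2]
    (by simp [Matrix.det_fin_three]; intro hd; apply one_ne_zero (α := K); grobner) (by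
      ext i j
      fin_cases i <;> fin_cases j <;> simp [hSX, hSY, slX_val, slY_val, Matrix.SpecialLinearGroup.coe_mul, Matrix.mul_apply, Fin.sum_univ_three] <;> grobner)
  obtain ⟨c₃, e₃⟩ := conj (SX * (SY * SY)) !![1, 1, 1; 1, w, w ^ 2; w ^ 2, w, 1]
    (by simp [Matrix.det_fin_three]; intro hd; apply one_ne_zero (α := K); grobner) (by
      ext i j
      fin_cases i <;> fin_cases j <;> simp [hSX, hSY, slX_val, slY_val, Matrix.SpecialLinearGroup.coe_mul, Matrix.mul_apply, Fin.sum_univ_three] <;> grobner)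
  rw [map_mul] at e₂
  rw [map_mul, map_mul] at e₃
  refine h.false_of_three_three (Subtype.prop _) (Subtype.prop _) ?_ ?_ ?_ ?_ c₁ c₂ c₃ e₁ e₂ e₃
  · refine (map_mul mk SX SY).symm.trans ((congrArg (fun z => P.subtype (e.symm z)) ?_).trans (map_mul mk SY SX))
    refine (QuotientGroup.mk'_eq_mk' _).2 ⟨⟨Matrix.scalar (Fin 3) (w ^ 2), by
      simp [Fin.prod_univ_three, Matrix.scalar_apply]; linear_combination (w ^ 3 + 1) * hw3⟩, ?_, ?_⟩
    · exact Matrix.SpecialLinearGroup.mem_center_iff.2 ⟨w ^ 2, by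
        rw [Fintype.card_fin]; linear_combination (w ^ 3 + 1) * hw3, rfl⟩
    · refine Subtype.ext ?_
      show SX.1 * SY.1 * Matrix.scalar (Fin 3) (w ^ 2) = SY.1 * SX.1
      ext i j
      fin_cases i <;> fin_cases j <;>
        simp [hSX, hSY, slX_val, slY_val, Matrix.SpecialLinearGroup.coe_mul, Matrix.SpecialLinearGroup.coe_mul, Matrix.mul_apply, Fin.sum_univ_three, Matrix.scalar_apply] <;>
        grobner
  · refine (map_pow mk SX 3).symm.trans ?_
    rw [show SX ^ 3 = 1 from Subtype.ext (by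
      rw [Matrix.SpecialLinearGroup.coe_pow, hSX, slX_val]
      ext i j
      fin_cases i <;> fin_cases j <;> simp [pow_succ, Matrix.mul_apply, Fin.sum_univ_three] <;> grobner), map_one]
  · refine (map_pow mk SY 3).symm.trans ?_
    rw [show SY ^ 3 = 1 from Subtype.ext (by
      rw [Matrix.SpecialLinearGroup.coe_pow, hSY, slY_val]
      ext i j
      fin_cases i <;> fin_cases j <;> simp [pow_succ, Matrix.mul_apply, Fin.sum_univ_three]), map_one]
  · intro e1
    have h1 : QuotientGroup.mk' (Subgroup.center (Matrix.SpecialLinearGroup (Fin 3) K)) SX = 1 :=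
      e.symm.injective (Subtype.ext (e1.trans (by simp)))
    obtain ⟨r, -, hr⟩ := Matrix.SpecialLinearGroup.mem_center_iff.1 ((QuotientGroup.eq_one_iff _).1 h1)
    have ha := congrFun (congrFun hr 0) 0
    have hb := congrFun (congrFun hr 1) 1
    simp [hSX, slX_val, Matrix.scalar_apply] at ha hb
    exact hw1 (hb.symm.trans ha)

end Cfsg.Agent.SpFourEven
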