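import Cfsg.Agent.Lib.Classical.SpFourEven.Realise
import Cfsg.Agent.Lib.Lie.SuzukiFrobConj
import Cfsg.Agent.Lib.Solv.CIT.SzModel

/-!
# The Suzuki case: the two fields agree

If `P` is a Suzuki group over `r` elements then all its traces are fixed by `c ↦ c^r`.
-/

set_option autoImplicit false
set_option linter.unusedSectionVars false
set_option linter.style.haveILetI false

namespace Cfsg.Agent.SpFourEven

open Matrix Cfsg.Geo Module
open Cfsg.Agent.Classical (fixedField mem_fixedField)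

variable {ι : Type} [Fintype ι] [DecidableEq ι] {F : Type*} [Field F]
  {B : LinearMap.BilinForm F (ι → F)} {P : Subgroup (GL ι F)}

/-- In characteristic two the trace of a square is the square of the trace. -/
theorem trace_mul_self (h2 : (2 : F) = 0) (M : Matrix ι ι F) : (M * M).trace = M.trace * M.trace := by
  classical
  rw [Matrix.trace, Matrix.trace, Finset.sum_mul_sum]
  simp only [Matrix.diag_apply, Matrix.mul_apply]
  rw [← sub_eq_zero, ← Finset.sum_sub_distrib]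
  simp only [← Finset.sum_sub_distrib, ← Finset.sum_product']
  refine Finset.sum_involution (fun a _ => (a.2, a.1)) ?_ ?_ (fun a _ => Finset.mem_univ _) (fun a _ => rfl)
  · intro a _
    linear_combination (M a.1 a.2 * M a.2 a.1 - M a.1 a.1 * M a.2 a.2) * h2
  · intro a _ hne e
    apply hne
    have e1 : a.2 = a.1 := congrArg Prod.fst e
    rw [e1, sub_self]

theorem trace_pow_two_pow (h2 : (2 : F) = 0) (M : Matrix ι ι F) (k : ℕ) :
    (M ^ 2 ^ k).trace = M.trace ^ 2 ^ k := by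
  induction k with
  | zero => simp
  | succ k ih => rw [pow_succ, pow_mul, pow_two, trace_mul_self h2, ih, ← pow_two, ← pow_mul]

theorem card_gl_dvd [Finite F] (hcard : Fintype.card ι = 4) (P : Subgroup (GL ι F)) :
    Nat.card P ∣ Nat.card F ^ 6 * (Nat.card F - 1) * (Nat.card F ^ 2 - 1) * (Nat.card F ^ 3 - 1) * (Nat.card F ^ 4 - 1) := by
  haveI := Fintype.ofFinite F
  let e : ι ≃ Fin 4 := Fintype.equivFinOfCardEq hcard
  have h1 : Nat.card (GL ι F) = Nat.card (GL (Fin 4) F) :=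
    Nat.card_congr (Units.mapEquiv (Matrix.reindexAlgEquiv F F e).toMulEquiv).toEquiv
  have h2 := Subgroup.card_subgroup_dvd_card P
  rw [h1, Matrix.card_GL_field, Fin.prod_univ_four] at h2
  rw [Nat.card_eq_fintype_card (α := F)]
  generalize Fintype.card F = q at h2 ⊢
  refine h2.trans (dvd_of_eq ?_)
  simp only [Fin.val_zero, Fin.val_one, Fin.val_two, show ((3 : Fin 4) : ℕ) = 3 from rfl, pow_zero, pow_one]
  rw [show q ^ 4 - q = q * (q ^ 3 - 1) by rw [Nat.mul_sub, mul_one, ← pow_succ'],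
    show q ^ 4 - q ^ 2 = q ^ 2 * (q ^ 2 - 1) by rw [Nat.mul_sub, mul_one, ← pow_add],
    show q ^ 4 - q ^ 3 = q ^ 3 * (q - 1) by rw [Nat.mul_sub, mul_one, ← pow_succ]]
  ring

/-- The arithmetic: `r² (r² + 1)` forbids `r = q³` and smaller `q`. -/
theorem degree_eq {f n : ℕ} (hn : Odd n) (hfn : f ∣ n)
    (hdvd : (2 ^ n) ^ 2 * ((2 ^ n) ^ 2 + 1) * (2 ^ n - 1) ∣
      (2 ^ f) ^ 6 * (2 ^ f - 1) * ((2 ^ f) ^ 2 - 1) * ((2 ^ f) ^ 3 - 1) * ((2 ^ f) ^ 4 - 1)) : f = n := by
  set q := 2 ^ f with hq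
  have hf0 : f ≠ 0 := fun e => by subst e; exact Nat.not_odd_zero ((zero_dvd_iff.1 hfn) ▸ hn)
  have h2q : 2 ∣ q := dvd_pow_self 2 hf0
  have hodd : ∀ k, k ≠ 0 → (2 ^ (2 * n)).Coprime (q ^ k - 1) := fun k hk => by
    refine Nat.Coprime.pow_left _ (Nat.coprime_two_left.2 ?_)
    have h1 : 2 ∣ q ^ k := h2q.trans (dvd_pow_self q hk)
    have h3 : 0 < q ^ k := pow_pos (by rw [hq]; exact Nat.two_pow_pos f) k
    rw [Nat.odd_iff]
    omega
  have h4 : 2 ^ (2 * n) ∣ q ^ 6 := by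
    have h := (dvd_mul_right ((2 ^ n) ^ 2) (((2 ^ n) ^ 2 + 1) * (2 ^ n - 1))).trans ((mul_assoc _ _ _).symm.dvd.trans hdvd)
    rw [← pow_mul, mul_comm n 2] at h
    have h1 := hodd 1 one_ne_zero
    rw [pow_one] at h1
    exact h1.dvd_of_dvd_mul_right ((hodd 2 (by norm_num)).dvd_of_dvd_mul_right ((hodd 3 (by norm_num)).dvd_of_dvd_mul_right
        ((hodd 4 (by norm_num)).dvd_of_dvd_mul_right h)))
  rw [hq, ← pow_mul, Nat.pow_dvd_pow_iff_le_right (by norm_num)] at h4
  obtain ⟨c, hc⟩ := hfn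
  have hc3 : c ≤ 3 := by
    by_contra h3
    have : f * 4 ≤ f * c := Nat.mul_le_mul_left f (by omega)
    omega
  have hcodd : Odd c := (Nat.odd_mul.1 (hc ▸ hn)).2
  obtain rfl | rfl : c = 1 ∨ c = 3 := by rw [Nat.odd_iff] at hcodd; omega
  · rw [hc, mul_one]
  exfalso
  -- a divisor of `q⁶ + 1` prime to the order of the linear group
  have hq2 : 2 ≤ q := Nat.le_of_dvd (by rw [hq]; exact Nat.two_pow_pos f) h2q
  set d := q ^ 4 - q ^ 2 + 1 with hd
  have hle : q ^ 2 ≤ q ^ 4 := Nat.pow_le_pow_right (by omega) (by norm_num)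
  have hfac : (2 ^ n) ^ 2 + 1 = (q ^ 2 + 1) * d := by
    rw [hc, hd, pow_mul, ← hq]
    zify [hle]
    ring
  have hdd : d ∣ q ^ 6 * (q - 1) * (q ^ 2 - 1) * (q ^ 3 - 1) * (q ^ 4 - 1) :=
    ((hfac ▸ dvd_mul_left d (q ^ 2 + 1) : d ∣ (2 ^ n) ^ 2 + 1).trans
      ((dvd_mul_left _ _).trans (dvd_mul_right _ _))).trans hdvd
  have hcop : ∀ x, (∀ p : ℕ, p.Prime → p ∣ d → ¬ p ∣ x) → d.Coprime x := fun x hx =>
    Nat.coprime_of_dvd fun p hp h1 h2 => hx p hp h1 h2
  have hsq3 : ∀ y : ZMod 3, y ^ 2 ≠ 2 := by decide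
  have hkey : ∀ p : ℕ, p.Prime → p ∣ d → ¬ p ∣ q ∧ ¬ p ∣ q ^ 6 - 1 ∧ ¬ p ∣ q ^ 4 - 1 := by
    intro p hp hpd
    have hz : ((q : ZMod p)) ^ 4 - (q : ZMod p) ^ 2 + 1 = 0 := by
      have := (ZMod.natCast_eq_zero_iff d p).2 hpd
      rw [hd, Nat.cast_add, Nat.cast_sub hle] at this
      push_cast at this
      exact this
    haveI := Fact.mk hp
    have h6 : (q : ZMod p) ^ 6 = -1 := by linear_combination ((q : ZMod p) ^ 2 + 1) * hz
    have cast1 : ∀ k, p ∣ q ^ k - 1 → (q : ZMod p) ^ k = 1 := fun k hk => by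
      have := (ZMod.natCast_eq_zero_iff _ p).2 hk
      rw [Nat.cast_sub (Nat.one_le_pow _ _ (by omega))] at this
      push_cast at this
      linear_combination this
    refine ⟨fun hpq => ?_, fun hp6 => ?_, fun hp4 => ?_⟩
    · have := (ZMod.natCast_eq_zero_iff q p).2 hpq
      rw [this] at hz
      simp at hz
    · have e2 : ((2 : ℕ) : ZMod p) = 0 := by push_cast; linear_combination -(cast1 6 hp6) + h6
      obtain rfl : p = 2 := (Nat.prime_dvd_prime_iff_eq hp Nat.prime_two).1 ((ZMod.natCast_eq_zero_iff _ _).1 e2)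
      have h0 : ((q : ℕ) : ZMod 2) = 0 := (ZMod.natCast_eq_zero_iff q 2).2 h2q
      rw [h0] at hz
      simp at hz
    · have e4 := cast1 4 hp4
      have e2 : (q : ZMod p) ^ 2 = 2 := by linear_combination -hz + e4
      have e3 : ((3 : ℕ) : ZMod p) = 0 := by push_cast; linear_combination ((q : ZMod p) ^ 2 + 2) * (-e2) + e4
      obtain rfl : p = 3 := (Nat.prime_dvd_prime_iff_eq hp Nat.prime_three).1 ((ZMod.natCast_eq_zero_iff _ _).1 e3)
      exact absurd e2 (hsq3 _)
  have h1 : d ∣ q ^ 6 := by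
    have hsub : ∀ k, k ∣ 6 → q ^ k - 1 ∣ q ^ 6 - 1 := fun k hk => by
      obtain ⟨j, hj⟩ := hk
      rw [hj, pow_mul]
      simpa using Nat.sub_dvd_pow_sub_pow (q ^ k) 1 j
    refine (hcop (q - 1) fun p hp hpd h => (hkey p hp hpd).2.1 (h.trans (by simpa using hsub 1 (by norm_num)))).dvd_of_dvd_mul_right
      ((hcop (q ^ 2 - 1) fun p hp hpd h => (hkey p hp hpd).2.1 (h.trans (hsub 2 (by norm_num)))).dvd_of_dvd_mul_right
      ((hcop (q ^ 3 - 1) fun p hp hpd h => (hkey p hp hpd).2.1 (h.trans (hsub 3 (by norm_num)))).dvd_of_dvd_mul_right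
      ((hcop (q ^ 4 - 1) fun p hp hpd h => (hkey p hp hpd).2.2 h).dvd_of_dvd_mul_right hdd)))
  have hd1 : d = 1 := Nat.eq_one_of_dvd_coprimes
    ((hcop q fun p hp hpd => (hkey p hp hpd).1).pow_right 6) dvd_rfl h1
  rw [hd] at hd1
  have : q ^ 2 < q ^ 4 := Nat.pow_lt_pow_right (by omega) (by norm_num)
  omega

/-- The field of a Suzuki group among these is that of the ambient space. -/
theorem Ctx.suzuki_field [Fintype F] (h : Ctx B P) (habs : ActsAbsolutelyIrreducibly (matrixSet P))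
    (hns : ∀ F0 : Subfield F, F0 ≠ ⊤ → ¬ RealisableOver F0 (matrixSet P))
    (hcit : Solv.CITGroups.CIT P) (hs : Cfsg.Lie.IsoSuzuki P) :
    ∃ m : ℕ, 1 ≤ m ∧ Fintype.card F = 2 ^ (2 * m + 1) ∧ Nonempty (P ≃* Cfsg.Lie.Sz F (2 ^ (m + 1))) := by
  classical
  obtain ⟨K, iK, iKF, m, hm, hK, ⟨e⟩⟩ := hs
  obtain ⟨e'⟩ := Cfsg.Agent.Lie.Suzuki.lie_sz_equiv (F := K) hK hm
  let eS : P ≃* Cfsg.Sz K m := e.trans e'.symm
  set n := 2 * m + 1 with hn
  haveI : Nonempty ι := Fintype.card_pos_iff.1 (by rw [h.card]; norm_num)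
  haveI : CharP F 2 := CharTwo.of_one_ne_zero_of_two_eq_zero one_ne_zero h.two
  haveI : ExpChar F 2 := ExpChar.prime Nat.prime_two
  haveI : PerfectRing F 2 := inferInstance
  -- traces
  have htr : ∀ g ∈ P, (g : Matrix ι ι F).trace ^ 2 ^ n = (g : Matrix ι ι F).trace := by
    intro g hg
    set y : P := ⟨g, hg⟩ with hy
    rcases Nat.even_or_odd (orderOf y) with hev | hodd
    · obtain ⟨k, hk⟩ := hcit _ (orderOf_pow_orderOf_div (orderOf_pos y).ne' (even_iff_two_dvd.1 hev))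
        ⟨y, Subgroup.mem_centralizer_singleton_iff.2 (Commute.self_pow y _).eq⟩
      have hk' : (g : Matrix ι ι F) ^ 2 ^ k = 1 := by
        rw [← Units.val_pow_eq_pow_val, show g ^ 2 ^ k = 1 from congrArg Subtype.val (congrArg Subtype.val hk),
          Units.val_one]
      have h0 : (g : Matrix ι ι F).trace ^ 2 ^ k = 0 := by
        rw [← trace_pow_two_pow h.two, hk', Matrix.trace_one, h.card]
        push_cast
        linear_combination 2 * h.two
      rw [eq_zero_of_pow_eq_zero h0, zero_pow (Nat.two_pow_pos n).ne']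
    · obtain ⟨c, hc⟩ := Cfsg.Agent.Lie.Suzuki.FrobConj.conj_pow_of_odd hK hm
        (x := eS y) (by rwa [MulEquiv.orderOf_eq])
      have hpow : eS.symm c * y * (eS.symm c)⁻¹ = y ^ 2 ^ n := eS.injective (by
        rw [map_mul, map_mul, map_inv, eS.apply_symm_apply, map_pow, hc, hK])
      have hpow' : ((eS.symm c : P) : GL ι F) * g * ((eS.symm c : P) : GL ι F)⁻¹ = g ^ 2 ^ n :=
        congrArg Subtype.val hpow
      rw [← trace_pow_two_pow h.two, ← Units.val_pow_eq_pow_val, ← hpow', Units.val_mul, Units.val_mul,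
        Matrix.trace_units_conj]
  -- the field is fixed
  set τ : F ≃+* F := iterateFrobeniusEquiv F 2 n with hτ
  have hreal := realisable_of_traces habs τ fun g hg => by
    rw [hτ, iterateFrobeniusEquiv_def]; exact htr g hg
  have htop : fixedField τ = ⊤ := by_contra fun hne => hns _ hne hreal
  have hall : ∀ x : F, x ^ 2 ^ n = x := fun x => by
    have hx : x ∈ fixedField τ := htop ▸ Subfield.mem_top x
    rwa [mem_fixedField, hτ, iterateFrobeniusEquiv_def] at hx
  obtain ⟨f, -, hf⟩ := FiniteField.card F 2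
  have hfn : (f : ℕ) ∣ n := by
    obtain ⟨u, hu⟩ := IsCyclic.exists_generator (α := Fˣ)
    have ho : orderOf u = Fintype.card Fˣ := by
      rw [← Nat.card_eq_fintype_card]; exact orderOf_eq_card_of_forall_mem_zpowers hu
    have h1 : orderOf u ∣ 2 ^ n - 1 := by
      refine orderOf_dvd_of_pow_eq_one (Units.ext ?_)
      have e1 := hall (u : F)
      rw [← Nat.sub_add_cancel (Nat.two_pow_pos n : 0 < 2 ^ n), pow_succ] at e1
      rw [Units.val_pow_eq_pow_val, Units.val_one]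
      exact mul_right_cancel₀ u.ne_zero (e1.trans (one_mul _).symm)
    rw [ho, Fintype.card_units, hf] at h1
    have h2 := Nat.gcd_eq_left h1
    rw [Nat.pow_sub_one_gcd_pow_sub_one] at h2
    have h3 : Nat.gcd f n = f := by
      refine Nat.pow_right_injective le_rfl (show 2 ^ Nat.gcd f n = 2 ^ (f : ℕ) from ?_)
      have := Nat.two_pow_pos (Nat.gcd f n)
      have := Nat.two_pow_pos (f : ℕ)
      omega
    rw [← h3]
    exact Nat.gcd_dvd_right _ _
  have hfeq : (f : ℕ) = n := by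
    refine degree_eq ⟨m, hn⟩ hfn ?_
    have hd := card_gl_dvd h.card P
    rw [Nat.card_congr e.toEquiv, Solv.CITGroups.SzModel.card_model hK hm, Nat.card_eq_fintype_card, hf] at hd
    exact hd
  refine ⟨m, hm, by rw [hf, hfeq], ?_⟩
  obtain ⟨ec⟩ := Solv.CITGroups.SzModel.congr (FiniteField.ringEquivOfCardEq (K := K) (K' := F) (by rw [hK, hf, hfeq])) (2 ^ (m + 1))
  exact ⟨e.trans ec⟩

end Cfsg.Agent.SpFourEven
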