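import Cfsg.Agent.Lib.Classical.SpFourEven.Hua
import Cfsg.Agent.Lib.Classical.SpFourEven.CitSmall
import Cfsg.Agent.Lib.Classical.SpFourEven.CitSuzuki
import Cfsg.Agent.Lib.Solv.CIT.EPPOSimple

/-!
# The outcome when every involution is of type `c₂`

`P` is a Suzuki group over the field of the space, or an alternating group of degree six.
-/

set_option autoImplicit false
set_option linter.unusedSectionVars false
set_option linter.style.haveILetI false

namespace Cfsg.Agent.SpFourEven

open Matrix Cfsg.Geo Module

variable {ι : Type} [Fintype ι] [DecidableEq ι] {F : Type*} [Field F]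
  {B : LinearMap.BilinForm F (ι → F)} {P : Subgroup (GL ι F)}

/-- The outcome of the centraliser classification. -/
theorem Ctx.cit_outcome [Fintype F] (h : Ctx B P) (habs : ActsAbsolutelyIrreducibly (matrixSet P))
    (hQ : ¬ ∃ Q : (ι → F) → F, IsNondegenerateQuadraticForm Q ∧ FixesQuadForm (matrixSet P) Q)
    (hns : ∀ F0 : Subfield F, F0 ≠ ⊤ → ¬ RealisableOver F0 (matrixSet P))
    (hc : AllNonAlt B P) (heven : 2 ∣ Nat.card P) :
    (∃ m : ℕ, 1 ≤ m ∧ Fintype.card F = 2 ^ (2 * m + 1) ∧ Nonempty (P ≃* Cfsg.Lie.Sz F (2 ^ (m + 1)))) ∨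
      Nonempty (P ≃* alternatingGroup (Fin 6)) := by
  classical
  haveI := h.simple
  have hna : ∃ a b : P, a * b ≠ b * a := by
    obtain ⟨x, hx, y, hy, hxy⟩ := h.nonab
    exact ⟨⟨x, hx⟩, ⟨y, hy⟩, fun e => hxy (congrArg Subtype.val e)⟩
  rcases Solv.CITGroups.cit_classification_iso hna (h.cit hc) heven with
    ⟨K, iK, iKF, hcase, ⟨e⟩⟩ | ⟨K, iK, iKF, h4, ⟨e⟩⟩ | hS
  · have h4 := Solv.CITGroups.four_le_card hna e
    have hcard := Classical.Dickson.card_psl K
    rw [← Nat.card_congr e.toEquiv] at hcard
    rcases hcase with h9 | ⟨n, hn⟩ | ⟨hp, -⟩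
    · rw [h9] at hcard
      norm_num [-Nat.card_eq_fintype_card] at hcard
      exact Or.inr (S0497.result (by omega))
    · exact (h.false_of_psl_two_even habs hQ hc hn e).elim
    · rcases lt_or_ge (Fintype.card K) 7 with hlt | h7
      · -- five elements give the group over four elements
        obtain h5 : Fintype.card K = 5 := by
          obtain e4 | e5 | e6 : Fintype.card K = 4 ∨ Fintype.card K = 5 ∨ Fintype.card K = 6 := by omega
          · rw [e4] at hp; norm_num at hp
          · exact e5
          · rw [e6] at hp; norm_num at hp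
        rw [h5] at hcard
        norm_num [-Nat.card_eq_fintype_card] at hcard
        let L := GaloisField 2 2
        haveI := Fintype.ofFinite L
        have hL : Fintype.card L = 4 := by
          rw [← Nat.card_eq_fintype_card, GaloisField.card 2 2 two_ne_zero]; norm_num
        haveI : IsSimpleGroup (Matrix.ProjectiveSpecialLinearGroup (Fin 2) L) :=
          Matrix.ProjectiveSpecialLinearGroup.rank_two_simple (by rw [Nat.card_eq_fintype_card, hL])
        have hcL := Classical.Dickson.card_psl L
        rw [hL, show Nat.gcd 2 (4 - 1) = 1 from rfl, mul_one] at hcL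
        obtain ⟨e₁⟩ := Lie.simple_sixty (G := P) (by omega)
        obtain ⟨e₂⟩ := Lie.simple_sixty (G := Matrix.ProjectiveSpecialLinearGroup (Fin 2) L)
          (hcL.trans (by norm_num))
        exact (h.false_of_psl_two_even habs hQ hc (n := 2) (by rw [hL]; norm_num) (e₁.trans e₂.symm)).elim
      · exact (h.false_of_psl_two_prime hp h7 e).elim
  · exact (h.false_of_psl_three_four h4 e).elim
  · exact Or.inl (h.suzuki_field habs hns (h.cit hc) hS)

end Cfsg.Agent.SpFourEven
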