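import Cfsg.Agent.Lib.Classical.SpFourEven.Pair

/-!
# The two-dimensional linear groups of even degree in the four-dimensional symplectic groups

An irreducible `SL₂(K)`, `K` of characteristic two, all whose involutions are of type `c₂`: if the
unitriangular elements have one common fixed plane the group is not absolutely irreducible, and
otherwise it fixes a nondegenerate quadratic form.
-/

set_option autoImplicit false
set_option linter.unusedSectionVars false
set_option linter.style.haveILetI false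

namespace Cfsg.Agent.SpFourEven

open Matrix Cfsg.Geo Module

variable {ι : Type} [Fintype ι] [DecidableEq ι] {F : Type*} [Field F]
  {B : LinearMap.BilinForm F (ι → F)} {P : Subgroup (GL ι F)}
  {K : Type*} [Field K]

/-- The displacement `x ↦ x + g x` of a matrix in characteristic two. -/
def disp (g : GL ι F) : Module.End F (ι → F) :=
  LinearMap.id + Matrix.toLin' (g : Matrix ι ι F)

theorem disp_apply (g : GL ι F) (x : ι → F) : disp g x = x + act g x := by
  simp [disp, act]

theorem disp_one (h : Ctx B P) : disp (1 : GL ι F) = 0 :=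
  LinearMap.ext fun x => by rw [disp_apply, act_one, h.add_self]; rfl

theorem act_eq (h : Ctx B P) (g : GL ι F) (x : ι → F) : act g x = x + disp g x := by
  rw [disp_apply, ← add_assoc, h.add_self, zero_add]

theorem disp_mul (h : Ctx B P) (g k : GL ι F) :
    disp (g * k) = disp g + disp k + disp g * disp k := by
  refine LinearMap.ext fun x => ?_
  rw [LinearMap.add_apply, LinearMap.add_apply, Module.End.mul_apply, disp_apply, act_mul,
    disp_apply k, disp_apply g x, disp_apply g, act_add]
  linear_combination (norm := module) -(h.add_self x) - h.add_self (act g x) - h.add_self (act k x)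

theorem disp_adj (h : Ctx B P) {g : GL ι F} (hg : g ∈ P) (hg2 : g * g = 1) (x y : ι → F) :
    B (disp g x) y = B x (disp g y) := by
  rw [disp_apply, disp_apply, map_add, map_add, LinearMap.add_apply, h.pres_inv hg]
  rw [show g⁻¹ = g from inv_eq_of_mul_eq_one_right hg2]

namespace Hua

/-- `[[1, a], [0, 1]]`. -/
def uM (a : K) : (Matrix.SpecialLinearGroup (Fin 2) K) := ⟨!![1, a; 0, 1], by simp [Matrix.det_fin_two]⟩

/-- `[[1, 0], [b, 1]]`. -/
def vM (b : K) : (Matrix.SpecialLinearGroup (Fin 2) K) := ⟨!![1, 0; b, 1], by simp [Matrix.det_fin_two]⟩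

/-- `[[0, a], [a⁻¹, 0]]`. -/
def wM (h2 : (2 : K) = 0) {a : K} (ha : a ≠ 0) : (Matrix.SpecialLinearGroup (Fin 2) K) :=
  ⟨!![0, a; a⁻¹, 0], by
    simp [Matrix.det_fin_two, mul_inv_cancel₀ ha]
    linear_combination -h2⟩

theorem uM_val (a : K) : (uM a).1 = !![1, a; 0, 1] := rfl

theorem vM_val (b : K) : (vM b).1 = !![1, 0; b, 1] := rfl

theorem wM_val (h2 : (2 : K) = 0) {a : K} (ha : a ≠ 0) : (wM h2 ha).1 = !![0, a; a⁻¹, 0] := rfl

theorem uM_zero : uM (0 : K) = 1 := Subtype.ext (by ext i j; fin_cases i <;> fin_cases j <;> simp [uM_val])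

theorem vM_zero : vM (0 : K) = 1 := Subtype.ext (by ext i j; fin_cases i <;> fin_cases j <;> simp [vM_val])

theorem uM_add (a b : K) : uM (a + b) = uM a * uM b :=
  Subtype.ext (by ext i j; fin_cases i <;> fin_cases j <;> simp [uM_val, Matrix.SpecialLinearGroup.coe_mul, Matrix.mul_apply, Fin.sum_univ_two, add_comm])

theorem vM_add (a b : K) : vM (a + b) = vM a * vM b :=
  Subtype.ext (by ext i j; fin_cases i <;> fin_cases j <;> simp [vM_val, Matrix.SpecialLinearGroup.coe_mul, Matrix.mul_apply, Fin.sum_univ_two])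

theorem uM_eq_one {a : K} (h : uM a = 1) : a = 0 := by
  have := congrFun (congrFun (congrArg Subtype.val h) 0) 1
  simpa [uM_val] using this

variable (h2 : (2 : K) = 0)

include h2

theorem wM_sq {a : K} (ha : a ≠ 0) : wM h2 ha * wM h2 ha = 1 :=
  Subtype.ext (by ext i j; fin_cases i <;> fin_cases j <;> simp [wM_val, ha, Matrix.SpecialLinearGroup.coe_mul, Matrix.mul_apply, Fin.sum_univ_two])

theorem wM_eq_uvu {a : K} (ha : a ≠ 0) : wM h2 ha = uM a * vM a⁻¹ * uM a :=
  Subtype.ext (by
    ext i j
    fin_cases i <;> fin_cases j <;> simp [wM_val, uM_val, vM_val, ha, Matrix.SpecialLinearGroup.coe_mul, Matrix.mul_apply, Fin.sum_univ_two]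
    all_goals first
      | linear_combination h2 | linear_combination -h2 | linear_combination a * h2
      | linear_combination -a * h2)

theorem wM_eq_vuv {a : K} (ha : a ≠ 0) : wM h2 ha = vM a⁻¹ * uM a * vM a⁻¹ :=
  Subtype.ext (by
    ext i j
    fin_cases i <;> fin_cases j <;> simp [wM_val, uM_val, vM_val, ha, Matrix.SpecialLinearGroup.coe_mul, Matrix.mul_apply, Fin.sum_univ_two]
    all_goals first
      | linear_combination h2 | linear_combination -h2 | linear_combination a⁻¹ * h2
      | linear_combination -a⁻¹ * h2)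

theorem wM_uM_wM {a : K} (ha : a ≠ 0) (b : K) :
    wM h2 ha * uM b * wM h2 ha = vM (b * a⁻¹ * a⁻¹) :=
  Subtype.ext (by
    ext i j
    fin_cases i <;> fin_cases j <;> simp [wM_val, uM_val, vM_val, ha, Matrix.SpecialLinearGroup.coe_mul, Matrix.mul_apply, Fin.sum_univ_two]
    ring)

omit h2 in
theorem mem_of_root_mem (S : Subgroup (Matrix.SpecialLinearGroup (Fin 2) K)) (hu : ∀ a, uM a ∈ S) (hv : ∀ b, vM b ∈ S) (g : (Matrix.SpecialLinearGroup (Fin 2) K)) :
    g ∈ S := by
  have key : ∀ g : (Matrix.SpecialLinearGroup (Fin 2) K), g.1 1 0 ≠ 0 → g ∈ S := by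
    intro g hc
    have hd := g.2
    rw [Matrix.det_fin_two] at hd
    have e : g = uM ((g.1 0 0 - 1) / g.1 1 0) * vM (g.1 1 0) * uM ((g.1 1 1 - 1) / g.1 1 0) := by
      refine Subtype.ext ?_
      ext i j
      fin_cases i <;> fin_cases j <;> simp [uM_val, vM_val, Matrix.SpecialLinearGroup.coe_mul, Matrix.mul_apply, Fin.sum_univ_two]
      · field_simp; ring
      · field_simp; linear_combination -hd
      · field_simp; ring
    rw [e]
    exact S.mul_mem (S.mul_mem (hu _) (hv _)) (hu _)
  by_cases hc : g.1 1 0 = 0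
  · have ha : g.1 0 0 ≠ 0 := fun e => by
      have hd := g.2
      rw [Matrix.det_fin_two, e, hc, zero_mul, mul_zero, sub_zero] at hd
      exact zero_ne_one hd
    have h1 := key (vM 1 * g) (by simpa [vM_val, Matrix.SpecialLinearGroup.coe_mul, Matrix.mul_apply, Fin.sum_univ_two, hc] using ha)
    have := S.mul_mem (S.inv_mem (hv 1)) h1
    rwa [inv_mul_cancel_left] at this
  · exact key g hc

omit h2

/-- The displacement of the image of a unitriangular element. -/
def n (φ : Matrix.SpecialLinearGroup (Fin 2) K →* GL ι F) (a : K) : Module.End F (ι → F) := disp (φ (uM a))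

/-- The same for the lower unitriangular elements. -/
def m (φ : Matrix.SpecialLinearGroup (Fin 2) K →* GL ι F) (b : K) : Module.End F (ι → F) := disp (φ (vM b))

variable (h : Ctx B P) (φ : Matrix.SpecialLinearGroup (Fin 2) K →* GL ι F)

theorem n_mem (hP : φ.range = P) (a : K) : φ (uM a) ∈ P := hP ▸ ⟨_, rfl⟩

theorem m_mem (hP : φ.range = P) (b : K) : φ (vM b) ∈ P := hP ▸ ⟨_, rfl⟩

theorem n_add (h : Ctx B P) (a b : K) : n φ (a + b) = n φ a + n φ b + n φ a * n φ b := by
  rw [n, uM_add, map_mul, disp_mul h]; rfl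

theorem m_add (h : Ctx B P) (a b : K) : m φ (a + b) = m φ a + m φ b + m φ a * m φ b := by
  rw [m, vM_add, map_mul, disp_mul h]; rfl

variable (hP : φ.range = P)

include h hP

theorem act_gen (W : Submodule F (ι → F)) (hu : ∀ a, ∀ x ∈ W, act (φ (uM a)) x ∈ W)
    (hv : ∀ b, ∀ x ∈ W, act (φ (vM b)) x ∈ W) : ∀ g ∈ P, ∀ x ∈ W, act g x ∈ W := by
  classical
  have hstab : ∀ s : GL ι F, (∀ x ∈ W, act s x ∈ W) → ∀ x ∈ W, act s⁻¹ x ∈ W := by
    intro s hs x hx
    have hmap : W.map (Matrix.toLin' (s : Matrix ι ι F)) = W := by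
      refine Submodule.eq_of_le_of_finrank_le (by rintro _ ⟨y, hy, rfl⟩; exact hs y hy) (le_of_eq ?_)
      refine (Submodule.equivMapOfInjective _ ?_ W).finrank_eq
      intro a b e
      have := congrArg (act s⁻¹) (show act s a = act s b from e)
      rwa [act_inv_act, act_inv_act] at this
    obtain ⟨y, hy, rfl⟩ := hmap.symm ▸ hx
    show act s⁻¹ (act s y) ∈ W
    rwa [act_inv_act]
  let S : Subgroup (Matrix.SpecialLinearGroup (Fin 2) K) :=
    { carrier := {g | ∀ x ∈ W, act (φ g) x ∈ W}
      one_mem' := fun x hx => by rwa [map_one, act_one]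
      mul_mem' := fun {a b} ha hb x hx => by rw [map_mul, act_mul]; exact ha _ (hb x hx)
      inv_mem' := fun {a} ha x hx => by rw [map_inv]; exact hstab _ ha x hx }
  intro g hg
  obtain ⟨s, rfl⟩ : g ∈ φ.range := hP ▸ hg
  exact mem_of_root_mem S hu hv s

theorem scalar_of_comm (habs : ActsAbsolutelyIrreducibly (matrixSet P)) (E : Module.End F (ι → F))
    (hu : ∀ a, E * n φ a = n φ a * E) (hv : ∀ b, E * m φ b = m φ b * E) :
    ∃ c : F, ∀ x, E x = c • x := by
  have hcomm : ∀ g : GL ι F, E * disp g = disp g * E → ∀ x, E (act g x) = act g (E x) := by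
    intro g e x
    have := LinearMap.congr_fun e x
    rw [Module.End.mul_apply, Module.End.mul_apply] at this
    rw [act_eq h g x, map_add, this, ← act_eq h]
  let S : Subgroup (Matrix.SpecialLinearGroup (Fin 2) K) :=
    { carrier := {g | ∀ x, E (act (φ g) x) = act (φ g) (E x)}
      one_mem' := fun x => by rw [map_one, act_one, act_one]
      mul_mem' := fun {a b} ha hb x => by rw [map_mul, act_mul, act_mul, ha, hb]
      inv_mem' := fun {a} ha x => by
        rw [map_inv]
        conv_rhs => rw [← act_act_inv (φ a) x, ha, act_inv_act] }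
  have hS := mem_of_root_mem S (fun a => hcomm _ (hu a)) (fun b => hcomm _ (hv b))
  obtain ⟨c, hc⟩ := habs.2 (LinearMap.toMatrix' E) (by
    rintro _ ⟨g, hg, rfl⟩
    obtain ⟨s, rfl⟩ : g ∈ φ.range := hP ▸ hg
    refine Matrix.ext_iff_mulVec.2 fun x => ?_
    rw [← Matrix.mulVec_mulVec, ← Matrix.mulVec_mulVec, LinearMap.toMatrix'_mulVec,
      LinearMap.toMatrix'_mulVec]
    exact hS s x)
  refine ⟨c, fun x => ?_⟩
  rw [← LinearMap.toMatrix'_mulVec E x, hc, Matrix.smul_mulVec, Matrix.one_mulVec]

include h2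

/-- A common kernel. -/
theorem false_of_common (habs : ActsAbsolutelyIrreducibly (matrixSet P)) {L : Submodule F (ι → F)}
    (hL : finrank F L = 2) (hker : ∀ a, a ≠ 0 → ∀ x, x ∈ L ↔ n φ a x = 0)
    (him : ∀ a x, n φ a x ∈ L) : False := by
  classical
  set s := φ (wM h2 (one_ne_zero (α := K))) with hs
  have hss : s * s = 1 := by rw [hs, ← map_mul, wM_sq, map_one]
  set σ : Module.End F (ι → F) := Matrix.toLin' (s : Matrix ι ι F) with hσ
  have hσσ : ∀ x, σ (σ x) = x := fun x => by
    show act s (act s x) = x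
    rw [← act_mul, hss, act_one]
  have hm : ∀ b x, m φ b x = σ (n φ b (σ x)) := fun b x => by
    have e : φ (vM b) = s * φ (uM b) * s := by
      rw [hs, ← map_mul, ← map_mul, wM_uM_wM, inv_one, mul_one, mul_one]
    show disp (φ (vM b)) x = act s (disp (φ (uM b)) (act s x))
    rw [e, disp_apply, disp_apply, act_add, act_mul, act_mul, ← act_mul s s, hss, act_one]
  set L' : Submodule F (ι → F) := L.comap σ with hL'
  have hker' : ∀ b, b ≠ 0 → ∀ x, x ∈ L' ↔ m φ b x = 0 := fun b hb x => by
    rw [hm, Submodule.mem_comap, hker b hb]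
    exact ⟨fun e => by rw [e, map_zero], fun e => by rw [← hσσ (n φ b (σ x)), e, map_zero]⟩
  have him' : ∀ b x, m φ b x ∈ L' := fun b x => by
    rw [Submodule.mem_comap, hm, hσσ]; exact him _ _
  have hn0 : n φ (0 : K) = 0 := by rw [n, uM_zero, map_one, disp_one h]
  have hm0 : m φ (0 : K) = 0 := by rw [m, vM_zero, map_one, disp_one h]
  have hnk : ∀ a x, x ∈ L → n φ a x = 0 := fun a x hx => by
    rcases eq_or_ne a 0 with rfl | ha
    · rw [hn0]; rfl
    · exact (hker a ha x).1 hx
  have hmk : ∀ b x, x ∈ L' → m φ b x = 0 := fun b x hx => by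
    rcases eq_or_ne b 0 with rfl | hb
    · rw [hm0]; rfl
    · exact (hker' b hb x).1 hx
  have hnn : ∀ a b, n φ a * n φ b = 0 := fun a b => LinearMap.ext fun x => hnk a _ (him b x)
  have hmm : ∀ a b, m φ a * m φ b = 0 := fun a b => LinearMap.ext fun x => hmk a _ (him' b x)
  have hna : ∀ a b, n φ (a + b) = n φ a + n φ b := fun a b => by rw [n_add φ h, hnn, add_zero]
  have hma : ∀ a b, m φ (a + b) = m φ a + m φ b := fun a b => by rw [m_add φ h, hmm, add_zero]
  -- the two planes are complementary
  have hdisj : ∀ x, x ∈ L → x ∈ L' → x = 0 := fun x hx hx' => by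
    have hu : ∀ a, act (φ (uM a)) x = x := fun a => by
      rw [act_eq h]; show x + n φ a x = x; rw [hnk a x hx, add_zero]
    have hv : ∀ b, act (φ (vM b)) x = x := fun b => by
      rw [act_eq h]; show x + m φ b x = x; rw [hmk b x hx', add_zero]
    let S : Subgroup (Matrix.SpecialLinearGroup (Fin 2) K) :=
      { carrier := {g | act (φ g) x = x}
        one_mem' := show act (φ 1) x = x by rw [map_one, act_one]
        mul_mem' := fun {a b} ha hb => show act (φ (a * b)) x = x by
          rw [map_mul, act_mul, show act (φ b) x = x from hb, show act (φ a) x = x from ha]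
        inv_mem' := fun {a} ha => show act (φ a⁻¹) x = x by
          conv_lhs => rw [← show act (φ a) x = x from ha, map_inv, act_inv_act] }
    refine h.no_fixed fun g hg => ?_
    obtain ⟨t, rfl⟩ : g ∈ φ.range := hP ▸ hg
    exact mem_of_root_mem S hu hv t
  -- the relation `w = u v u`
  have hrel : ∀ a, a ≠ 0 → ∀ x ∈ L, n φ a (m φ a⁻¹ x) = x := by
    intro a ha x hx
    have hWx : act (φ (wM h2 ha)) x = x + m φ a⁻¹ x + n φ a (m φ a⁻¹ x) := by
      rw [wM_eq_uvu h2 ha, map_mul, map_mul, act_mul, act_mul, act_eq h (φ (uM a)) x]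
      show act _ (act _ (x + n φ a x)) = _
      rw [hnk a x hx, add_zero, act_eq h (φ (vM a⁻¹)) x, act_eq h (φ (uM a))]
      show x + m φ a⁻¹ x + n φ a (x + m φ a⁻¹ x) = _
      rw [map_add, hnk a x hx, zero_add]
    have hW' : act (φ (wM h2 ha)) x ∈ L' := by
      rw [hker' 1 one_ne_zero]
      have e : φ (vM 1) * φ (wM h2 ha) = φ (wM h2 ha) * φ (uM (a * a)) := by
        rw [← map_mul, ← map_mul]
        congr 1
        have := wM_uM_wM h2 ha (a * a)
        rw [show a * a * a⁻¹ * a⁻¹ = 1 by field_simp] at this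
        rw [← this, mul_assoc, wM_sq, mul_one]
      show disp (φ (vM 1)) _ = 0
      rw [disp_apply, ← act_mul, e, act_mul, act_eq h (φ (uM (a * a))) x]
      show _ + act _ (x + n φ (a * a) x) = _
      rw [hnk _ x hx, add_zero, h.add_self]
    rw [hWx] at hW'
    have h1 : x + n φ a (m φ a⁻¹ x) ∈ L' := by
      have := L'.sub_mem hW' (him' a⁻¹ x)
      rwa [add_sub_right_comm, add_sub_cancel_right] at this
    have h0 := hdisj _ (L.add_mem hx (him _ _)) h1
    rw [← zero_add (n φ a (m φ a⁻¹ x)), ← h.add_self x, add_assoc, h0, add_zero]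
  have hrel' : ∀ a, a ≠ 0 → ∀ x ∈ L', m φ a (n φ a⁻¹ x) = x := by
    intro a ha x hx
    have := hrel a ha (σ x) hx
    have e : m φ a (n φ a⁻¹ x) = σ (n φ a (m φ a⁻¹ (σ x))) := by rw [hm, hm a⁻¹, hσσ]
    rw [e, this, hσσ]
  have hsum : ∀ x, n φ 1 (m φ 1 x) + m φ 1 (n φ 1 x) = x := by
    intro x
    have hc : L ⊔ L' = ⊤ := by
      have hinf : L ⊓ L' = ⊥ := (Submodule.eq_bot_iff _).2 fun y hy => hdisj y hy.1 hy.2
      refine Submodule.eq_top_of_finrank_eq ?_
      have h2' : finrank F L' = 2 := by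
        have hmap : L.map σ = L' := by
          ext y
          constructor
          · rintro ⟨z, hz, rfl⟩; rw [Submodule.mem_comap, hσσ]; exact hz
          · intro hy; exact ⟨σ y, hy, hσσ y⟩
        rw [← hmap, ← hL]
        exact ((Submodule.equivMapOfInjective σ (Function.LeftInverse.injective hσσ) L).finrank_eq).symm
      have := Submodule.finrank_sup_add_finrank_inf_eq L L'
      rw [hinf, finrank_bot, hL, h2', add_zero] at this
      rw [this, h.finrank_eq]
    obtain ⟨y, hy, z, hz, rfl⟩ := Submodule.mem_sup.1 (show x ∈ L ⊔ L' by rw [hc]; trivial)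
    have r1 := hrel 1 one_ne_zero y hy
    have r2 := hrel' 1 one_ne_zero z hz
    rw [inv_one] at r1 r2
    rw [map_add (m φ 1) y z, hmk 1 z hz, add_zero, r1, map_add (n φ 1) y z, hnk 1 y hy, zero_add, r2]
  -- in the algebra
  have ef : n φ (1 : K) * m φ 1 + m φ 1 * n φ 1 = 1 := LinearMap.ext hsum
  obtain ⟨e, he⟩ : ∃ e : Module.End F (ι → F), e = n φ (1 : K) * m φ 1 := ⟨_, rfl⟩
  rw [← he] at ef
  have hen : ∀ c, e * n φ c = n φ c := fun c => LinearMap.ext fun x => by
    have r := hrel 1 one_ne_zero (n φ c x) (him c x)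
    rw [inv_one] at r
    rw [he]
    exact r
  have hme : ∀ c, m φ c * e = m φ c := fun c => by
    calc m φ c * e = m φ c * e + m φ c * (m φ 1 * n φ 1) := by
          rw [← mul_assoc (m φ c) (m φ 1), hmm, zero_mul, add_zero]
      _ = m φ c * (e + m φ 1 * n φ 1) := (mul_add _ _ _).symm
      _ = m φ c := by rw [ef, mul_one]
  have hnf : ∀ c, n φ c * (m φ 1 * n φ 1) = n φ c := fun c => by
    calc n φ c * (m φ 1 * n φ 1) = n φ c * e + n φ c * (m φ 1 * n φ 1) := by
          rw [he, ← mul_assoc (n φ c) (n φ 1), hnn, zero_mul, zero_add]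
      _ = n φ c * (e + m φ 1 * n φ 1) := (mul_add _ _ _).symm
      _ = n φ c := by rw [ef, mul_one]
  have hfm : ∀ c, m φ 1 * n φ 1 * m φ c = m φ c := fun c => LinearMap.ext fun x => by
    have r := hrel' 1 one_ne_zero (m φ c x) (him' c x)
    rw [inv_one] at r
    exact r
  obtain ⟨f, hf⟩ : ∃ f : K → Module.End F (ι → F), f = fun a => n φ a * m φ 1 := ⟨_, rfl⟩
  obtain ⟨g, hg⟩ : ∃ g : K → Module.End F (ι → F), g = fun b => n φ 1 * m φ b := ⟨_, rfl⟩
  have hfa : ∀ a b, f (a + b) = f a + f b := fun a b => by simp only [hf]; rw [hna, add_mul]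
  have hga : ∀ a b, g (a + b) = g a + g b := fun a b => by simp only [hg]; rw [hma, mul_add]
  have hee : e * e = e := by
    nth_rw 2 [he]
    rw [← mul_assoc, hen, ← he]
  have hef : ∀ a, e * f a = f a := fun a => by simp only [hf]; rw [← mul_assoc, hen]
  have hfe : ∀ a, f a * e = f a := fun a => by simp only [hf]; rw [mul_assoc, hme]
  have hge : ∀ a, g a * e = g a := fun a => by simp only [hg]; rw [mul_assoc, hme]
  have heg : ∀ a, e * g a = g a := fun a => by simp only [hg]; rw [← mul_assoc, hen]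
  have hfg : ∀ a, a ≠ 0 → f a * g a⁻¹ = e := by
    intro a ha
    have e1 : f a * g a⁻¹ = n φ a * m φ a⁻¹ := by
      simp only [hf, hg]
      rw [mul_assoc, ← mul_assoc (m φ 1), hfm]
    have e2 : n φ a * m φ a⁻¹ * e = e := by
      refine LinearMap.ext fun x => ?_
      exact hrel a ha (e x) (by rw [he]; exact him _ _)
    rw [e1, ← e2, mul_assoc, hme]
  have hgf : ∀ a, a ≠ 0 → g a⁻¹ * f a = e := by
    intro a ha
    have e1 : m φ a⁻¹ * n φ a * m φ 1 = m φ 1 := LinearMap.ext fun x => by
      have r := hrel' a⁻¹ (inv_ne_zero ha) (m φ 1 x) (him' 1 x)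
      rw [inv_inv] at r
      exact r
    simp only [hf, hg]
    rw [mul_assoc, ← mul_assoc (m φ a⁻¹), e1, ← he]
  have hf1 : f 1 = e := by rw [hf, he]
  have hf0 : f 0 = 0 := by simp only [hf]; rw [hn0, zero_mul]
  have h2' : ∀ X : Module.End F (ι → F), X + X = 0 := fun X =>
    LinearMap.ext fun x => h.add_self _
  have hK : ∀ x : K, x + x = 0 := fun x => by rw [← two_mul, h2, zero_mul]
  have hsq : ∀ a, f (a * a) = f a * f a := by
    intro a
    rcases eq_or_ne a 0 with rfl | ha
    · rw [mul_zero, hf0, zero_mul]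
    rcases eq_or_ne (a + 1) 0 with ha1 | ha1
    · obtain rfl : a = 1 := by linear_combination ha1 - h2
      rw [mul_one, hf1, hee]
    have hq : (a * a + a)⁻¹ = a⁻¹ + (a + 1)⁻¹ := by
      rw [show a * a + a = a * (a + 1) by ring]
      field_simp
      linear_combination -a * h2
    have hprod : f a * g (a * a + a)⁻¹ * f (a + 1) = e := by
      rw [hq, hga, mul_add, add_mul, hfg a ha, hef, mul_assoc, hgf _ ha1, hfe, hfa, hf1, add_comm,
        ← add_assoc, h2', zero_add]
    have h3 : g (a * a + a)⁻¹ * (f (a + 1) * f a) = e := by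
      calc g (a * a + a)⁻¹ * (f (a + 1) * f a)
          = g a⁻¹ * (f a * g (a * a + a)⁻¹ * f (a + 1)) * f a := by
            rw [← mul_assoc (g a⁻¹), ← mul_assoc (g a⁻¹), hgf a ha, heg]
            simp only [mul_assoc]
        _ = e := by rw [hprod, hge, hgf a ha]
    have hne : a * a + a ≠ 0 := by
      rw [show a * a + a = a * (a + 1) by ring]
      exact mul_ne_zero ha ha1
    have h4 : f (a * a + a) = f (a + 1) * f a := by
      calc f (a * a + a) = f (a * a + a) * e := (hfe _).symm
        _ = f (a * a + a) * g (a * a + a)⁻¹ * (f (a + 1) * f a) := by rw [mul_assoc, h3]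
        _ = f (a + 1) * f a := by rw [hfg _ hne, ← mul_assoc, hef]
    rw [hfa, hfa, hf1, add_mul, hef] at h4
    exact add_right_cancel h4
  have hcomm : ∀ a b, f a * f b = f b * f a := by
    intro a b
    have h1 := hsq (a + b)
    rw [show (a + b) * (a + b) = a * a + b * b by linear_combination (a * b) * h2, hfa, hfa, hsq, hsq,
      add_mul, mul_add, mul_add] at h1
    have h0 : f a * f b + f b * f a = 0 := by
      linear_combination (norm := abel) -h1
    calc f a * f b = f a * f b + (f b * f a + f b * f a) := by rw [h2', add_zero]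
      _ = f b * f a := by rw [← add_assoc, h0, zero_add]
  have hcg : ∀ a b, f b * g a = g a * f b := by
    intro a b
    rcases eq_or_ne a 0 with rfl | ha
    · simp only [hg]; rw [hm0, mul_zero, mul_zero, zero_mul]
    have i1 := hfg a⁻¹ (inv_ne_zero ha)
    have i2 := hgf a⁻¹ (inv_ne_zero ha)
    rw [inv_inv] at i1 i2
    calc f b * g a = g a * f a⁻¹ * f b * g a := by rw [i2, hef]
      _ = g a * (f b * (f a⁻¹ * g a)) := by rw [mul_assoc (g a), hcomm a⁻¹ b]; simp only [mul_assoc]
      _ = g a * f b := by rw [i1, hfe]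
  -- the operators commuting with the group
  have hscal : ∀ b, ∃ c : F, f b = c • e := by
    intro b
    obtain ⟨c, hc⟩ := scalar_of_comm h φ hP habs (f b + m φ 1 * n φ b) (fun a => by
      rw [add_mul, mul_add, mul_assoc (m φ 1), hnn, mul_zero, add_zero]
      have e1 : f b * n φ a = f b * f a * n φ 1 := by
        conv_lhs => rw [← hnf a]
        simp only [hf, mul_assoc]
      have e2 : n φ a * (m φ 1 * n φ b) = f a * f b * n φ 1 := by
        conv_lhs => rw [← hnf b]
        simp only [hf, mul_assoc]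
      have e3 : n φ a * f b = 0 := by simp only [hf]; rw [← mul_assoc, hnn, zero_mul]
      rw [e1, e2, e3, zero_add, hcomm])
      (fun c => by
      have e1 : f b * m φ c = 0 := by simp only [hf]; rw [mul_assoc, hmm, mul_zero]
      have e2 : m φ c * (m φ 1 * n φ b) = 0 := by rw [← mul_assoc, hmm, zero_mul]
      rw [add_mul, mul_add, e1, e2, zero_add, add_zero]
      calc m φ 1 * n φ b * m φ c = m φ 1 * (f b * g c) := by
            simp only [hf, hg, mul_assoc]
            rw [← mul_assoc (m φ 1) (n φ 1) (m φ c), hfm]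
        _ = m φ 1 * g c * f b := by rw [hcg, mul_assoc]
        _ = m φ c * f b := by
            simp only [hg]
            rw [← mul_assoc (m φ 1), hfm])
    refine ⟨c, ?_⟩
    have : (f b + m φ 1 * n φ b) * e = c • e := LinearMap.ext fun x => hc (e x)
    rw [add_mul, hfe, mul_assoc, he, ← mul_assoc (n φ b), hnn, zero_mul, mul_zero, add_zero] at this
    rwa [← he] at this
  have hnscal : ∀ a, ∃ c : F, n φ a = c • n φ 1 := fun a => by
    obtain ⟨c, hc⟩ := hscal a
    refine ⟨c, ?_⟩
    calc n φ a = f a * n φ 1 := by simp only [hf, mul_assoc]; rw [hnf]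
      _ = c • n φ 1 := by rw [hc, smul_mul_assoc, hen]
  have hmscal : ∀ a, ∃ c : F, m φ a = c • m φ 1 := fun a => by
    obtain ⟨c, hc⟩ := hnscal a
    refine ⟨c, LinearMap.ext fun x => ?_⟩
    rw [LinearMap.smul_apply, hm, hm, hc, LinearMap.smul_apply, map_smul]
  -- so everything on one plane extends
  have hall : ∀ T : Module.End F (ι → F), ∃ c : F, e * T * e = c • e := by
    intro T
    obtain ⟨X, hX⟩ : ∃ X, X = e * T * e := ⟨_, rfl⟩
    have hXe : X * e = X := by rw [hX, mul_assoc, hee]
    have heX : e * X = X := by rw [hX, ← mul_assoc, ← mul_assoc, hee]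
    obtain ⟨c, hc⟩ := scalar_of_comm h φ hP habs (X + m φ 1 * X * n φ 1) (fun a => by
      obtain ⟨r, hr⟩ := hnscal a
      have e1 : n φ 1 * X = 0 := by
        rw [← heX, he, ← mul_assoc, ← mul_assoc, hnn, zero_mul, zero_mul]
      have e2 : n φ 1 * (m φ 1 * X * n φ 1) = X * n φ 1 := by
        rw [← mul_assoc, ← mul_assoc, ← he, heX]
      rw [hr, mul_smul_comm, smul_mul_assoc, add_mul, mul_add, mul_assoc _ (n φ 1), hnn, mul_zero,
        add_zero, e1, e2, zero_add])
      (fun a => by
      obtain ⟨r, hr⟩ := hmscal a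
      have e1 : X * m φ 1 = 0 := by rw [← hXe, he, mul_assoc, mul_assoc, hmm, mul_zero, mul_zero]
      have e2 : m φ 1 * X * n φ 1 * m φ 1 = m φ 1 * X := by
        rw [mul_assoc, ← he, mul_assoc, hXe]
      rw [hr, mul_smul_comm, smul_mul_assoc, add_mul, mul_add, e1, e2, zero_add, ← mul_assoc,
        ← mul_assoc, hmm, zero_mul, zero_mul, add_zero])
    refine ⟨c, ?_⟩
    have : (X + m φ 1 * X * n φ 1) * e = c • e := LinearMap.ext fun x => hc (e x)
    rw [add_mul, hXe, mul_assoc _ (n φ 1), he, ← mul_assoc (n φ 1), hnn, zero_mul, mul_zero,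
      add_zero] at this
    rw [← hX]
    rwa [← he] at this
  -- two independent vectors of the plane
  let b := Module.finBasisOfFinrankEq F L hL
  obtain ⟨T, hTe⟩ := LinearMap.exists_extend (b.constr F ![((b 1 : L) : ι → F), 0])
  have hex : ∀ x ∈ L, e x = x := fun x hx => by
    have r := hrel 1 one_ne_zero x hx
    rw [inv_one] at r
    rw [he]
    exact r
  obtain ⟨c, hc⟩ := hall T
  have h0 := LinearMap.congr_fun hc ((b 0 : L) : ι → F)
  have hT : T ((b 0 : L) : ι → F) = ((b 1 : L) : ι → F) := by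
    have := LinearMap.congr_fun hTe (b 0)
    simpa using this
  rw [Module.End.mul_apply, Module.End.mul_apply, hex _ (b 0).2, hT, hex _ (b 1).2,
    LinearMap.smul_apply, hex _ (b 0).2] at h0
  have h1 : b 1 = c • b 0 := Subtype.ext h0
  have := congrArg (fun z => b.repr z 1) h1
  simp at this

/-- A common fixed point: a quadratic form is fixed. -/
theorem fixes_quadratic (hc : AllNonAlt B P) (hinj : Function.Injective φ)
    (habs : ActsAbsolutelyIrreducibly (matrixSet P)) :
    ∃ Q : (ι → F) → F, IsNondegenerateQuadraticForm Q ∧ FixesQuadForm (matrixSet P) Q := by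
  classical
  have hn0 : n φ (0 : K) = 0 := by rw [n, uM_zero, map_one, disp_one h]
  have hK : ∀ x : K, x + x = 0 := fun x => by rw [← two_mul, h2, zero_mul]
  have hinv : ∀ a, φ (uM a) * φ (uM a) = 1 := fun a => by
    rw [← map_mul, ← uM_add, hK, uM_zero, map_one]
  have hne1 : ∀ a, a ≠ 0 → φ (uM a) ≠ 1 := fun a ha e =>
    ha (uM_eq_one (hinj (e.trans (map_one φ).symm)))
  have hadj : ∀ a x y, B (n φ a x) y = B x (n φ a y) := fun a =>
    disp_adj h (n_mem φ hP a) (hinv a)
  have hnc : ∀ a b x, n φ a (n φ b x) = n φ b (n φ a x) := by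
    intro a b x
    have e1 := n_add φ h a b
    rw [add_comm, n_add φ h b a, add_comm (n φ b) (n φ a), add_left_cancel_iff] at e1
    exact (LinearMap.congr_fun e1 x).symm
  have hLex : ∀ a, a ≠ 0 → ∃ L : Submodule F (ι → F), finrank F L = 2 ∧
      (∀ v, v ∈ L ↔ n φ a v = 0) ∧ (∀ x, n φ a x ∈ L) ∧ ∀ w ∈ L, ∃ x, n φ a x = w := by
    intro a ha
    rcases h.invol_cases (n_mem φ hP a) (hinv a) with ⟨c, κ, ht⟩ | ⟨L, h1, h2', h3, -, h5⟩
    · exact absurd (hc.1 _ (n_mem φ hP a) c κ ht) (hne1 a ha)
    · refine ⟨L, h1, fun v => ?_, fun x => disp_apply (φ (uM a)) x ▸ h3 x, fun w hw => ?_⟩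
      · rw [h2', n, act_eq h, add_eq_left]
      · obtain ⟨x, hx⟩ := h5 w hw
        exact ⟨x, (disp_apply _ x).trans hx⟩
  choose L hL2 hLker hLim hLsur using hLex
  obtain ⟨a₀, ha₀, b₀, hb₀, hab⟩ : ∃ a, ∃ ha : a ≠ 0, ∃ b, ∃ hb : b ≠ 0, L a ha ≠ L b hb := by
    by_contra hall
    push Not at hall
    refine false_of_common h2 h φ hP habs (hL2 1 one_ne_zero) (fun a ha x => ?_) (fun a x => ?_)
    · rw [hall 1 one_ne_zero a ha]; exact hLker a ha x
    · rcases eq_or_ne a 0 with rfl | ha
      · rw [hn0]; exact Submodule.zero_mem _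
      · rw [hall 1 one_ne_zero a ha]; exact hLim a ha x
  -- the common fixed line
  set I := L a₀ ha₀ ⊓ L b₀ hb₀ with hI
  obtain ⟨z, hz, hzb⟩ : ∃ z ∈ L a₀ ha₀, z ∉ L b₀ hb₀ := by
    by_contra hno
    push Not at hno
    exact hab (Submodule.eq_of_le_of_finrank_le hno (le_of_eq (by rw [hL2, hL2])))
  set v := n φ b₀ z with hv
  have hv0 : v ≠ 0 := fun e => hzb ((hLker b₀ hb₀ z).2 e)
  have hvI : v ∈ I := ⟨(hLker a₀ ha₀ _).2 (by rw [hv, hnc, (hLker a₀ ha₀ z).1 hz, map_zero]),
    hLim b₀ hb₀ z⟩
  have hI1 : finrank F I ≤ 1 := by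
    by_contra hgt
    push Not at hgt
    have e1 : I = L a₀ ha₀ := Submodule.eq_of_le_of_finrank_le inf_le_left (by rw [hL2]; omega)
    have e2 : I = L b₀ hb₀ := Submodule.eq_of_le_of_finrank_le inf_le_right (by rw [hL2]; omega)
    exact hab (e1.symm.trans e2)
  have hIv : I = Submodule.span F {v} := (Submodule.eq_of_le_of_finrank_le
    ((Submodule.span_singleton_le_iff_mem v I).2 hvI) (by rwa [finrank_span_singleton hv0])).symm
  have hnv : ∀ a, n φ a v = 0 := by
    intro a
    have hmem : n φ a v ∈ I := ⟨(hLker a₀ ha₀ _).2 (by rw [hnc, (hLker a₀ ha₀ v).1 hvI.1, map_zero]),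
      (hLker b₀ hb₀ _).2 (by rw [hnc, (hLker b₀ hb₀ v).1 hvI.2, map_zero])⟩
    rw [hIv, Submodule.mem_span_singleton] at hmem
    obtain ⟨c, hc'⟩ := hmem
    rcases eq_or_ne c 0 with rfl | hc0
    · rw [← hc', zero_smul]
    rcases eq_or_ne a 0 with rfl | ha
    · rw [hn0]; rfl
    have e1 : n φ a (n φ a v) = 0 := (hLker a ha _).1 (hLim a ha v)
    rw [← hc', map_smul, ← hc', smul_eq_zero, smul_eq_zero] at e1
    exact absurd e1 (by simp [hc0, hv0])
  have hvL : ∀ a, ∀ ha : a ≠ 0, v ∈ L a ha := fun a ha => (hLker a ha v).2 (hnv a)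
  -- the hyperplane orthogonal to it goes to the line
  set V₀ : Submodule F (ι → F) := LinearMap.ker (B v) with hV₀
  have hperp : ∀ a, ∀ ha : a ≠ 0, L a ha ≤ V₀ := by
    intro a ha w hw
    obtain ⟨x, rfl⟩ := hLsur a ha w hw
    rw [LinearMap.mem_ker, ← hadj, hnv, map_zero, LinearMap.zero_apply]
  have hline : ∀ a y, y ∈ V₀ → n φ a y ∈ Submodule.span F {v} := by
    intro a y hy
    rcases eq_or_ne a 0 with rfl | ha
    · rw [hn0]; exact Submodule.zero_mem _
    obtain ⟨d, hd, hne⟩ : ∃ d, ∃ hd : d ≠ 0, L d hd ≠ L a ha := by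
      by_cases e : L a₀ ha₀ = L a ha
      · exact ⟨b₀, hb₀, fun e' => hab (e.trans e'.symm)⟩
      · exact ⟨a₀, ha₀, e⟩
    obtain ⟨w, hw, hwa⟩ : ∃ w ∈ L d hd, w ∉ L a ha := by
      by_contra hno
      push Not at hno
      exact hne (Submodule.eq_of_le_of_finrank_le hno (le_of_eq (by rw [hL2, hL2])))
    have hI' : L d hd ⊓ L a ha = Submodule.span F {v} := by
      refine (Submodule.eq_of_le_of_finrank_le ((Submodule.span_singleton_le_iff_mem v _).2
        (Submodule.mem_inf.2 ⟨hvL d hd, hvL a ha⟩)) ?_).symm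
      rw [finrank_span_singleton hv0]
      by_contra hgt
      push Not at hgt
      exact hne ((Submodule.eq_of_le_of_finrank_le (inf_le_left : L d hd ⊓ L a ha ≤ L d hd)
        (by rw [hL2]; omega)).symm.trans (Submodule.eq_of_le_of_finrank_le
        (inf_le_right : L d hd ⊓ L a ha ≤ L a ha) (by rw [hL2]; omega)))
    have hsup : V₀ = L a ha ⊔ Submodule.span F {w} := by
      refine (Submodule.eq_of_le_of_finrank_le (sup_le (hperp a ha)
        ((Submodule.span_singleton_le_iff_mem w _).2 (hperp d hd hw))) ?_).symm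
      have h1 : L a ha < L a ha ⊔ Submodule.span F {w} :=
        lt_of_le_of_ne le_sup_left fun e => hwa (e.symm ▸ Submodule.mem_sup_right
          (Submodule.mem_span_singleton_self w))
      have h2' := Submodule.finrank_lt_finrank_of_lt h1
      rw [hL2] at h2'
      have h3 : V₀ ≠ ⊤ := fun e => hv0 (h.nondeg v fun u =>
        LinearMap.mem_ker.1 (e ▸ Submodule.mem_top : u ∈ V₀))
      have h4 := Submodule.finrank_lt h3
      rw [h.finrank_eq] at h4
      omega
    rw [hsup, Submodule.mem_sup] at hy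
    obtain ⟨l, hl, w', hw', rfl⟩ := hy
    obtain ⟨t, rfl⟩ := Submodule.mem_span_singleton.1 hw'
    rw [map_add, (hLker a ha l).1 hl, zero_add, map_smul]
    refine Submodule.smul_mem _ _ ?_
    rw [← hI', Submodule.mem_inf]
    exact ⟨(hLker d hd _).2 (by rw [hnc, (hLker d hd w).1 hw, map_zero]), hLim a ha w⟩
  -- the partner of the line
  set W := fun (a : K) (ha : a ≠ 0) => φ (wM h2 ha) with hW
  have hWm : ∀ a ha, W a ha ∈ P := fun a ha => hP ▸ ⟨_, rfl⟩
  have hWW : ∀ a ha x, act (W a ha) (act (W a ha) x) = x := fun a ha x => by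
    rw [← act_mul, hW, ← map_mul, wM_sq, map_one, act_one]
  have hvW : ∀ a ha b, φ (vM (b * a⁻¹ * a⁻¹)) = W a ha * φ (uM b) * W a ha := fun a ha b => by
    rw [hW, ← map_mul, ← map_mul, wM_uM_wM]
  have hmW : ∀ a ha b x, m φ (b * a⁻¹ * a⁻¹) x = act (W a ha) (n φ b (act (W a ha) x)) := by
    intro a ha b x
    show disp _ x = act _ (disp _ _)
    rw [disp_apply, disp_apply, hvW a ha b, act_add, act_mul, act_mul, hWW]
  have hW1 : ∀ b x, m φ b x = act (W 1 one_ne_zero) (n φ b (act (W 1 one_ne_zero) x)) := fun b x => by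
    have := hmW 1 one_ne_zero b x
    rwa [inv_one, mul_one, mul_one] at this
  set p := act (W 1 one_ne_zero) v with hp
  have hvp : B v p ≠ 0 := by
    intro e
    have hpV : p ∈ V₀ := e
    have hWp : act (W 1 one_ne_zero) p = v := hWW 1 _ v
    let π := Submodule.span F ({v, p} : Set (ι → F))
    have hvπ : v ∈ π := Submodule.subset_span (by simp)
    have hpπ : p ∈ π := Submodule.subset_span (by simp)
    have hπ : ∀ g ∈ P, ∀ x ∈ π, act g x ∈ π := by
      refine act_gen h φ hP π (fun a x hx => ?_) fun b x hx => ?_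
      · rw [act_eq h]
        refine π.add_mem hx ?_
        have hle : π ≤ π.comap (n φ a) := Submodule.span_le.2 (by
          rintro y (rfl | rfl)
          · rw [SetLike.mem_coe, Submodule.mem_comap, hnv]; exact π.zero_mem
          · exact (Submodule.span_singleton_le_iff_mem v π).2 hvπ (hline a _ hpV))
        exact hle hx
      · rw [act_eq h]
        refine π.add_mem hx ?_
        have hle : π ≤ π.comap (m φ b) := Submodule.span_le.2 (by
          rintro y (rfl | rfl)
          · rw [SetLike.mem_coe, Submodule.mem_comap, hW1]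
            obtain ⟨c, hc'⟩ := Submodule.mem_span_singleton.1 (hline b _ hpV)
            rw [← hp, ← hc', act_smul]
            exact π.smul_mem _ hpπ
          · rw [SetLike.mem_coe, Submodule.mem_comap, hW1, hWp, hnv, act_zero]
            exact π.zero_mem)
        exact hle hx
    have hπ2 : finrank F π ≤ 2 := by
      refine (finrank_span_le_card _).trans ?_
      rw [Set.toFinset_card]
      exact le_trans (le_of_eq (by simp [Set.toFinset_card])) (Finset.card_insert_le v {p})
    rcases h.invariant hπ with e' | e'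
    · exact hv0 ((Submodule.mem_bot F).1 (e' ▸ hvπ))
    · rw [e', finrank_top, h.finrank_eq] at hπ2
      omega
  obtain ⟨v', hv'⟩ : ∃ v', v' = (B v p)⁻¹ • p := ⟨_, rfl⟩
  have hvv' : B v v' = 1 := by rw [hv', map_smul, smul_eq_mul, inv_mul_cancel₀ hvp]
  have hv'v : B v' v = 1 := by rw [h.swap, hvv']
  obtain ⟨c, hcdef⟩ : ∃ c : K → F, ∀ a, c a = B (n φ a v') v' := ⟨_, fun _ => rfl⟩
  obtain ⟨w, hwdef⟩ : ∃ w : K → ι → F, ∀ a, w a = n φ a v' + c a • v := ⟨_, fun _ => rfl⟩
  have hwv : ∀ a, B v (w a) = 0 := fun a => by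
    rw [hwdef, map_add, map_smul, h.alt, smul_zero, add_zero, ← hadj, hnv, map_zero,
      LinearMap.zero_apply]
  have hwv' : ∀ a, B (w a) v' = 0 := fun a => by
    rw [hwdef, map_add, map_smul, LinearMap.add_apply, LinearMap.smul_apply, hvv', smul_eq_mul,
      mul_one, ← hcdef]
    exact h.add_self_scalar _
  have hnv' : ∀ a, n φ a v' = w a + c a • v := fun a => by
    rw [hwdef, add_assoc, h.add_self, add_zero]
  have hform : ∀ a x, n φ a x = B x v • w a + (B x v * c a + B x (w a)) • v := by
    intro a x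
    set y := x + B x v • v' with hy
    have hyV : y ∈ V₀ := by
      rw [LinearMap.mem_ker, hy, map_add, map_smul, hvv', smul_eq_mul, mul_one, h.swap v x]
      exact h.add_self_scalar _
    obtain ⟨t, ht⟩ := Submodule.mem_span_singleton.1 (hline a y hyV)
    have htv : t = B y (n φ a v') := by
      rw [← hadj, ← ht, map_smul, LinearMap.smul_apply, hvv', smul_eq_mul, mul_one]
    have hBy : B y (n φ a v') = B x (w a) := by
      rw [hnv', map_add, map_smul, h.swap y v, LinearMap.mem_ker.1 hyV, smul_zero, add_zero, hy,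
        map_add, map_smul, LinearMap.add_apply, LinearMap.smul_apply, h.swap v' (w a), hwv', smul_zero,
        add_zero]
    have hx : x = y + B x v • v' := by rw [hy, add_assoc, h.add_self, add_zero]
    calc n φ a x = n φ a y + B x v • n φ a v' := by conv_lhs => rw [hx, map_add, map_smul]
      _ = _ := by rw [← ht, htv, hBy, hnv', smul_add, smul_smul, add_smul]; abel
  have hc0 : ∀ a, a ≠ 0 → c a ≠ 0 := by
    intro a ha e
    obtain ⟨x, hx⟩ := hc.2 _ (n_mem φ hP a) (hinv a) (hne1 a ha)
    refine hx ?_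
    rw [act_eq h, map_add, LinearMap.add_apply, h.alt, zero_add]
    show B (n φ a x) x = 0
    rw [hform, e, mul_zero, zero_add, map_add, map_smul, map_smul, LinearMap.add_apply,
      LinearMap.smul_apply, LinearMap.smul_apply, smul_eq_mul, smul_eq_mul, h.swap (w a) x, h.swap v x,
      mul_comm]
    exact h.add_self_scalar _
  have hnw : ∀ a b, n φ a (w b) = B (w b) (w a) • v := fun a b => by
    rw [hform, h.swap (w b) v, hwv, zero_smul, zero_mul, zero_add, zero_add]
  have hnadd : ∀ a b, n φ (a + b) v' = w a + w b + (c a + c b + B (w b) (w a)) • v := fun a b => by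
    rw [n_add φ h, LinearMap.add_apply, LinearMap.add_apply, Module.End.mul_apply, hnv' b,
      map_add (n φ a), hnw, map_smul, hnv, smul_zero, add_zero, hnv' a, add_smul, add_smul]
    abel
  have hcadd : ∀ a b, c (a + b) = c a + c b + B (w b) (w a) := fun a b => by
    rw [hcdef (a + b), hnadd, map_add, map_add, LinearMap.add_apply, LinearMap.add_apply, map_smul,
      LinearMap.smul_apply, hwv', hwv', hvv', zero_add, zero_add, smul_eq_mul, mul_one]
  have hwadd : ∀ a b, w (a + b) = w a + w b := fun a b => by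
    rw [hwdef (a + b), hnadd, hcadd, add_assoc, h.add_self, add_zero]
  have hw0 : ∀ a, a ≠ 0 → w a ≠ 0 := by
    intro a ha e
    have hle : L a ha ≤ Submodule.span F {v} := by
      intro y hy
      obtain ⟨x, rfl⟩ := hLsur a ha y hy
      rw [hform, e, smul_zero, zero_add]
      exact Submodule.smul_mem _ _ (Submodule.mem_span_singleton_self v)
    have := Submodule.finrank_mono hle
    rw [hL2, finrank_span_singleton hv0] at this
    omega
  obtain ⟨z₁, hk⟩ : ∃ z, B (w 1) (w z) ≠ 0 := by
    by_contra hno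
    push Not at hno
    have hall : ∀ a, ∀ ha : a ≠ 0, L a ha = Submodule.span F ({v, w 1} : Set (ι → F)) := by
      intro a ha
      refine (Submodule.eq_of_le_of_finrank_le (Submodule.span_le.2 ?_) ?_).symm
      · rintro y (rfl | rfl)
        · exact hvL a ha
        · rw [SetLike.mem_coe, hLker, hnw, hno, zero_smul]
      · rw [hL2]
        have hli : LinearIndependent F ![v, w 1] := by
          rw [LinearIndependent.pair_iff]
          intro s t hst
          have e1 := congrArg (fun y => B y v') hst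
          simp only [map_add, map_smul, LinearMap.add_apply, LinearMap.smul_apply, hvv', hwv',
            smul_eq_mul, mul_one, mul_zero, add_zero, map_zero, LinearMap.zero_apply] at e1
          rw [e1, zero_smul, zero_add, smul_eq_zero] at hst
          exact ⟨e1, hst.resolve_right (hw0 1 one_ne_zero)⟩
        have hr := finrank_span_eq_card hli
        rw [Matrix.range_cons, Matrix.range_cons, Matrix.range_empty, Set.union_empty,
          Fintype.card_fin, Set.singleton_union] at hr
        rw [hr]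
    exact hab ((hall a₀ ha₀).trans (hall b₀ hb₀).symm)
  set k := B (w 1) (w z₁) with hkdef
  -- the coordinates and the form
  set ξ : (ι → F) → F := fun x => B x (w z₁) / k with hξ
  set η : (ι → F) → F := fun x => B x (w 1) / k with hη
  set Q : (ι → F) → F := fun x =>
    B x v * B x v' + ξ x * ξ x * c 1 + η x * η x * c z₁ + ξ x * η x * k with hQ
  have hexp : ∀ x, x = B x v' • v + B x v • v' + (ξ x • w 1 + η x • w z₁) := by
    intro x
    have := h.frame (e₁ := v) (f₁ := v') (e₂ := w 1) (f₂ := k⁻¹ • w z₁) hvv'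
      (by rw [map_smul, ← hkdef, smul_eq_mul, inv_mul_cancel₀ hk]) (hwv 1)
      (by rw [map_smul, hwv, smul_zero]) (by rw [h.swap, hwv'])
      (by rw [map_smul, h.swap, hwv', smul_zero]) x
    conv_lhs => rw [this]
    congr 2
    · rw [map_smul, smul_eq_mul, hξ]; simp only [div_eq_inv_mul]
    · rw [smul_smul, hη]; simp only [div_eq_mul_inv]
  have hB : ∀ x y, B x y = B x v' * B y v + B x v * B y v' + k * (ξ x * η y + η x * ξ y) := by
    intro x y
    conv_lhs => arg 2; rw [hexp y]
    simp only [map_add, map_smul, smul_eq_mul, hξ, hη]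
    field_simp
    ring
  have hQadd : ∀ x y, Q (x + y) = Q x + Q y + B x y := by
    intro x y
    rw [hB x y]
    simp only [hQ, hξ, hη, map_add, LinearMap.add_apply, add_div]
    linear_combination (ξ x * ξ y * c 1 + η x * η y * c z₁) * h.two
  have hQsmul : ∀ (r : F) x, Q (r • x) = r ^ 2 * Q x := by
    intro r x
    simp only [hQ, hξ, hη, map_smul, LinearMap.smul_apply, smul_eq_mul]
    ring
  have hQv : Q v = 0 := by
    simp only [hQ, hξ, hη, h.alt, hwv, zero_div, zero_mul, mul_zero, add_zero]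
  have hQv' : Q v' = 0 := by
    simp only [hQ, hξ, hη, h.alt, h.swap v' (w z₁), h.swap v' (w 1), hwv', zero_div, zero_mul,
      mul_zero, add_zero]
  have hQ1 : Q (w 1) = c 1 := by
    simp only [hQ, hξ, hη, h.alt, h.swap (w 1) v, hwv, ← hkdef, div_self hk, zero_div, zero_mul,
      mul_zero, add_zero, zero_add, one_mul]
  have hQz : Q (w z₁) = c z₁ := by
    simp only [hQ, hξ, hη, h.alt, h.swap (w z₁) v, hwv, h.swap (w z₁) (w 1), ← hkdef, div_self hk,
      zero_div, zero_mul, mul_zero, add_zero, zero_add, one_mul]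
  -- the lower elements
  have hpline : ∀ y, (∀ b, n φ b y = 0) → y ∈ Submodule.span F {v} := fun y hy => by
    rw [← hIv]; exact ⟨(hLker a₀ ha₀ y).2 (hy a₀), (hLker b₀ hb₀ y).2 (hy b₀)⟩
  have hWv : ∀ a, ∀ ha : a ≠ 0, ∃ l : F, l ≠ 0 ∧ act (W a ha) v = l • v' := by
    intro a ha
    set x := act (W a ha) v with hx
    have hm0 : ∀ b, m φ b x = 0 := fun b => by
      have := hmW a ha (b * a * a) x
      rw [show b * a * a * a⁻¹ * a⁻¹ = b by field_simp] at this
      rw [this, hx, hWW, hnv, act_zero]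
    have hy : act (W 1 one_ne_zero) x ∈ Submodule.span F {v} := hpline _ fun b => by
      have h1 := hW1 b x
      rw [hm0] at h1
      have h2' := congrArg (act (W 1 one_ne_zero)) h1
      rw [hWW, act_zero] at h2'
      exact h2'.symm
    obtain ⟨r, hr⟩ := Submodule.mem_span_singleton.1 hy
    have hxr : x = r • p := by rw [← hWW 1 one_ne_zero x, ← hr, act_smul]
    have hxl : x = (r * B v p) • v' := by
      rw [hxr, hv', smul_smul, mul_assoc, mul_inv_cancel₀ hvp, mul_one]
    refine ⟨r * B v p, fun e => hv0 ?_, hxl⟩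
    rw [← hWW a ha v, ← hx, hxl, e, zero_smul, act_zero]
  have hlow : ∀ a, a ≠ 0 → ∀ x, m φ a⁻¹ x =
      (B x v' * (c a)⁻¹) • w a + (B x v' * (c a)⁻¹ + (c a)⁻¹ * B x (w a)) • v' ∧
      ∀ ha : a ≠ 0, act (W a ha) v = (c a)⁻¹ • v' := by
    intro a ha
    obtain ⟨l, hl0, hl⟩ := hWv a ha
    have hmv : m φ a⁻¹ v = l • act (W a ha) (w a) + (l * c a * l) • v' := by
      have := hmW a ha a v
      rw [show a * a⁻¹ * a⁻¹ = a⁻¹ by field_simp] at this
      rw [this, hl, map_smul, hnv', act_smul, act_add, act_smul, hl, smul_add, smul_smul, smul_smul,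
        mul_assoc]
    have hWwv : B (act (W a ha) (w a)) v = 0 := by
      rw [← h.pres _ (hWm a ha), hWW, hl, map_smul, hwv', smul_zero]
    have hWwv' : B (act (W a ha) (w a)) v' = 0 := by
      rw [← h.pres _ (hWm a ha), hWW, show act (W a ha) v' = l⁻¹ • v by
        rw [← inv_smul_smul₀ hl0 v', ← hl, act_smul, hWW], map_smul, h.swap, hwv, smul_zero]
    obtain ⟨u', hu'⟩ : ∃ u', u' = l • act (W a ha) (w a) := ⟨_, rfl⟩
    rw [← hu'] at hmv
    have hrel : l • v' = v + m φ a⁻¹ v + n φ a (v + m φ a⁻¹ v) := by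
      rw [← hl]
      simp only [hW]
      rw [wM_eq_uvu h2 ha, map_mul, map_mul, act_mul, act_mul, act_eq h (φ (uM a)) v]
      show act _ (act _ (v + n φ a v)) = _
      rw [hnv, add_zero, act_eq h (φ (vM a⁻¹)) v, act_eq h (φ (uM a))]
      rfl
    rw [map_add, hnv, zero_add, hmv] at hrel
    rw [map_add (n φ a) u', map_smul (n φ a) (l * c a * l) v', hnv', hform a u',
      show B u' v = 0 by rw [hu', map_smul, LinearMap.smul_apply, hWwv, smul_zero], zero_smul,
      zero_mul, zero_add, zero_add] at hrel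
    have hu'v' : B u' v' = 0 := by rw [hu', map_smul, LinearMap.smul_apply, hWwv', smul_zero]
    have e1 := congrArg (fun y => B y v') hrel
    simp only [map_add, map_smul, LinearMap.add_apply, LinearMap.smul_apply, h.alt, hvv', hu'v',
      hwv', smul_eq_mul, mul_zero, add_zero, mul_one, zero_add] at e1
    have e2 := congrArg (fun y => B y v) hrel
    simp only [map_add, map_smul, LinearMap.add_apply, LinearMap.smul_apply, h.alt, hv'v,
      h.swap (w a) v, hwv, show B u' v = 0 by rw [hu', map_smul, LinearMap.smul_apply, hWwv, smul_zero],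
      smul_eq_mul, mul_zero, add_zero, mul_one, zero_add] at e2
    have hlc : l * c a = 1 := by
      refine mul_left_cancel₀ hl0 ?_
      rw [mul_one, ← mul_assoc]
      linear_combination -e2
    have hu'w : u' = l • w a := by
      have hz : ∀ y, B y v = 0 → B y v' = 0 → B y (w 1) = 0 → B y (w z₁) = 0 → y = 0 := by
        intro y y1 y2 y3 y4
        rw [hexp y]
        simp [hξ, hη, y1, y2, y3, y4]
      have hh : ∀ t, B v t = 0 → B v' t = 0 → B (u' + l • w a) t = 0 := fun t t1 t2 => by
        have := congrArg (fun y => B y t) hrel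
        simp only [map_add, map_smul, LinearMap.add_apply, LinearMap.smul_apply, t1, t2,
          smul_eq_mul, mul_zero, add_zero, zero_add] at this
        rw [show l * c a * l = l by rw [hlc, one_mul]] at this
        rw [map_add, map_smul, LinearMap.add_apply, LinearMap.smul_apply, smul_eq_mul]
        linear_combination -this
      have h0 := hz (u' + l • w a)
        (by rw [map_add, map_smul, LinearMap.add_apply, LinearMap.smul_apply,
          show B u' v = 0 by rw [hu', map_smul, LinearMap.smul_apply, hWwv, smul_zero], h.swap, hwv,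
          smul_zero, add_zero])
        (by rw [map_add, map_smul, LinearMap.add_apply, LinearMap.smul_apply, hu'v', hwv', smul_zero,
          add_zero])
        (hh _ (hwv 1) (by rw [h.swap, hwv'])) (hh _ (hwv z₁) (by rw [h.swap, hwv']))
      rw [eq_neg_of_add_eq_zero_left h0, h.neg_eq]
    have hlinv : l = (c a)⁻¹ := eq_inv_of_mul_eq_one_left hlc
    intro x
    refine ⟨?_, fun ha' => by rw [← hlinv]; exact hl⟩
    -- by symmetry
    have hmv' : m φ a⁻¹ v = l • w a + l • v' := by
      rw [hmv, hu'w, show l * c a * l = l by rw [hlc, one_mul]]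
    have hWv' : act (W a ha) v' = l⁻¹ • v := by
      rw [← inv_smul_smul₀ hl0 v', ← hl, act_smul, hWW]
    have hWw : act (W a ha) (w a) = w a := by
      have := congrArg (fun y => l⁻¹ • y) hu'w
      simpa [hu', smul_smul, inv_mul_cancel₀ hl0] using this
    have := hmW a ha a x
    rw [show a * a⁻¹ * a⁻¹ = a⁻¹ by field_simp] at this
    rw [this, hform, act_add, act_smul, act_smul, hWw, hl, smul_smul, ← hlinv]
    rw [h.pres_inv (hWm a ha), h.pres_inv (hWm a ha),
      inv_eq_of_mul_eq_one_right (show W a ha * W a ha = 1 by rw [hW, ← map_mul, wM_sq, map_one]),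
      hl, hWw, map_smul, smul_eq_mul, mul_comm l]
    congr 2
    rw [add_mul, mul_assoc (B x v' * l), mul_comm (c a) l, hlc, mul_one, mul_comm (B x (w a))]
  -- the defect is additive and satisfies the squaring rule
  set D : K → F := fun a => Q (w a) + c a with hD
  have hDadd : ∀ a b, D (a + b) = D a + D b := fun a b => by
    simp only [hD]
    rw [hwadd, hQadd, hcadd, h.swap (w b) (w a)]
    linear_combination (B (w a) (w b)) * h.two
  have hD1 : D 1 = 0 := by simp only [hD]; rw [hQ1]; exact h.add_self_scalar _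
  have hDz : D z₁ = 0 := by simp only [hD]; rw [hQz]; exact h.add_self_scalar _
  set β : K → F := fun a => B (w 1) (w a) / c 1 with hβ
  have hc1 := hc0 1 one_ne_zero
  have hDsq : ∀ a, D (a * a) = β a * β a * D a := by
    intro a
    rcases eq_or_ne a 0 with rfl | ha
    · have h0 : D 0 = 0 := by
        have := hDadd 0 0
        rw [add_zero, h.add_self_scalar] at this
        exact this
      rw [mul_zero, h0, mul_zero]
    obtain ⟨-, hl⟩ := hlow a ha v
    have hl := hl ha
    have hWv' : act (W a ha) v' = c a • v := by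
      rw [show v' = c a • ((c a)⁻¹ • v') by rw [smul_inv_smul₀ (hc0 a ha)], ← hl, act_smul, hWW]
    have hWw1 : act (W a ha) (w 1) = w 1 + (B (w 1) (w a) * (c a)⁻¹) • w a := by
      simp only [hW]
      rw [wM_eq_uvu h2 ha, map_mul, map_mul, act_mul, act_mul, act_eq h (φ (uM a)) (w 1)]
      show act _ (act _ (w 1 + n φ a (w 1))) = _
      rw [hnw, act_eq h (φ (vM a⁻¹)), act_eq h (φ (uM a))]
      show _ + n φ a _ = _
      have hmx : m φ a⁻¹ (w 1 + B (w 1) (w a) • v) = (B (w 1) (w a) * (c a)⁻¹) • w a := by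
        rw [(hlow a ha _).1]
        simp only [map_add, map_smul, LinearMap.add_apply, LinearMap.smul_apply, hwv', hvv', hwv,
          smul_eq_mul, mul_one, zero_add, mul_zero, add_zero]
        rw [show B (w 1) (w a) * (c a)⁻¹ + (c a)⁻¹ * B (w 1) (w a) = 0 by
          rw [mul_comm ((c a)⁻¹)]; exact h.add_self_scalar _, zero_smul, add_zero]
      rw [show disp (φ (vM a⁻¹)) = m φ a⁻¹ from rfl, hmx, map_add, map_add, hnw, map_smul, hnv,
        map_smul, hnw, h.alt, zero_smul, smul_zero, smul_zero, add_zero, add_zero]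
      linear_combination (norm := module) h.add_self (B (w 1) (w a) • v)
    have key := hmW a ha 1 v
    rw [show (1 : K) * a⁻¹ * a⁻¹ = (a * a)⁻¹ by rw [one_mul, mul_inv], hl, map_smul, hnv', act_smul,
      act_add, act_smul, hl, hWw1, (hlow _ (mul_ne_zero ha ha) v).1, hvv', hwv, one_mul, mul_zero,
      add_zero, smul_smul] at key
    set C := c (a * a)
    have hC : C ≠ 0 := hc0 _ (mul_ne_zero ha ha)
    have e1 := congrArg (fun y => B y v) key
    simp only [map_add, map_smul, LinearMap.add_apply, LinearMap.smul_apply, h.swap (w _) v, hwv,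
      hv'v, smul_eq_mul, mul_zero, add_zero, zero_add, mul_one] at e1
    have hs := hc0 a ha
    have hC' : C = c a * c a / c 1 := by
      field_simp at e1 ⊢
      linear_combination -e1
    have hw2 : C⁻¹ • w (a * a) = (c a)⁻¹ • (w 1 + (B (w 1) (w a) * (c a)⁻¹) • w a) := by
      rw [e1] at key ⊢
      linear_combination (norm := module) key
    have hwsq : w (a * a) = (C * (c a)⁻¹) • w 1 + (C * (c a)⁻¹ * (B (w 1) (w a) * (c a)⁻¹)) • w a := by
      have := congrArg (fun y => C • y) hw2
      simpa [smul_smul, mul_inv_cancel₀ hC, smul_add, mul_assoc] using this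
    have hQw : Q (w (a * a)) = (C * (c a)⁻¹) ^ 2 * c 1 +
        (C * (c a)⁻¹ * (B (w 1) (w a) * (c a)⁻¹)) ^ 2 * Q (w a) +
        C * (c a)⁻¹ * (C * (c a)⁻¹ * (B (w 1) (w a) * (c a)⁻¹)) * B (w 1) (w a) := by
      rw [hwsq, hQadd, hQsmul, hQsmul, hQ1, map_smul, map_smul, LinearMap.smul_apply, smul_eq_mul,
        smul_eq_mul]
      ring
    simp only [hD, hβ]
    rw [show c (a * a) = C from rfl, hQw, hC']
    field_simp
    linear_combination (c a ^ 2 * c 1) * h.two
  have hDall : ∀ a, D a = 0 := by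
    intro a
    have e := hDsq (a + z₁)
    rw [show (a + z₁) * (a + z₁) = a * a + z₁ * z₁ by linear_combination (a * z₁) * h2, hDadd,
      hDadd a z₁, hDsq, hDsq, hDz] at e
    have hb : β (a + z₁) = β a + β z₁ := by
      simp only [hβ]; rw [hwadd, map_add, add_div]
    rw [hb] at e
    have hz0 : β z₁ ≠ 0 := div_ne_zero hk hc1
    have : β z₁ * β z₁ * D a = 0 := by
      linear_combination -e - β a * β z₁ * D a * h.two
    simpa [hz0, hc1] using this
  have hQw : ∀ a, Q (w a) = c a := fun a => by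
    have := hDall a
    simp only [hD] at this
    calc Q (w a) = Q (w a) + (c a + c a) := by rw [h.add_self_scalar, add_zero]
      _ = c a := by rw [← add_assoc, this, zero_add]
  -- the group fixes the form
  have hQact : ∀ (g : GL ι F) (x : ι → F) (N : ι → F), disp g x = N → Q N + B x N = 0 →
      Q (act g x) = Q x := fun g x N hN h0 => by
    rw [act_eq h, hN, hQadd, add_assoc, h0, add_zero]
  let S : Subgroup (Matrix.SpecialLinearGroup (Fin 2) K) :=
    { carrier := {g | ∀ x, Q (act (φ g) x) = Q x}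
      one_mem' := fun x => by rw [map_one, act_one]
      mul_mem' := fun {a b} ha hb x => by rw [map_mul, act_mul, ha, hb]
      inv_mem' := fun {a} ha x => by
        conv_rhs => rw [← act_act_inv (φ a) x, ha]
        rw [map_inv] }
  have hSu : ∀ a, uM a ∈ S := fun a x => by
    refine hQact _ x _ (hform a x) ?_
    rw [hQadd, hQsmul, hQsmul, hQw, hQv, mul_zero, add_zero, map_add, map_smul, map_smul, map_smul,
      map_smul, LinearMap.smul_apply, h.swap (w a) v, hwv, smul_eq_mul, smul_eq_mul, smul_eq_mul,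
      smul_eq_mul]
    linear_combination (B x v * B x v * c a + B x v * B x (w a)) * h.two
  have hSv : ∀ b, vM b ∈ S := fun b x => by
    rcases eq_or_ne b 0 with rfl | hb
    · rw [vM_zero, map_one, act_one]
    have hf := (hlow b⁻¹ (inv_ne_zero hb) x).1
    rw [inv_inv] at hf
    have hcb := hc0 b⁻¹ (inv_ne_zero hb)
    refine hQact _ x _ hf ?_
    rw [hQadd, hQsmul, hQsmul, hQw, hQv', mul_zero, add_zero, map_add, map_smul, map_smul, map_smul,
      map_smul, LinearMap.smul_apply, hwv', smul_eq_mul, smul_eq_mul, smul_eq_mul, smul_eq_mul]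
    have ht := mul_inv_cancel₀ hcb
    linear_combination (B x v' * (c b⁻¹)⁻¹ * B x (w b⁻¹) + B x v' ^ 2 * (c b⁻¹)⁻¹) * h.two +
      (B x v' ^ 2 * (c b⁻¹)⁻¹) * ht
  refine ⟨Q, ⟨fun r x => hQsmul r x, ?_, ?_⟩, ?_⟩
  all_goals have hpol : QuadraticMap.polar Q = fun x y => B x y := by
              funext x y
              simp only [QuadraticMap.polar, hQadd]
              ring
  · rw [hpol]
    exact ⟨fun x y u => by simp, fun r x u => by simp, fun u x y => by simp, fun r u x => by simp⟩
  · rw [hpol]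
    intro x hx
    have : ∃ y, B x y ≠ 0 := by
      by_contra hno
      push Not at hno
      exact hx (h.nondeg x hno)
    obtain ⟨y, hy⟩ := this
    exact ⟨⟨y, by show B y x ≠ 0; rwa [h.swap]⟩, ⟨y, hy⟩⟩
  · rintro _ ⟨g, hg, rfl⟩ x
    obtain ⟨t, rfl⟩ : g ∈ φ.range := hP ▸ hg
    exact mem_of_root_mem S hSu hSv t x

end Hua

open Hua in
/-- `P` is not a two-dimensional linear group of even degree. -/
theorem Ctx.false_of_psl_two_even (h : Ctx B P) (habs : ActsAbsolutelyIrreducibly (matrixSet P))
    (hQ : ¬ ∃ Q : (ι → F) → F, IsNondegenerateQuadraticForm Q ∧ FixesQuadForm (matrixSet P) Q)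
    (hc : AllNonAlt B P) {K : Type*} [Field K] [Fintype K] {n : ℕ} (hn : Fintype.card K = 2 ^ n)
    (e : P ≃* Matrix.ProjectiveSpecialLinearGroup (Fin 2) K) : False := by
  have h2 : (2 : K) = 0 := by
    have h1 : ((2 ^ n : ℕ) : K) = 0 := hn ▸ FiniteField.cast_card_eq_zero K
    push_cast at h1
    exact pow_eq_zero_iff'.1 h1 |>.1
  let φ : Matrix.SpecialLinearGroup (Fin 2) K →* GL ι F :=
    (P.subtype.comp e.symm.toMonoidHom).comp (QuotientGroup.mk' _)
  have hφ : Function.Injective φ := by
    intro a b hab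
    have h1 : QuotientGroup.mk' (Subgroup.center (Matrix.SpecialLinearGroup (Fin 2) K)) a =
        QuotientGroup.mk' _ b := e.symm.injective (Subtype.ext hab)
    rw [QuotientGroup.mk'_eq_mk'] at h1
    obtain ⟨z, hz, rfl⟩ := h1
    obtain ⟨r, hr, hzr⟩ := Matrix.SpecialLinearGroup.mem_center_iff.1 hz
    rw [Fintype.card_fin] at hr
    have hr1 : r = 1 := by
      have : (r + 1) * (r + 1) = 0 := by linear_combination hr + (r + 1) * h2
      linear_combination mul_self_eq_zero.1 this - h2
    have : z = 1 := Subtype.ext (by rw [← hzr, hr1, map_one]; rfl)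
    rw [this, mul_one]
  have hP : φ.range = P := by
    ext x
    constructor
    · rintro ⟨s, rfl⟩; exact Subtype.prop _
    · intro hx
      obtain ⟨s, hs⟩ := QuotientGroup.mk'_surjective
        (Subgroup.center (Matrix.SpecialLinearGroup (Fin 2) K)) (e ⟨x, hx⟩)
      exact ⟨s, by
        show ((e.symm (QuotientGroup.mk' _ s) : P) : GL ι F) = x
        rw [hs, e.symm_apply_apply]⟩
  exact hQ (fixes_quadratic h2 h φ hP hc hφ habs)

end Cfsg.Agent.SpFourEven
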