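import Cfsg.Agent.Lib.Classical.SpFourEven.Rational

/-!
# Two commuting transvections seen from a third

If there is one transvection for each centre and two commuting transvections have different non-zero products
with a third one, then the point of their line orthogonal to the third centre is a centre as well, and it lies
on the affine line through their two vectors.
-/

set_option autoImplicit false
set_option linter.unusedSectionVars false

namespace Cfsg.Agent.SpFourEven

open Matrix Cfsg.Geo Module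

variable {ι : Type} [Fintype ι] [DecidableEq ι] {F : Type*} [Field F]
  {B : LinearMap.BilinForm F (ι → F)} {P : Subgroup (GL ι F)}

/-- `v` is the vector of a transvection in `P`. -/
def Vec (B : LinearMap.BilinForm F (ι → F)) (P : Subgroup (GL ι F)) (v : ι → F) : Prop :=
  v ≠ 0 ∧ ∃ t ∈ P, Tv B t v 1

/-- One transvection for each centre. -/
def OnePerCentre (B : LinearMap.BilinForm F (ι → F)) (P : Subgroup (GL ι F)) : Prop :=
  ∀ s ∈ P, ∀ t ∈ P, ∀ (a : ι → F) (κ μ : F), a ≠ 0 → κ ≠ 0 → μ ≠ 0 → Tv B s a κ → Tv B t a μ → κ = μ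

theorem Tv.of_smul {t : GL ι F} {a : ι → F} {κ c : F} (ht : Tv B t a (κ * c * c)) : Tv B t (c • a) κ :=
  fun x => by
    rw [ht x, map_smul, smul_eq_mul, smul_smul]
    congr 2
    ring

/-- The unipotent radical of the stabiliser of `r`. -/
def Uel (B : LinearMap.BilinForm F (ι → F)) (r : ι → F) (z : GL ι F) (w : ι → F) (c : F) : Prop :=
  ∀ x, act z x = x + B x r • w + (B x w + c * B x r) • r

theorem Uel.tv {r : ι → F} {z : GL ι F} {c : F} (hz : Uel B r z 0 c) : Tv B z r c := fun x => by
  rw [hz x, smul_zero, add_zero, map_zero, zero_add]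

variable (h : Ctx B P)
include h

theorem Ctx.sq_inj {x y : F} (e : x * x = y * y) : x = y := by
  have h1 : (x + y) * (x + y) = 0 := by linear_combination e + (y * y + x * y) * h.two
  calc x = x + (y + y) := by rw [h.add_self_scalar, add_zero]
    _ = y := by rw [← add_assoc, mul_self_eq_zero.1 h1, zero_add]

theorem Ctx.vec_unique (hone : OnePerCentre B P) {a : ι → F} {c : F} (ha : Vec B P a)
    (hc : Vec B P (c • a)) : c = 1 := by
  obtain ⟨ha0, s, hs, hsa⟩ := ha
  obtain ⟨hc0, t, ht, hta⟩ := hc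
  have hc' : c ≠ 0 := fun e => hc0 (by rw [e, zero_smul])
  have e := hone s hs t ht a 1 (1 * c * c) ha0 one_ne_zero (by simp [hc']) hsa (hta.smul c)
  exact (h.sq_inj (by rw [one_mul] at e ⊢; exact e)).symm

theorem Ctx.vec_act {g : GL ι F} (hg : g ∈ P) {v : ι → F} (hv : Vec B P v) : Vec B P (act g v) := by
  obtain ⟨hv0, t, ht, htv⟩ := hv
  refine ⟨fun e => hv0 ?_, _, P.mul_mem (P.mul_mem hg ht) (P.inv_mem hg), h.tv_conj hg htv⟩
  rw [← act_inv_act g v, e, act_zero]

theorem Ctx.vec_reflect {u v : ι → F} (hu : Vec B P u) (hv : Vec B P v) :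
    Vec B P (v + B v u • u) := by
  obtain ⟨-, t, ht, htu⟩ := hu
  have := h.vec_act ht hv
  rwa [htu v, one_mul] at this

theorem Ctx.tv_comm {s t : GL ι F} {a b : ι → F} {κ μ : F} (hab : B a b = 0) (hs : Tv B s a κ)
    (ht : Tv B t b μ) : s * t = t * s :=
  ext_act fun x => by
    rw [act_mul, act_mul, ht x, act_add, act_smul, hs x, hs b, act_add, act_smul, ht x, ht a, hab,
      h.swap b a, hab, mul_zero, mul_zero, zero_smul, zero_smul, add_zero, add_zero]
    abel

/-- Two orthogonal hyperbolic pairs span. -/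
theorem Ctx.frame {e₁ f₁ e₂ f₂ : ι → F} (h1 : B e₁ f₁ = 1) (h2 : B e₂ f₂ = 1) (h12 : B e₁ e₂ = 0)
    (h14 : B e₁ f₂ = 0) (h32 : B f₁ e₂ = 0) (h34 : B f₁ f₂ = 0) (x : ι → F) :
    x = B x f₁ • e₁ + B x e₁ • f₁ + (B x f₂ • e₂ + B x e₂ • f₂) := by
  let v : Fin 4 → ι → F := ![e₁, f₁, e₂, f₂]
  have hli : LinearIndependent F v := by
    rw [Fintype.linearIndependent_iff]
    intro g hg i
    rw [Fin.sum_univ_four] at hg
    have key : ∀ y, g 0 * B e₁ y + g 1 * B f₁ y + g 2 * B e₂ y + g 3 * B f₂ y = 0 := fun y => by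
      have := congrArg (fun z => B z y) hg
      simpa [v] using this
    fin_cases i
    · simpa [h1, h.alt, h.swap e₂ f₁, h32, h.swap f₂ f₁, h34] using key f₁
    · simpa [h.swap f₁ e₁, h1, h.alt, h.swap e₂ e₁, h12, h.swap f₂ e₁, h14] using key e₁
    · simpa [h2, h.alt, h14, h34] using key f₂
    · simpa [h.swap f₂ e₂, h2, h.alt, h12, h32] using key e₂
  have hs := hli.span_eq_top_of_card_eq_finrank (by rw [h.finrank_eq, Fintype.card_fin])
  rw [← sub_eq_zero]
  refine h.eq_zero_of_orth hs ?_
  rintro _ ⟨i, rfl⟩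
  fin_cases i
  · simp [v, h.alt, h.swap f₁ e₁, h1, h.swap e₂ e₁, h12, h.swap f₂ e₁, h14]
  · simp [v, h.alt, h1, h.swap e₂ f₁, h32, h.swap f₂ f₁, h34]
  · simp [v, h.alt, h12, h32, h.swap f₂ e₂, h2]
  · simp [v, h.alt, h14, h34, h2]

theorem Ctx.uel_mul {r w w' : ι → F} {z z' : GL ι F} {c c' : F} (hr : B r w = 0) (hr' : B r w' = 0)
    (hz : Uel B r z w c) (hz' : Uel B r z' w' c') : Uel B r (z * z') (w + w') (c + c' + B w' w) :=
  fun x => by
    rw [act_mul, hz' x, act_add, act_add, act_smul, act_smul, hz x, hz w', hz r, h.alt, hr,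
      h.swap w' r, hr', map_add]
    module

theorem Ctx.uel_conj {r w : ι → F} {z g : GL ι F} {c : F} (hg : g ∈ P) (hgr : act g r = r)
    (hz : Uel B r z w c) : Uel B r (g * z * g⁻¹) (act g w) c := fun x => by
  have e1 : B (act g⁻¹ x) r = B x r := by
    rw [← h.pres g hg, act_act_inv, hgr]
  have e2 : B (act g⁻¹ x) w = B x (act g w) := by
    rw [← h.pres g hg, act_act_inv]
  rw [act_mul, act_mul, hz, act_add, act_add, act_smul, act_smul, act_act_inv, hgr, e1, e2]

theorem Ctx.uel_shift {r w : ι → F} {z : GL ι F} {c s : F} (hz : Uel B r z (w + s • r) c) :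
    Uel B r z w c := fun x => by
  rw [hz x, map_add, map_smul, smul_eq_mul]
  have e := h.add_self ((s * B x r) • r)
  linear_combination (norm := module) e

/-- The commutator of a member of the radical with a transvection. -/
theorem Ctx.uel_step {r u m : ι → F} {z t : GL ι F} {w : ι → F} {c μ y : F} (hz : z ∈ P) (ht : t ∈ P)
    (htm : Tv B t m 1) (hm : m = μ • u + y • r) (hru : B r u = 0) (hrw : B r w = 0)
    (hw : Uel B r z w c) :
    ∃ z' ∈ P, Uel B r z' ((μ * μ * B w u) • u) (μ * B w u * (μ * B w u)) := by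
  have hwm : B w m = μ * B w u := by
    rw [hm, map_add, map_smul, map_smul, smul_eq_mul, smul_eq_mul, h.swap w r, hrw, mul_zero, add_zero]
  have htr : act t r = r := by
    rw [htm r, hm, map_add, map_smul, map_smul, hru, h.alt, smul_zero, smul_zero, add_zero, mul_zero,
      zero_smul, add_zero]
  refine ⟨t * z * t⁻¹ * z, P.mul_mem (P.mul_mem (P.mul_mem ht hz) (P.inv_mem ht)) hz, ?_⟩
  have h1 := h.uel_conj ht htr hw
  have hrtw : B r (act t w) = 0 := by
    rw [← htr, h.pres t ht, hrw]
  have h2 := h.uel_mul hrtw hrw h1 hw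
  have e1 : act t w + w = (μ * μ * B w u) • u + (μ * B w u * y) • r := by
    rw [htm w, one_mul, hwm, add_comm, ← add_assoc, h.add_self, zero_add, hm]
    module
  have e2 : c + c + B w (act t w) = μ * B w u * (μ * B w u) := by
    rw [h.add_self_scalar, zero_add, htm w, map_add, map_smul, h.alt, one_mul, hwm, zero_add, smul_eq_mul]
  rw [e1, e2] at h2
  exact h.uel_shift h2

/-- Every element of `P` in the radical is a transvection. -/
theorem Ctx.uel_trivial [Finite F] (hone : OnePerCentre B P) {r A f v : ι → F} {α β : F}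
    (hAf : B A f = 1) (hrv : B r v = 1) (hAr : B A r = 0) (hAv : B A v = 0) (hfr : B f r = 0)
    (hfv : B f v = 0) (hα : α ≠ 0) (hβ : β ≠ 0) (hne : α ≠ β) (hf : Vec B P f) {y y' : F}
    (ha : Vec B P (α • A + y • r)) (hb : Vec B P (β • A + y' • r)) {z : GL ι F} (hz : z ∈ P)
    {w : ι → F} {c : F} (hrw : B r w = 0) (hw : Uel B r z w c) : Tv B z r c := by
  have hr0 : r ≠ 0 := fun e => one_ne_zero (α := F) (by rw [← hrv, e, map_zero, LinearMap.zero_apply])
  have hrA : B r A = 0 := by rw [h.swap, hAr]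
  have hrAf : B r (A + f) = 0 := by rw [map_add, hrA, h.swap, hfr, add_zero]
  have hsh : ∀ (μ η : F), Vec B P (μ • A + η • r) → Vec B P (μ • (A + f) + η • r) := by
    intro μ η hm
    have := h.vec_reflect hf hm
    rw [map_add, map_smul, map_smul, LinearMap.add_apply, LinearMap.smul_apply, LinearMap.smul_apply,
      hAf, h.swap r f, hfr, smul_zero, add_zero, smul_eq_mul, mul_one] at this
    convert this using 1
    module
  let Λ : Set F := {q | ∃ z ∈ P, ∃ w c, B r w = 0 ∧ Uel B r z w c ∧ B w A = q}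
  -- a round trip through the two directions
  have round : ∀ μ ν η η' : F, Vec B P (μ • A + η • r) → Vec B P (ν • A + η' • r) →
      ∀ q ∈ Λ, ν * ν * (μ * μ) * q ∈ Λ := by
    rintro μ ν η η' hμ hν q ⟨z, hz, w, c, hrw, hw, rfl⟩
    obtain ⟨-, t, ht, htm⟩ := hμ
    obtain ⟨z₁, hz₁, hw₁⟩ := h.uel_step hz ht htm rfl hrA hrw hw
    obtain ⟨-, s, hs, hsm⟩ := hsh ν η' hν
    obtain ⟨z₂, hz₂, hw₂⟩ := h.uel_step hz₁ hs hsm rfl hrAf (by rw [map_smul, hrA, smul_zero]) hw₁
    refine ⟨z₂, hz₂, _, _, ?_, hw₂, ?_⟩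
    · rw [map_smul, hrAf, smul_zero]
    · simp only [map_smul, map_add, LinearMap.smul_apply, LinearMap.add_apply, h.alt, smul_eq_mul,
        zero_add, h.swap f A, hAf]
      ring
  -- closed under division
  have hdiv : ∀ q ∈ Λ, α * α / (β * β) * q ∈ Λ := by
    intro q hq
    haveI := Fintype.ofFinite F
    have hpow : ∀ i q, q ∈ Λ → (β * β * (β * β)) ^ i * q ∈ Λ := by
      intro i
      induction i with
      | zero => exact fun q hq => by rwa [pow_zero, one_mul]
      | succ i ih =>
          intro q hq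
          rw [pow_succ, mul_assoc]
          exact ih _ (round β β y' y' hb hb q hq)
    have hb4 : β * β * (β * β) ≠ 0 := by simp [hβ]
    have h1 := hpow (Fintype.card F - 2) _ (round α β y y' ha hb q hq)
    have hq1 := Fintype.one_lt_card (α := F)
    rw [show (β * β * (β * β)) ^ (Fintype.card F - 2) = (β * β * (β * β))⁻¹ from
      eq_inv_of_mul_eq_one_left (by
        rw [← pow_succ, show Fintype.card F - 2 + 1 = Fintype.card F - 1 by omega,
          FiniteField.pow_card_sub_one_eq_one _ hb4])] at h1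
    convert h1 using 1
    field_simp
  -- the transvection centred at `r` given by a member of `Λ`
  have htv : ∀ q ∈ Λ, ∃ t ∈ P, Tv B t r (α * α * (q * q) * (1 + α * α / (β * β))) := by
    intro q hq
    obtain ⟨z₀, hz₀, w₀, c₀, hrw₀, hw₀, e₀⟩ := hdiv q hq
    obtain ⟨z, hz, w, c, hrw, hw, rfl⟩ := hq
    obtain ⟨-, t, ht, htm⟩ := ha
    obtain ⟨-, s, hs, hsm⟩ := hb
    obtain ⟨z₁, hz₁, hw₁⟩ := h.uel_step hz ht htm rfl hrA hrw hw
    obtain ⟨z₂, hz₂, hw₂⟩ := h.uel_step hz₀ hs hsm rfl hrA hrw₀ hw₀
    refine ⟨z₁ * z₂, P.mul_mem hz₁ hz₂, ?_⟩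
    have h3 := h.uel_mul (by rw [map_smul, hrA, smul_zero]) (by rw [map_smul, hrA, smul_zero]) hw₁ hw₂
    have e : β * β * B w₀ A = α * α * B w A := by
      rw [e₀]; field_simp
    rw [e, h.add_self, h.alt, add_zero] at h3
    convert h3.tv using 1
    rw [e₀]
    field_simp
  have hΛ : ∀ q ∈ Λ, q = 0 := by
    intro q hq
    by_contra hq0
    have hC : 1 + α * α / (β * β) ≠ 0 := by
      intro e
      refine hne (h.sq_inj ?_)
      have e' : β * β + α * α = 0 := by
        have := congrArg (· * (β * β)) e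
        simp only [zero_mul, add_mul, one_mul, div_mul_cancel₀ _ (show β * β ≠ 0 by simp [hβ])] at this
        exact this
      linear_combination e' - (β * β) * h.two
    have fix : ∀ μ η : F, μ ≠ 0 → Vec B P (μ • A + η • r) → μ = 1 := by
      intro μ η hμ hm
      obtain ⟨s, hs, hs'⟩ := htv q hq
      obtain ⟨t, ht, ht'⟩ := htv _ (round μ μ η η hm hm q hq)
      have e := hone s hs t ht r _ _ hr0 (by simp [hα, hq0, hC]) (by simp [hα, hq0, hC, hμ]) hs' ht'
      have e4 : μ * μ * (μ * μ) = 1 := by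
        have e1 : q * q = μ * μ * (μ * μ) * q * (μ * μ * (μ * μ) * q) := by
          refine mul_left_cancel₀ (show α * α ≠ 0 by simp [hα]) (mul_right_cancel₀ hC ?_)
          linear_combination e
        have e2 := h.sq_inj e1
        exact mul_right_cancel₀ hq0 (by rw [one_mul]; exact e2.symm)
      exact h.sq_inj (h.sq_inj (by rw [e4, one_mul, one_mul]))
    exact hne ((fix α y hα ha).trans (fix β y' hβ hb).symm)
  have h0 : B w A = 0 := hΛ _ ⟨z, hz, w, c, hrw, hw, rfl⟩
  have h1 : B w f = 0 := by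
    obtain ⟨-, s, hs, hsm⟩ := hsh β y' hb
    obtain ⟨z', hz', hw'⟩ := h.uel_step hz hs hsm rfl hrAf hrw hw
    have := hΛ _ ⟨z', hz', _, _, by rw [map_smul, hrAf, smul_zero], hw', rfl⟩
    simpa [map_add, h0, hβ, h.alt, h.swap f A, hAf] using this
  have e := h.frame hAf hrv hAr hAv hfr hfv w
  rw [h0, h1, h.swap w r, hrw, zero_smul, zero_smul, zero_smul, zero_add, add_zero, zero_add] at e
  have hw' : Uel B r z ((0 : ι → F) + B w v • r) c := by rwa [zero_add, ← e]
  exact (h.uel_shift hw').tv

/-- The point orthogonal to `f` on the line of `a` and `b`. -/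
theorem Ctx.pair_point [Finite F] (hone : OnePerCentre B P) {a b f : ι → F} (ha : Vec B P a)
    (hb : Vec B P b) (hf : Vec B P f) (hab : B a b = 0) {α β : F} (hα' : B a f = α) (hβ' : B b f = β)
    (hα : α ≠ 0) (hβ : β ≠ 0) (hne : α ≠ β) :
    Vec B P ((α + β)⁻¹ • (β • a + α • b)) := by
  classical
  set r := β • a + α • b with hrdef
  set A := α⁻¹ • a with hAdef
  clear_value A r
  have hab' : B b a = 0 := by rw [h.swap, hab]
  have hne' : α + β ≠ 0 := fun e => hne (by
    calc α = α + (β + β) := by rw [h.add_self_scalar, add_zero]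
      _ = β := by rw [← add_assoc, e, zero_add])
  have hr0 : r ≠ 0 := by
    intro e
    refine hne ?_
    have hb' : b = (α⁻¹ * β) • a := by
      have e' : α • b = β • a := by
        rw [← h.neg_eq (β • a)]; rw [hrdef] at e; exact eq_neg_of_add_eq_zero_right e
      rw [← inv_smul_smul₀ hα b, e', smul_smul]
    have := h.vec_unique hone ha (hb' ▸ hb)
    field_simp at this
    exact this.symm
  have hAf : B A f = 1 := by rw [hAdef, map_smul, LinearMap.smul_apply, hα', smul_eq_mul, inv_mul_cancel₀ hα]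
  have hAr : B A r = 0 := by simp [hAdef, hrdef, h.alt, hab]
  have hfr : B f r = 0 := by
    rw [hrdef, map_add, map_smul, map_smul, h.swap f a, h.swap f b, hα', hβ', smul_eq_mul, smul_eq_mul,
      mul_comm β, h.add_self_scalar]
  obtain ⟨x, hx⟩ : ∃ x, B r x = 1 := by
    obtain ⟨x, hx⟩ : ∃ x, B r x ≠ 0 := by
      by_contra hc
      push Not at hc
      exact hr0 (h.nondeg r hc)
    exact ⟨(B r x)⁻¹ • x, by rw [map_smul, smul_eq_mul, inv_mul_cancel₀ hx]⟩
  set v := x + B x f • A + B x A • f with hvdef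
  clear_value v
  have hrv : B r v = 1 := by
    simp [hvdef, hx, h.swap r A, hAr, h.swap r f, hfr]
  have hAv : B A v = 0 := by
    simp [hvdef, h.alt, hAf, h.swap A x, h.add_self_scalar]
  have hfv : B f v = 0 := by
    simp [hvdef, h.alt, h.swap f A, hAf, h.swap f x, h.add_self_scalar]
  have haA : a = α • A + (0 : F) • r := by rw [hAdef, smul_inv_smul₀ hα, zero_smul, add_zero]
  have hbA : b = β • A + α⁻¹ • r := by
    have e : β • A + α⁻¹ • r = b + ((α⁻¹ * β) • a + (α⁻¹ * β) • a) := by
      rw [hAdef, hrdef, smul_add, smul_smul, smul_smul, smul_smul, inv_mul_cancel₀ hα, one_smul,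
        mul_comm β]
      abel
    rw [e, h.add_self, add_zero]
  have haV := ha
  have hbV := hb
  obtain ⟨-, p, hp, hpa⟩ := ha
  obtain ⟨-, p', hp', hpb⟩ := hb
  obtain ⟨hf0, φ, hφ, hφf⟩ := hf
  set π := p * p' with hπ
  have hπP : π ∈ P := P.mul_mem hp hp'
  have hπact : ∀ y, act π y = y + B y a • a + B y b • b := fun y => by
    rw [hπ, act_mul, hpb y, act_add, act_smul, hpa y, hpa b, hab', one_mul, one_mul, mul_zero,
      zero_smul, add_zero]
  set κ := α * α + β * β with hκ
  have hκ0 : κ ≠ 0 := fun e => hne (h.sq_inj (by linear_combination e - (β * β) * h.two))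
  have hra : B r a = 0 := by simp [hrdef, h.alt, hab']
  have hrb : B r b = 0 := by simp [hrdef, h.alt, hab]
  have hπA : act π A = A := by simp [hπact, hAdef, h.alt, hab]
  have hπf : act π f = f + κ • A + (β * α⁻¹) • r := by
    rw [hπact, h.swap f a, h.swap f b, hα', hβ']
    conv_lhs => rw [haA, hbA]
    rw [hκ]
    module
  have hπr : act π r = r := by simp [hπact, hra, hrb]
  have hφA : act φ A = A + f := by rw [hφf A, hAf, one_mul, one_smul]
  have hφr : act φ r = r := by rw [hφf r, h.swap r f, hfr, mul_zero, zero_smul, add_zero]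
  have hφff : act φ f = f := by rw [hφf f, h.alt, mul_zero, zero_smul, add_zero]
  set X := π * φ with hX
  have hXP : X ∈ P := P.mul_mem hπP hφ
  have hXA : act X A = A + f + κ • A + (β * α⁻¹) • r := by
    rw [hX, act_mul, hφA, act_add, hπA, hπf]; abel
  have hXf : act X f = f + κ • A + (β * α⁻¹) • r := by rw [hX, act_mul, hφff, hπf]
  have hXr : act X r = r := by rw [hX, act_mul, hφr, hπr]
  -- congruence modulo the line of `r`
  let R : Submodule F (ι → F) := Submodule.span F {r}
  have h3 : (3 : F) = 1 := by linear_combination h.two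
  have h4 : (4 : F) = 0 := by linear_combination 2 * h.two
  have h5 : (5 : F) = 1 := by linear_combination 2 * h.two
  have hstep : ∀ u, u = A ∨ u = f → act X (act X u) + κ • act X u + u ∈ R := by
    intro u hu
    refine Submodule.mem_span_singleton.2 ?_
    rcases hu with hu | hu <;> subst u
    · refine ⟨β * α⁻¹, ?_⟩
      rw [hXA, act_add, act_add, act_add, act_smul, act_smul, hXA, hXf, hXr]
      match_scalars <;> ring_nf <;> simp [h.two, h3, h4, h5]
    · refine ⟨0, ?_⟩
      rw [hXf, act_add, act_add, act_smul, act_smul, hXA, hXf, hXr]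
      match_scalars <;> ring_nf <;> simp [h.two, h3, h4, h5]
  have hpow : ∀ n : ℕ, ∃ p s : F, ∀ u, u = A ∨ u = f → act (X ^ n) u + (p • act X u + s • u) ∈ R := by
    intro n
    induction n with
    | zero => exact ⟨0, 1, fun u _ => by simp [h.add_self]⟩
    | succ n ih =>
      obtain ⟨p, s, hps⟩ := ih
      refine ⟨p * κ + s, p, fun u hu => ?_⟩
      obtain ⟨t, ht⟩ := Submodule.mem_span_singleton.1 (hps u hu)
      have h1 : act X (act (X ^ n) u + (p • act X u + s • u)) ∈ R := by
        rw [← ht, act_smul, hXr]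
        exact R.smul_mem _ (Submodule.mem_span_singleton_self r)
      have h2 := R.add_mem h1 (R.smul_mem p (hstep u hu))
      rw [act_add, ← act_mul, ← pow_succ', act_add, act_smul, act_smul] at h2
      convert h2 using 1
      have e := h.add_self (p • act X (act X u))
      linear_combination (norm := module) -e
  let Triv : ℕ → Prop := fun n => 0 < n ∧ act (X ^ n) A + A ∈ R ∧ act (X ^ n) f + f ∈ R
  have hhalf : ∀ m, Triv (2 * m) → Triv m := by
    rintro m ⟨hm0, -, hmf⟩
    obtain ⟨p, s, hps⟩ := hpow m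
    have hcomm : ∀ u, act (X ^ m) (act X u) = act X (act (X ^ m) u) := fun u => by
      rw [← act_mul, ← act_mul, ← pow_succ, pow_succ']
    have hRm : ∀ u ∈ R, act (X ^ m) u ∈ R := fun u hu => by
      obtain ⟨t, rfl⟩ := Submodule.mem_span_singleton.1 hu
      have : ∀ i : ℕ, act (X ^ i) r = r := by
        intro i
        induction i with
        | zero => simp
        | succ i ih => rw [pow_succ, act_mul, hXr, ih]
      rw [act_smul, this]
      exact R.smul_mem _ (Submodule.mem_span_singleton_self r)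
    have h1 : act (X ^ (2 * m)) f + ((p * p * κ) • act X f + (p * p + s * s) • f) ∈ R := by
      have e1 := hRm _ (hps f (Or.inr rfl))
      rw [act_add, act_add, act_smul, act_smul, hcomm, ← act_mul, ← pow_add, ← two_mul] at e1
      obtain ⟨t, ht⟩ := Submodule.mem_span_singleton.1 (hps f (Or.inr rfl))
      have e2 : act X (act (X ^ m) f + (p • act X f + s • f)) ∈ R := by
        rw [← ht, act_smul, hXr]
        exact R.smul_mem _ (Submodule.mem_span_singleton_self r)
      rw [act_add, act_add, act_smul, act_smul] at e2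
      have e3 := R.add_mem (R.add_mem e1 (R.add_mem (R.smul_mem p e2) (R.smul_mem s (hps f (Or.inr rfl)))))
        (R.smul_mem (p * p) (hstep f (Or.inr rfl)))
      convert e3 using 1
      match_scalars <;> linear_combination (norm := ring_nf) (0 : F) <;> simp [h.two]
    have h2 := R.add_mem h1 hmf
    obtain ⟨t, ht⟩ := Submodule.mem_span_singleton.1 h2
    have eA := congrArg (fun z => B z f) ht
    have eB := congrArg (fun z => B z A) ht
    simp only [map_smul, map_add, LinearMap.smul_apply, LinearMap.add_apply, hXf, h.alt, hAf,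
      h.swap r f, hfr, h.swap r A, hAr, h.swap f A, smul_eq_mul] at eA eB
    have hff : B (act (X ^ (2 * m)) f) f + B (act (X ^ (2 * m)) f) f = 0 := h.add_self_scalar _
    have hfA : B (act (X ^ (2 * m)) f) A + B (act (X ^ (2 * m)) f) A = 0 := h.add_self_scalar _
    have hp0 : p = 0 := by
      have : p * p * (κ * κ) = 0 := by linear_combination -eA - hff
      simpa [hκ0] using this
    have hs1 : s = 1 := by
      refine h.sq_inj ?_
      rw [hp0] at eB
      linear_combination -eB - hfA - h.two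
    refine ⟨by omega, ?_, ?_⟩
    · simpa [hp0, hs1] using hps A (Or.inl rfl)
    · simpa [hp0, hs1] using hps f (Or.inr rfl)
  haveI : Finite (GL ι F) := inferInstance
  have hex : ∃ n, Triv n := ⟨orderOf X, orderOf_pos X, by simp [pow_orderOf_eq_one, h.add_self],
    by simp [pow_orderOf_eq_one, h.add_self]⟩
  obtain ⟨k, hk⟩ : ∃ k, Nat.find hex = 2 * k + 1 := by
    rcases Nat.even_or_odd' (Nat.find hex) with ⟨k, hk | hk⟩
    · have := Nat.find_spec hex
      rw [hk] at this
      have h1 := Nat.find_min' hex (hhalf k this)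
      have h2 := this.1
      omega
    · exact ⟨k, hk⟩
  obtain ⟨-, hzA, hzf⟩ := hk ▸ Nat.find_spec hex
  set z := X ^ (2 * k + 1) with hzdef
  have hzP : z ∈ P := P.pow_mem hXP _
  have hzr : act z r = r := by
    have : ∀ i : ℕ, act (X ^ i) r = r := by
      intro i
      induction i with
      | zero => simp
      | succ i ih => rw [pow_succ, act_mul, hXr, ih]
    exact this _
  obtain ⟨ε, hε⟩ := Submodule.mem_span_singleton.1 hzA
  obtain ⟨η, hη⟩ := Submodule.mem_span_singleton.1 hzf
  have hzA' : act z A = A + ε • r := by rw [hε, add_comm _ A, ← add_assoc, h.add_self, zero_add]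
  have hzf' : act z f = f + η • r := by rw [hη, add_comm _ f, ← add_assoc, h.add_self, zero_add]
  obtain ⟨c, hc⟩ : ∃ c, B (act z v) v = c := ⟨_, rfl⟩
  have hU : Uel B r z (η • A + ε • f) c := by
    have hB1 : B (act z v) r = 1 := by
      conv_lhs => rw [← hzr]
      rw [h.pres z hzP, h.swap, hrv]
    have hzv : act z v = v + (η • A + ε • f) + c • r := by
      conv_lhs => rw [h.frame hAf hrv hAr hAv hfr hfv (act z v)]
      have e1 : B (act z v) f = η := by
        have e := h.pres z hzP v f
        rw [hzf', map_add, map_smul, hB1, smul_eq_mul, mul_one, h.swap v f, hfv] at e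
        rw [← h.sub_eq_add] at e
        exact sub_eq_zero.1 e
      have e2 : B (act z v) A = ε := by
        have e := h.pres z hzP v A
        rw [hzA', map_add, map_smul, hB1, smul_eq_mul, mul_one, h.swap v A, hAv] at e
        rw [← h.sub_eq_add] at e
        exact sub_eq_zero.1 e
      rw [e1, e2, hB1, hc]
      module
    intro y
    conv_lhs => rw [h.frame hAf hrv hAr hAv hfr hfv y]
    rw [act_add, act_add, act_add, act_smul, act_smul, act_smul, act_smul, hzA', hzf', hzr, hzv]
    conv_rhs => arg 1; arg 1; rw [h.frame hAf hrv hAr hAv hfr hfv y]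
    rw [map_add, map_smul, map_smul, smul_eq_mul, smul_eq_mul]
    module
  have hrw : B r (η • A + ε • f) = 0 := by simp [h.swap r A, hAr, h.swap r f, hfr]
  have hzT := h.uel_trivial hone hAf hrv hAr hAv hfr hfv hα hβ hne ⟨hf0, φ, hφ, hφf⟩
    (by rw [← haA]; exact haV) (by rw [← hbA]; exact hbV) hzP hrw hU
  -- a member of the class of `φ`
  have hπ2 : π * π = 1 := by
    have e := h.tv_comm hab hpa hpb
    rw [hπ, mul_assoc, ← mul_assoc p' p, ← e, mul_assoc, h.tv_sq hpb, mul_one, h.tv_sq hpa]
  have hφ2 : φ * φ = 1 := h.tv_sq hφf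
  have hzφ : z * φ = φ * z := h.tv_comm (by rw [h.swap, hfr]) hzT hφf
  have hrev : ∀ i : ℕ, φ * X ^ i * φ = X⁻¹ ^ i := by
    intro i
    have e1 : φ⁻¹ = φ := inv_eq_of_mul_eq_one_right hφ2
    have e2 : π⁻¹ = π := inv_eq_of_mul_eq_one_right hπ2
    calc φ * X ^ i * φ = (φ * X * φ⁻¹) ^ i := by rw [conj_pow, e1]
      _ = X⁻¹ ^ i := by
        congr 1
        rw [hX, _root_.mul_inv_rev, e1, e2, ← mul_assoc, mul_assoc, hφ2, mul_one]
  set g := X ^ (k + 1) with hg
  have hconj : g * φ * g⁻¹ = z * π := by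
    have e : φ * g⁻¹ = g * φ := by
      rw [hg, ← inv_pow, ← hrev, ← mul_assoc, ← mul_assoc, hφ2, one_mul]
    rw [mul_assoc, e, ← mul_assoc, hg, ← pow_add, show k + 1 + (k + 1) = 2 * k + 1 + 1 by omega,
      pow_succ, ← hzdef, hX, mul_assoc z, mul_assoc π, hφ2, mul_one]
  set d := act g f
  have hd : Tv B (z * π) d 1 := hconj ▸ h.tv_conj (P.pow_mem hXP _) hφf
  have hact : ∀ y, act (z * π) y = y + B y a • a + B y b • b + (c * B y r) • r := fun y => by
    rw [act_mul, hπact, hzT, map_add, map_add, map_smul, map_smul, LinearMap.add_apply,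
      LinearMap.add_apply, LinearMap.smul_apply, LinearMap.smul_apply, h.swap a r, h.swap b r, hra, hrb,
      smul_zero, smul_zero, add_zero, add_zero]
  have hform : ∀ y y', B y d * B y' d = B y a * B y' a + B y b * B y' b + c * (B y r * B y' r) := by
    intro y y'
    have e := congrArg (fun x => B y' x) ((hd y).symm.trans (hact y))
    simp only [map_add, map_smul, smul_eq_mul, one_mul] at e
    linear_combination e
  have hva : B v a = 0 := by rw [haA]; simp [h.swap v A, hAv]
  have hvb : B v b = α⁻¹ := by rw [hbA]; simp [h.swap v A, hAv, h.swap v r, hrv]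
  have e11 := hform f f
  have e12 := hform f v
  have e22 := hform v v
  rw [h.swap f a, h.swap f b, hα', hβ', hfr] at e11 e12
  rw [hva, hvb, h.swap v r, hrv] at e12 e22
  have key : (α + β) * (α + β) * c = 1 := by
    have e : (α * α + β * β) * (α⁻¹ * α⁻¹ + c) = β * α⁻¹ * (β * α⁻¹) := by
      linear_combination -(α⁻¹ * α⁻¹ + c) * e11 - (B f d * B f d) * e22 + (B f d * B v d + β * α⁻¹) * e12
    have hi : α * α * (α⁻¹ * α⁻¹) = 1 := by field_simp
    linear_combination e - hi + (α * β * c - 1) * h.two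
  refine ⟨fun e => hr0 ((smul_eq_zero.1 e).resolve_left (inv_ne_zero hne')), z, hzP, ?_⟩
  refine Tv.of_smul ?_
  convert hzT using 1
  field_simp
  linear_combination -key

end Cfsg.Agent.SpFourEven
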