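import Cfsg.Agent.Lib.Classical.SpFourEven.Basic

/-!
# Plan for S5791

Setting: `h : Ctx B P` (see `Basic`), `t` below is always an element of `P`, `N_t x = x + act t x`.
Nonscalar `ι` is arbitrary of size 4; the assembly uses `ι = Fin 2 ⊕ Fin 2`, `B` = `sympForm 2 F` as a bilinear form.

## Realise.lean  (generic)
`realisable_of_traces (hP : ActsAbsolutelyIrreducibly (matrixSet P)) (τ : F ≃+* F)
   (htr : ∀ g ∈ P, τ (trace g) = trace g) : RealisableOver (fixedField τ) (matrixSet P)`.
Sketch: `P` spans `Matrix ι ι F` (density); with a basis `g_i ∈ P` the Gram matrix of the trace form is
invertible with entries fixed by `τ`, so the coordinates of every `g ∈ P` are fixed; hence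
`Σ c_i g_i ↦ Σ τ c_i g_i` is a semilinear algebra automorphism fixing `P`; composed with `map τ` it is
inner, which gives the intertwiner of `Classical.realisable_of_cyclic_intertwiner`.

## Root.lean
`false_of_root (h : Ctx B P) (hns : no proper subfield realises P) (hne : some isometry is not in P)
   (two transvections s ≠ t in P with a common centre) : False`, in the form: `P` contains every `Tv B g v κ`.
Sketch: for a centre `a` let `K a = {κ | the transvection (a, κ) is in P}` (additive group).
For non-orthogonal centres `a, b` with `B a b = 1`, the midpoint of the dihedral group of two noncommuting
involutions gives `w : a ↦ ε b, b ↦ a / ε` in `P` for all `κ ∈ K a#`, `λ ∈ K b#`, where `ε` has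
`K b = ε² K a` and `λ = ε² κ`.  Two such swaps compose to a torus element scaling `K a` by `λ'/λ`; with
`1 ∈ K a` this makes `K a` a field `F0` and `K b = ν F0`.  For the third centre `c = b + κ a` the product
`w_ac w_bc w_ab` (the middle one with a free `f ∈ F0#`) fixes the line of `a` and is upper triangular with
off-diagonal entry in `F0 + (f² + 1)/(κ ν) F0#`, which must lie in `F0`, so `ν ∈ F0`.  Hence normalised centres
(`K = F0`) have all `B`-values in `F0`: `P` is realised over `F0`, so `F0 = F` and all `K = F` (connectedness:
the orthogonality complement of a set of centres which is closed is invariant).  Then the centres are closed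
under lines through two non-orthogonal ones, so every vector is a centre.

## Single.lean
`false_of_single (h : Ctx B P) (hQ : no nondegenerate quadratic form with polar B fixed) (hns)
   (four ≤ card F) (a transvection) (no two with a common centre) : False`.
Transfer: a homomorphism on a Sylow 2-subgroup which is 1 on all of its transvections contradicts simplicity.

## Star.lean
`exists_transvection_image`: if `P` has no transvection but an involution `t` with `B (t x) x = 0` for all `x`
(type a2), then there are `Ctx B' P'`, an isomorphism `P ≃* P'` (through `Lie.star4` after relabelling the
coordinates to `Fin 4`) with a transvection in `P'`, and such that `RealisableOver F0 P'` implies that all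
squares of traces of `P` lie in `F0`.  Irreducibility of `P'`: an invariant vector comes from an invariant
totally isotropic plane of `P`; a plane `π` is impossible as a transvection acts trivially on one of `π`, `V/π`,
so it is in the kernel of that action, hence all of the simple group is, and a vector is fixed.

## Cit.lean
* `cit`: under `AllNonAlt`, every centraliser of an involution is a 2-group (exponent 4: on the Lagrangian `L`
  the form `B (N x) y` is symmetric nonalternating, so `g|L` fixes its vector `d`, has determinant 1, is unipotent).
* `P ≃* PSL(2, p)`, `p ≥ 7` Fermat or Mersenne: an element of order `p` has at most 4 eigenvalues in an algebraic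
  closure, closed under inversion and under a set of `(p-1)/2` exponents. False.
* `P ≃* PSL(3, 4)`: a 3-group `⟨x, y⟩` of type (3,3) with all nontrivial members conjugate: some member fixes a
  vector, then all do; the fixed planes and their complements give a member without fixed vector. False.
* `P ≃* Sz(r)`, `r = 2^(2m+1)`: for odd order `x`, `x^r` is conjugate to `x` (tori), so `tr x^r = tr x` for all
  `x`; `realisable_of_traces` gives `f ∣ 2m+1` for `|F| = 2^f`, and `r² ∣ q⁴` gives `f = 2m+1`.

## Hua.lean
`false_of_psl_two_even (h : Ctx B P) (habs) (hc : AllNonAlt B P) (P ≃* SL(2, Q), Q ≥ 4 even) : False`.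
Let `U`, `U'` be the images of the two unitriangular groups; `u(x) v(1/x) u(x)` swaps them.
(i) all `N_u`, `u ∈ U`, have one kernel `L`: otherwise they share a point `v`; with the partner point `v'`
(`B v v' = 1`, by irreducibility) `N_u v' = w + c v` and the relation gives for `U'` the pair `(w/c, 1/c)`;
additivity for `a`, `a+1` gives `w(a²) = a w(1)`, so all `w` are proportional and the kernels agree.
(ii) `V = L ⊕ L'`; normalise by `u₀` and its partner; `A = {N_u N_{v₀}|L}` is additive, contains 1, and inversion
is additive, so `a² ∈ A` for `a ∈ A`; `ab + ba` is then in `A` and alternating, so 0; the operators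
`diag(a, a')` commute with `P`, so are scalars; then the centraliser of `N_{u₀}, N_{v₀}` does too. False.

## AltSix.lean
`false_of_alt_six (h) (habs) (hns) (hc : AllNonAlt B P) (four ≤ card F) (P ≃* alternatingGroup (Fin 6)) : False`.
One of the two classes of elements `b` of order 3 has no fixed vector (two commuting ones cannot both have
fixed planes), so `b² + b + 1 = 0`; each element `g` of order 5 is `a b` with `a² = 1`; if `g v = v` the plane
`⟨v, b v⟩` is invariant under `⟨a, b⟩` and `g` acts as 1 on it, so `a = b⁻¹` there, so `b = 1` there. So `g`
has no fixed vector and its trace is in the prime field, as are all others: realised over `F₂`.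
-/
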