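import Cfsg.Prelude.Def_Sz

/-!
# The exceptional endomorphism of the four-dimensional symplectic group in characteristic two

Identities for the Plücker coordinates `pl v u` of a totally isotropic pair and for `Lie.star4`.
-/

set_option autoImplicit false
set_option linter.unusedSectionVars false

namespace Cfsg.Agent.SpFourEven

open Matrix

variable {F : Type*} [Field F]

/-- The standard form as a bilinear form. -/
def alt4 (F : Type*) [Field F] : LinearMap.BilinForm F (Fin 4 → F) :=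
  LinearMap.mk₂ F Cfsg.Lie.altForm4
    (fun u u' v => by simp [Cfsg.Lie.altForm4]; ring)
    (fun c u v => by simp [Cfsg.Lie.altForm4]; ring)
    (fun u v v' => by simp [Cfsg.Lie.altForm4]; ring)
    (fun c u v => by simp [Cfsg.Lie.altForm4]; ring)

theorem alt4_apply (u v : Fin 4 → F) : alt4 F u v = u 0 * v 3 + u 1 * v 2 + u 2 * v 1 + u 3 * v 0 := rfl

/-- Plücker coordinates modulo the invariant line. -/
def pl (v u : Fin 4 → F) : Fin 4 → F :=
  ![v 0 * u 1 - v 1 * u 0, v 0 * u 2 - v 2 * u 0, v 1 * u 3 - v 3 * u 1, v 2 * u 3 - v 3 * u 2]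

/-- The standard basis vectors. -/
def bv (i : Fin 4) : Fin 4 → F := Pi.single i 1

theorem alt4_self (h2 : (2 : F) = 0) (v : Fin 4 → F) : alt4 F v v = 0 := by
  rw [alt4_apply]
  linear_combination (v 0 * v 3 + v 1 * v 2) * h2

theorem alt4_nondeg (v : Fin 4 → F) (hv : ∀ w, alt4 F v w = 0) : v = 0 := by
  funext i
  have h0 := hv (bv 0)
  have h1 := hv (bv 1)
  have h2 := hv (bv 2)
  have h3 := hv (bv 3)
  simp [alt4_apply, bv] at h0 h1 h2 h3
  fin_cases i <;> simpa

theorem pl_bv (r : Fin 4) :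
    pl (bv (Cfsg.Lie.pairOf r).1) (bv (Cfsg.Lie.pairOf r).2) = (bv r : Fin 4 → F) := by
  funext i
  fin_cases r <;> fin_cases i <;> simp [pl, bv, Cfsg.Lie.pairOf]

theorem alt4_bv (r : Fin 4) :
    alt4 F (bv (Cfsg.Lie.pairOf r).1) (bv (Cfsg.Lie.pairOf r).2) = 0 := by
  fin_cases r <;> simp [alt4_apply, bv, Cfsg.Lie.pairOf]

/-- Linear maps agree if they agree on the standard basis. -/
theorem lin_ext {W : Type*} [AddCommGroup W] [Module F W] {f g : (Fin 4 → F) →ₗ[F] W}
    (e : ∀ r, f (bv r) = g (bv r)) : f = g :=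
  LinearMap.pi_ext' fun r => LinearMap.ext_ring (e r)

/-- The form on `U/W` is the Pfaffian. -/
theorem alt4_pl (h2 : (2 : F) = 0) {v u v' u' : Fin 4 → F} (hv : alt4 F v u = 0)
    (hv' : alt4 F v' u' = 0) :
    alt4 F (pl v u) (pl v' u') = alt4 F v v' * alt4 F u u' + alt4 F v u' * alt4 F u v' := by
  simp only [alt4_apply] at hv hv'
  simp [alt4_apply, pl]
  linear_combination (norm := ring_nf) (v' 0 * u' 3 + v' 3 * u' 0) * hv + (v 1 * u 2 + v 2 * u 1) * hv'
  simp [h2]

theorem pl_zero_add (v u u' : Fin 4 → F) : pl v (u + u') = pl v u + pl v u' := by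
  funext i
  fin_cases i <;> simp [pl] <;> ring

theorem pl_swap (h2 : (2 : F) = 0) (v u : Fin 4 → F) : pl u v = pl v u := by
  funext i
  fin_cases i <;> simp [pl]
  · linear_combination (u 0 * v 1 - v 0 * u 1) * h2
  · linear_combination (u 0 * v 2 - v 0 * u 2) * h2
  · linear_combination (u 1 * v 3 - v 1 * u 3) * h2
  · linear_combination (u 2 * v 3 - v 2 * u 3) * h2

theorem pl_smul (c : F) (v u : Fin 4 → F) : pl (c • v) u = c • pl v u := by
  funext i
  fin_cases i <;> simp [pl] <;> ring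

/-- The contraction of a pair with a vector depends on its Plücker coordinates only. -/
theorem contract (h2 : (2 : F) = 0) {v u z w : Fin 4 → F} {μ : F} (hv : alt4 F v u = 0)
    (hz : alt4 F z w = 0) (he : pl z w = μ • pl v u) :
    μ • (alt4 F v z • u + alt4 F u z • v) = 0 := by
  have e0 := congrFun he 0
  have e1 := congrFun he 1
  have e2 := congrFun he 2
  have e3 := congrFun he 3
  simp [pl] at e0 e1 e2 e3
  simp only [alt4_apply] at hv hz
  have hπ : z 0 * w 3 - z 3 * w 0 = μ * (v 0 * u 3 - v 3 * u 0) := by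
    have hsq : (z 0 * w 3 - z 3 * w 0 + μ * (v 0 * u 3 - v 3 * u 0)) ^ 2 = 0 := by
      linear_combination (norm := ring_nf)
        (z 2 * w 3 - z 3 * w 2) * e0 + μ * (v 0 * u 1 - v 1 * u 0) * e3
          + (z 1 * w 3 - z 3 * w 1) * e1 + μ * (v 0 * u 2 - v 2 * u 0) * e2
          + (z 0 * w 3 - z 3 * w 0) * hz + μ ^ 2 * (v 0 * u 3 - v 3 * u 0) * hv
      simp [h2]
    have := pow_eq_zero_iff (two_ne_zero) |>.1 hsq
    linear_combination this - μ * (v 0 * u 3 - v 3 * u 0) * h2
  funext k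
  fin_cases k
  · simp [alt4_apply, -mul_eq_zero]
    linear_combination (norm := ring_nf) z 0 * hπ + z 1 * e1 + z 2 * e0 + z 0 * hz
    simp [h2]
  · simp [alt4_apply, -mul_eq_zero]
    linear_combination (norm := ring_nf) z 3 * e0 + z 1 * (hπ + μ * hv) + z 0 * e2
    simp [h2]
  · simp [alt4_apply, -mul_eq_zero]
    linear_combination (norm := ring_nf) z 3 * e1 + z 2 * (hπ + μ * hv) + z 0 * e3
    simp [h2]
  · simp [alt4_apply, -mul_eq_zero]
    linear_combination (norm := ring_nf) z 3 * hπ + z 2 * e2 + z 1 * e3 + z 3 * hz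
    simp [h2]

/-- Only dependent orthogonal pairs have all coordinates zero. -/
theorem ne_zero_of_pl (h2 : (2 : F) = 0) {v u : Fin 4 → F} (hv : alt4 F v u = 0)
    (hind : ∀ a b : F, a • u + b • v = 0 → a = 0 ∧ b = 0) : pl v u ≠ 0 := fun e => by
  have key : ∀ z, alt4 F v z = 0 := fun z => by
    have h' : alt4 F v z • u + alt4 F u z • v = 0 := by
      have e0 := congrFun e 0
      have e1 := congrFun e 1
      have e2 := congrFun e 2
      have e3 := congrFun e 3
      simp [pl] at e0 e1 e2 e3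
      simp only [alt4_apply] at hv
      have hπ : v 0 * u 3 - v 3 * u 0 = 0 := by
        have hsq : (v 0 * u 3 - v 3 * u 0) ^ 2 = 0 := by
          linear_combination (norm := ring_nf) (v 2 * u 3 - v 3 * u 2) * e0
            + (v 1 * u 3 - v 3 * u 1) * e1 + (v 0 * u 3 - v 3 * u 0) * hv
          simp [h2]
        exact pow_eq_zero_iff (two_ne_zero) |>.1 hsq
      funext k
      fin_cases k
      · simp [alt4_apply, -mul_eq_zero]
        linear_combination (norm := ring_nf) z 0 * hπ + z 1 * e1 + z 2 * e0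
        simp [h2]
      · simp [alt4_apply, -mul_eq_zero]
        linear_combination (norm := ring_nf) z 3 * e0 + z 1 * (hπ + hv) + z 0 * e2
        simp [h2]
      · simp [alt4_apply, -mul_eq_zero]
        linear_combination (norm := ring_nf) z 3 * e1 + z 2 * (hπ + hv) + z 0 * e3
        simp [h2]
      · simp [alt4_apply, -mul_eq_zero]
        linear_combination (norm := ring_nf) z 3 * hπ + z 2 * e2 + z 1 * e3
        simp [h2]
    exact (hind _ _ h').1
  have h0 := alt4_nondeg v key
  exact one_ne_zero ((hind 0 1 (by rw [h0, smul_zero, zero_smul, add_zero])).2)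

/-- A square-root gives a pair with prescribed coordinates. -/
theorem exists_pl (h2 : (2 : F) = 0) (hsq : ∀ a : F, ∃ b, b * b = a) (x : Fin 4 → F) :
    ∃ v u, alt4 F v u = 0 ∧ pl v u = x := by
  obtain ⟨π, hπ⟩ := hsq (x 0 * x 3 + x 1 * x 2)
  by_cases h0 : x 0 = 0
  · by_cases h1 : x 1 = 0
    · refine ⟨![0, 0, 0, 1], ![0, x 2, x 3, 0], by simp [alt4_apply], ?_⟩
      funext i
      fin_cases i <;> simp [pl, h0, h1]
      · linear_combination (-x 2) * h2
      · linear_combination (-x 3) * h2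
    · rw [h0, zero_mul, zero_add] at hπ
      refine ⟨![1, π / x 1, 0, x 3 / x 1], ![0, 0, x 1, π], ?_, ?_⟩
      · simp [alt4_apply, h1]
        linear_combination π * h2
      · funext i
        fin_cases i <;> simp [pl, h0]
        · rw [div_mul_eq_mul_div, hπ, mul_div_assoc, mul_comm, div_mul_cancel₀ _ h1]
        · rw [div_mul_cancel₀ _ h1]
          linear_combination (-x 3) * h2
  · refine ⟨![1, 0, π / x 0, x 2 / x 0], ![0, x 0, x 1, π], ?_, ?_⟩
    · simp [alt4_apply, h0]
      linear_combination π * h2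
    · funext i
      fin_cases i <;> simp [pl]
      · rw [div_mul_cancel₀ _ h0]
        linear_combination (-x 2) * h2
      · field_simp
        linear_combination hπ

/-- The image of a pair under a transvection pair of type `a₂`. -/
theorem pl_move (h2 : (2 : F) = 0) {v u l₁ l₂ : Fin 4 → F} (β : F) (hv : alt4 F v u = 0)
    (hl : alt4 F l₁ l₂ = 0) :
    pl (v + β • (alt4 F v l₁ • l₂ + alt4 F v l₂ • l₁)) (u + β • (alt4 F u l₁ • l₂ + alt4 F u l₂ • l₁)) =
      pl v u + (β * β * alt4 F (pl v u) (pl l₁ l₂)) • pl l₁ l₂ := by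
  rw [alt4_pl h2 hv hl]
  simp only [alt4_apply] at hv hl ⊢
  funext i
  fin_cases i <;> simp [pl]
  · linear_combination (norm := ring_nf) β * (v 0 * u 1 - v 1 * u 0) * hl + β * (l₁ 0 * l₂ 1 - l₁ 1 * l₂ 0) * hv
    simp [h2]
  · linear_combination (norm := ring_nf) β * (v 0 * u 2 - v 2 * u 0) * hl + β * (l₁ 0 * l₂ 2 - l₁ 2 * l₂ 0) * hv
    simp [h2]
  · linear_combination (norm := ring_nf) β * (v 1 * u 3 - v 3 * u 1) * hl + β * (l₁ 1 * l₂ 3 - l₁ 3 * l₂ 1) * hv
    simp [h2]
  · linear_combination (norm := ring_nf) β * (v 2 * u 3 - v 3 * u 2) * hl + β * (l₁ 2 * l₂ 3 - l₁ 3 * l₂ 2) * hv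
    simp [h2]

/-- The second exterior power of a matrix, restricted to `U/W`, on the coordinates of an orthogonal pair. -/
theorem pl_mulVec (h2 : (2 : F) = 0) {M : Matrix (Fin 4) (Fin 4) F}
    (hR : ∀ k l : Fin 4, M k 0 * M l 3 + M k 1 * M l 2 + M k 2 * M l 1 + M k 3 * M l 0 =
      if k.rev = l then 1 else 0) {v u : Fin 4 → F} (hB : alt4 F v u = 0) :
    pl (M *ᵥ v) (M *ᵥ u) = Cfsg.Lie.star4 M *ᵥ pl v u := by
  simp only [alt4_apply] at hB
  have key : ∀ k l : Fin 4, k.rev ≠ l →
      (M *ᵥ v) k * (M *ᵥ u) l - (M *ᵥ v) l * (M *ᵥ u) k =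
        (M k 0 * M l 1 - M l 0 * M k 1) * (v 0 * u 1 - v 1 * u 0) +
        (M k 0 * M l 2 - M l 0 * M k 2) * (v 0 * u 2 - v 2 * u 0) +
        (M k 1 * M l 3 - M l 1 * M k 3) * (v 1 * u 3 - v 3 * u 1) +
        (M k 2 * M l 3 - M l 2 * M k 3) * (v 2 * u 3 - v 3 * u 2) := by
    intro k l hkl
    have hR' := (hR k l).trans (if_neg hkl)
    simp only [Matrix.mulVec, dotProduct, Fin.sum_univ_four]
    linear_combination (v 0 * u 3 - v 3 * u 0) * hR' + (M k 1 * M l 2 - M l 1 * M k 2) * hB
      + (-((v 0 * u 3 - v 3 * u 0) * (M l 0 * M k 3 + M l 1 * M k 2))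
        - (M k 1 * M l 2 - M l 1 * M k 2) * (v 2 * u 1 + v 0 * u 3)) * h2
  funext i
  fin_cases i
  · have := key 0 1 (by decide)
    simp [pl, Matrix.mulVec, dotProduct, Fin.sum_univ_four, Cfsg.Lie.star4, Cfsg.Lie.pairOf] at this ⊢
    linear_combination this
  · have := key 0 2 (by decide)
    simp [pl, Matrix.mulVec, dotProduct, Fin.sum_univ_four, Cfsg.Lie.star4, Cfsg.Lie.pairOf] at this ⊢
    linear_combination this
  · have := key 1 3 (by decide)
    simp [pl, Matrix.mulVec, dotProduct, Fin.sum_univ_four, Cfsg.Lie.star4, Cfsg.Lie.pairOf] at this ⊢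
    linear_combination this
  · have := key 2 3 (by decide)
    simp [pl, Matrix.mulVec, dotProduct, Fin.sum_univ_four, Cfsg.Lie.star4, Cfsg.Lie.pairOf] at this ⊢
    linear_combination this

/-- The pencil through a point goes to the squared point. -/
theorem pl_pl (h2 : (2 : F) = 0) {v u u' : Fin 4 → F} (hu : alt4 F v u = 0) (hu' : alt4 F v u' = 0) :
    pl (pl v u) (pl v u') = alt4 F u u' • fun i => v i ^ 2 := by
  simp only [alt4_apply] at hu hu'
  funext i
  fin_cases i <;> simp [pl, alt4_apply]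
  · linear_combination (norm := ring_nf) v 0 * u 0 * hu' + v 0 * u' 0 * hu
    simp [h2]
  · linear_combination (norm := ring_nf) v 1 * u 1 * hu' + v 1 * u' 1 * hu
    simp [h2]
  · linear_combination (norm := ring_nf) v 2 * u 2 * hu' + v 2 * u' 2 * hu
    simp [h2]
  · linear_combination (norm := ring_nf) v 3 * u 3 * hu' + v 3 * u' 3 * hu
    simp [h2]

end Cfsg.Agent.SpFourEven
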