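import Cfsg.Agent.Lib.Classical.SpFourEven.Basic

/-!
# An invariant set of vectors with rational scalar products

If `P` permutes a set of vectors whose pairwise products lie in a subfield, then `P` is realised over it.
-/

set_option autoImplicit false
set_option linter.unusedSectionVars false

namespace Cfsg.Agent.SpFourEven

open Matrix Cfsg.Geo Module

variable {ι : Type} [Fintype ι] [DecidableEq ι] {F : Type*} [Field F]
  {B : LinearMap.BilinForm F (ι → F)} {P : Subgroup (GL ι F)} (h : Ctx B P)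
include h

theorem Ctx.span_eq_top {D : Set (ι → F)} (hne : ∃ d ∈ D, d ≠ 0)
    (hinv : ∀ g ∈ P, ∀ d ∈ D, act g d ∈ D) : Submodule.span F D = ⊤ := by
  obtain ⟨d, hd, hd0⟩ := hne
  refine (h.invariant fun g hg v hv => ?_).resolve_left fun e => hd0 ?_
  · have hle : Submodule.span F D ≤ (Submodule.span F D).comap (Matrix.toLin' (g : Matrix ι ι F)) :=
      Submodule.span_le.2 fun x hx => Submodule.subset_span (hinv g hg x hx)
    exact hle hv
  · exact (Submodule.mem_bot F).1 (e ▸ Submodule.subset_span hd)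

theorem Ctx.eq_zero_of_orth {D : Set (ι → F)} (hs : Submodule.span F D = ⊤) {v : ι → F}
    (hv : ∀ d ∈ D, B v d = 0) : v = 0 := by
  refine h.nondeg v fun w => ?_
  have hle : Submodule.span F D ≤ LinearMap.ker (B v) := Submodule.span_le.2 hv
  exact hle (hs ▸ Submodule.mem_top)

theorem Ctx.realisable_of_rational (F0 : Subfield F) {D : Set (ι → F)} (hne : ∃ d ∈ D, d ≠ 0)
    (hinv : ∀ g ∈ P, ∀ d ∈ D, act g d ∈ D) (hB : ∀ d ∈ D, ∀ e ∈ D, B d e ∈ F0) :
    RealisableOver F0 (matrixSet P) := by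
  classical
  have hs := h.span_eq_top hne hinv
  obtain ⟨b, hb, hbs, hli⟩ := exists_linearIndependent F D
  have htop : ⊤ ≤ Submodule.span F (Set.range ((↑) : b → ι → F)) := by
    rw [Subtype.range_coe, hbs, hs]
  let bas := Basis.mk hli htop
  haveI : Fintype b := FiniteDimensional.fintypeBasisIndex bas
  have hcard : Fintype.card b = Fintype.card ι := by
    rw [← Module.finrank_eq_card_basis bas, Module.finrank_pi]
  let e : ι ≃ b := (Fintype.equivOfCardEq hcard).symm
  let d : ι → ι → F := fun i => ((e i : b) : ι → F)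
  have hd : ∀ i, d i ∈ D := fun i => hb (e i).2
  have hrange : Submodule.span F (Set.range d) = ⊤ := by
    rw [eq_top_iff, show Set.range d = Set.range ((↑) : b → ι → F) from
      e.surjective.range_comp _]
    exact htop
  let M : Matrix ι ι F := Matrix.of fun i j => d j i
  have hM : ∀ c : ι → F, M *ᵥ c = ∑ j, c j • d j := fun c => by
    funext i
    simp [M, Matrix.mulVec, dotProduct, Finset.sum_apply, mul_comm]
  let G0 : Matrix ι ι F0 := Matrix.of fun i j => ⟨B (d i) (d j), hB _ (hd i) _ (hd j)⟩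
  let G : Matrix ι ι F := G0.map F0.subtype
  have hG : ∀ c i, (G *ᵥ c) i = B (d i) (M *ᵥ c) := fun c i => by
    rw [hM, map_sum]
    simp [G, G0, Matrix.mulVec, dotProduct, mul_comm]
  have hdet : G0.det ≠ 0 := fun e0 => by
    obtain ⟨c, hc0, hc⟩ := Matrix.exists_mulVec_eq_zero_iff.2
      (show (F0.subtype.mapMatrix G0).det = 0 by rw [← RingHom.map_det, e0, map_zero])
    have hz : M *ᵥ c = 0 := h.eq_zero_of_orth hrange (by
      rintro _ ⟨i, rfl⟩
      rw [h.swap, ← hG, show G = F0.subtype.mapMatrix G0 from rfl, hc, Pi.zero_apply])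
    rw [hM] at hz
    exact hc0 (funext (Fintype.linearIndependent_iff.1 (hli.comp e e.injective) c hz))
  have hMu : IsUnit M.det := by
    rw [isUnit_iff_ne_zero]
    intro e0
    obtain ⟨c, hc0, hc⟩ := Matrix.exists_mulVec_eq_zero_iff.2 e0
    rw [hM] at hc
    exact hc0 (funext (Fintype.linearIndependent_iff.1 (hli.comp e e.injective) c hc))
  refine ⟨(Matrix.GeneralLinearGroup.mkOfDetNeZero M hMu.ne_zero)⁻¹, ?_⟩
  rintro _ ⟨g, hg, rfl⟩ i j
  rw [Matrix.coe_units_inv, inv_inv,
    show ((Matrix.GeneralLinearGroup.mkOfDetNeZero M hMu.ne_zero : GL ι F) : Matrix ι ι F) = M from rfl]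
  -- the coordinates of the image of a basis vector
  set c : ι → F := fun k => (M⁻¹ * (g : Matrix ι ι F) * M) k j with hc
  have hMc : M *ᵥ c = act g (d j) := by
    rw [hc, show (fun k => (M⁻¹ * (g : Matrix ι ι F) * M) k j) =
      (M⁻¹ * (g : Matrix ι ι F) * M) *ᵥ Pi.single j 1 by
        rw [Matrix.mulVec_single_one]; rfl,
      Matrix.mulVec_mulVec, ← Matrix.mul_assoc, ← Matrix.mul_assoc, Matrix.mul_nonsing_inv _ hMu,
      Matrix.one_mul, ← Matrix.mulVec_mulVec, Matrix.mulVec_single_one]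
    rfl
  let y : ι → F0 := fun k => ⟨B (d k) (act g (d j)), hB _ (hd k) _ (hinv g hg _ (hd j))⟩
  have hy : G *ᵥ c = F0.subtype ∘ y := funext fun k => by rw [hG, hMc]; rfl
  have hsol : G *ᵥ (F0.subtype ∘ (G0⁻¹ *ᵥ y)) = F0.subtype ∘ y := by
    funext k
    rw [Function.comp_apply, ← RingHom.map_mulVec, Matrix.mulVec_mulVec,
      Matrix.mul_nonsing_inv _ (isUnit_iff_ne_zero.2 hdet), Matrix.one_mulVec]
  have huniq : c = F0.subtype ∘ (G0⁻¹ *ᵥ y) :=
    Matrix.mulVec_injective_iff_isUnit.2 ((Matrix.isUnit_iff_isUnit_det G).2 (by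
      rw [isUnit_iff_ne_zero, show G = F0.subtype.mapMatrix G0 from rfl, ← RingHom.map_det]
      exact fun e0 => hdet (F0.subtype.injective (e0.trans (map_zero _).symm)))) (hy.trans hsol.symm)
  have := congrFun huniq i
  simp only [hc] at this
  rw [this]
  exact ((G0⁻¹ *ᵥ y) i).2

end Cfsg.Agent.SpFourEven
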