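import Cfsg.Agent.Lib.Classical.SpFourEven.Pair

/-!
# Two transvections with a common centre

The transvections of a simple irreducible group with a centre carrying more than one of them have a common
field of parameters; if the group is realised over no proper subfield, it contains all transvections.
-/

set_option autoImplicit false
set_option linter.unusedSectionVars false
set_option linter.style.haveILetI false

namespace Cfsg.Agent.SpFourEven

open Matrix Cfsg.Geo Module

variable {ι : Type} [Fintype ι] [DecidableEq ι] {F : Type*} [Field F]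
  {B : LinearMap.BilinForm F (ι → F)} {P : Subgroup (GL ι F)}

/-- The parameters of the transvections of `P` with centre `a`. -/
def pars (B : LinearMap.BilinForm F (ι → F)) (P : Subgroup (GL ι F)) (a : ι → F) : Set F :=
  {κ | ∃ t ∈ P, Tv B t a κ}

variable (h : Ctx B P)
include h

theorem Ctx.pars_zero (a : ι → F) : (0 : F) ∈ pars B P a :=
  ⟨1, P.one_mem, fun x => by rw [act_one, zero_mul, zero_smul, add_zero]⟩

theorem Ctx.pars_add {a : ι → F} {κ μ : F} (hκ : κ ∈ pars B P a) (hμ : μ ∈ pars B P a) :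
    κ + μ ∈ pars B P a := by
  obtain ⟨s, hs, hsa⟩ := hκ
  obtain ⟨t, ht, hta⟩ := hμ
  refine ⟨s * t, P.mul_mem hs ht, fun v => ?_⟩
  rw [act_mul, hta v, act_add, act_smul, hsa v, hsa a, h.alt, mul_zero, zero_smul, add_zero, add_mul,
    add_smul, add_assoc]

theorem Ctx.mem_pars_act {g : GL ι F} (hg : g ∈ P) (a : ι → F) {κ : F} :
    κ ∈ pars B P (act g a) ↔ κ ∈ pars B P a := by
  constructor
  · rintro ⟨t, ht, hta⟩
    have := h.tv_conj (P.inv_mem hg) hta
    rw [act_inv_act, inv_inv] at this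
    exact ⟨_, P.mul_mem (P.mul_mem (P.inv_mem hg) ht) hg, this⟩
  · rintro ⟨t, ht, hta⟩
    exact ⟨_, P.mul_mem (P.mul_mem hg ht) (P.inv_mem hg), h.tv_conj hg hta⟩

theorem Ctx.mem_pars_smul {c : F} (hc : c ≠ 0) {a : ι → F} {κ : F} :
    κ ∈ pars B P (c • a) ↔ κ * c * c ∈ pars B P a :=
  ⟨fun ⟨t, ht, e⟩ => ⟨t, ht, e.smul c⟩, fun ⟨t, ht, e⟩ => ⟨t, ht, Tv.of_smul e⟩⟩

/-- The centre of a transvection is determined up to a scalar. -/
theorem Ctx.tv_centre {s : GL ι F} {a a' : ι → F} {κ lam : F} (ha : Tv B s a κ) (ha' : Tv B s a' lam)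
    (hlam : lam ≠ 0) (hne : a' ≠ 0) : ∃ c : F, a' = c • a ∧ c * c * lam = κ := by
  obtain ⟨x, hx⟩ : ∃ x, B a' x ≠ 0 := by
    by_contra hcon
    push Not at hcon
    exact hne (h.nondeg a' hcon)
  rw [h.swap] at hx
  have e : (κ * B x a) • a = (lam * B x a') • a' := add_left_cancel ((ha x).symm.trans (ha' x))
  obtain ⟨c, hc⟩ : ∃ c, a' = c • a := ⟨(lam * B x a')⁻¹ * (κ * B x a), by
    rw [← smul_smul, e, inv_smul_smul₀ (mul_ne_zero hlam hx)]⟩
  refine ⟨c, hc, ?_⟩
  have hB : B x a' = c * B x a := by rw [hc, map_smul, smul_eq_mul]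
  rw [hB, hc, smul_smul] at e
  have ha0 : a ≠ 0 := fun e0 => hne (by rw [hc, e0, smul_zero])
  have hxa : B x a ≠ 0 := fun e0 => hx (by rw [hB, e0, mul_zero])
  exact mul_right_cancel₀ hxa (by linear_combination -(smul_left_injective F ha0 e))

/-- Two non-orthogonal transvections give a swap of their centres. -/
theorem Ctx.exists_swap [Finite F] {a b : ι → F} (hab : B a b = 1) {κ lam : F} (hκ : κ ∈ pars B P a)
    (hlam : lam ∈ pars B P b) (hκ0 : κ ≠ 0) (hlam0 : lam ≠ 0) :
    ∃ w ∈ P, ∃ e : F, e ≠ 0 ∧ act w a = e • b ∧ act w b = e⁻¹ • a ∧ e * e * κ = lam ∧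
      ∀ x, B x a = 0 → B x b = 0 → act w x = x := by
  classical
  obtain ⟨s, hs, hsa⟩ := hκ
  obtain ⟨t, ht, htb⟩ := hlam
  have ha : a ≠ 0 := fun e => by simp [e] at hab
  have hb : b ≠ 0 := fun e => by simp [e] at hab
  have hba : B b a = 1 := by rw [h.swap, hab]
  set X := s * t with hX
  have hXP : X ∈ P := P.mul_mem hs ht
  have hXa : act X a = (1 + κ * lam) • a + lam • b := by
    rw [hX, act_mul, htb a, act_add, act_smul, hsa a, hsa b, h.alt, hab, hba]
    module
  have hXb : act X b = κ • a + b := by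
    rw [hX, act_mul, htb b, h.alt, mul_zero, zero_smul, add_zero, hsa b, hba, mul_one, add_comm]
  have hXo : ∀ x, B x a = 0 → B x b = 0 → act X x = x := fun x h1 h2 => by
    rw [hX, act_mul, htb x, h2, mul_zero, zero_smul, add_zero, hsa x, h1, mul_zero, zero_smul, add_zero]
  have hXi : ∀ i : ℕ, ∀ x, B x a = 0 → B x b = 0 → act (X ^ i) x = x := by
    intro i x h1 h2
    induction i with
    | zero => simp
    | succ i ih => rw [pow_succ, act_mul, hXo x h1 h2, ih]
  have hfr : ∀ y, ∃ x, B x a = 0 ∧ B x b = 0 ∧ y = x + B y b • a + B y a • b := fun y => by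
    refine ⟨y + B y b • a + B y a • b, ?_, ?_, ?_⟩
    · simp [h.alt, hba, h.add_self_scalar]
    · simp [h.alt, hab, h.add_self_scalar]
    · have e1 := h.add_self (B y b • a)
      have e2 := h.add_self (B y a • b)
      linear_combination (norm := module) -e1 - e2
  have hpow : ∀ j : ℕ, ∃ p q : F, ∀ u, u = a ∨ u = b → act (X ^ j) u = p • act X u + q • u := by
    intro j
    induction j with
    | zero => exact ⟨0, 1, fun u _ => by simp⟩
    | succ j ih =>
      obtain ⟨p, q, hpq⟩ := ih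
      refine ⟨p * (κ * lam) + q, p, fun u hu => ?_⟩
      rw [pow_succ', act_mul, hpq u hu, act_add, act_smul, act_smul]
      have e : act X (act X u) = (κ * lam) • act X u + u := by
        rcases hu with rfl | rfl
        · rw [hXa, act_add, act_smul, act_smul, hXa, hXb]
          match_scalars <;> linear_combination (norm := ring_nf) (0 : F) <;> simp [h.two]
        · rw [hXb, act_add, act_smul, hXa, hXb]
          match_scalars <;> linear_combination (norm := ring_nf) (0 : F) <;> simp [h.two]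
      rw [e]
      module
  -- the order of the product is odd
  haveI : Finite (GL ι F) := inferInstance
  obtain ⟨k, hk⟩ : ∃ k, orderOf X = 2 * k + 1 := by
    rcases Nat.even_or_odd' (orderOf X) with ⟨k, hk | hk⟩
    swap
    · exact ⟨k, hk⟩
    exfalso
    have hk0 : 0 < k := by have := orderOf_pos X; omega
    obtain ⟨p, q, hpq⟩ := hpow k
    have hcomm : ∀ u, act (X ^ k) (act X u) = act X (act (X ^ k) u) := fun u => by
      rw [← act_mul, ← act_mul, ← pow_succ, pow_succ']
    have h1 : act (X ^ (2 * k)) b = (p * p * (κ * lam)) • act X b + (p * p + q * q) • b := by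
      rw [two_mul, pow_add, act_mul, hpq b (Or.inr rfl), act_add, act_smul, act_smul, hcomm,
        hpq b (Or.inr rfl), act_add, act_smul, act_smul, hXb, act_add, act_smul, hXa, hXb]
      match_scalars <;> linear_combination (norm := ring_nf) (0 : F) <;> simp [h.two]
    rw [← hk, pow_orderOf_eq_one, act_one, hXb] at h1
    have e1 := congrArg (fun z => B z b) h1
    have e2 := congrArg (fun z => B z a) h1
    simp [h.alt, hab, hba] at e1 e2
    have hp : p = 0 := by simpa [hκ0, hlam0] using e1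
    have hq : q = 1 := h.sq_inj (by rw [hp] at e2; linear_combination -e2)
    have hone : X ^ k = 1 := ext_act fun y => by
      obtain ⟨x, h1, h2, hy⟩ := hfr y
      conv_lhs => rw [hy]
      rw [act_add, act_add, act_smul, act_smul, hXi k x h1 h2, hpq a (Or.inl rfl), hpq b (Or.inr rfl), hp, hq,
        zero_smul, zero_smul, one_smul, one_smul, zero_add, zero_add, act_one, ← hy]
    have := Nat.le_of_dvd hk0 (orderOf_dvd_of_pow_eq_one hone)
    omega
  have hs2 : s⁻¹ = s := inv_eq_of_mul_eq_one_right (h.tv_sq hsa)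
  have ht2 : t⁻¹ = t := inv_eq_of_mul_eq_one_right (h.tv_sq htb)
  have htt : t * t = 1 := h.tv_sq htb
  have hrev : ∀ i : ℕ, t * X ^ i * t = X⁻¹ ^ i := fun i => by
    calc t * X ^ i * t = (t * X * t⁻¹) ^ i := by rw [conj_pow, ht2]
      _ = X⁻¹ ^ i := by
        congr 1
        rw [hX, _root_.mul_inv_rev, ht2, hs2, ← mul_assoc, mul_assoc, htt, mul_one]
  set g := X ^ (k + 1) with hg
  have hgP : g ∈ P := P.pow_mem hXP _
  have hrev' : t * g⁻¹ = g * t := by
    rw [hg, ← inv_pow, ← hrev, ← mul_assoc, ← mul_assoc, htt, one_mul]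
  have hconj : g * t * g⁻¹ = s := by
    rw [mul_assoc, hrev', ← mul_assoc, hg, ← pow_add, show k + 1 + (k + 1) = 2 * k + 1 + 1 by omega,
      pow_succ, ← hk, pow_orderOf_eq_one, one_mul, hX, mul_assoc, htt, mul_one]
  obtain ⟨c, hc, hcc⟩ := h.tv_centre hsa (hconj ▸ h.tv_conj hgP htb) hlam0
    (fun e => hb (by rw [← act_inv_act g b, e, act_zero]))
  have hc0 : c ≠ 0 := fun e => hκ0 (by rw [← hcc, e, mul_zero, zero_mul])
  set w := g * t with hw
  have hwb : act w b = c • a := by
    rw [hw, act_mul, htb b, h.alt, mul_zero, zero_smul, add_zero, hc]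
  have hw2 : w * w = 1 := by
    nth_rewrite 1 [← hrev']
    rw [mul_assoc, inv_mul_cancel_left, htt]
  refine ⟨w, P.mul_mem hgP ht, c⁻¹, inv_ne_zero hc0, ?_, by rw [inv_inv, hwb], ?_, fun x h1 h2 => ?_⟩
  · have e := congrArg (fun z => act w z) hwb
    rw [act_smul, ← act_mul, hw2, act_one] at e
    rw [eq_inv_smul_iff₀ hc0]
    exact e.symm
  · rw [← hcc]
    field_simp
  · rw [hw, act_mul, htb x, h2, mul_zero, zero_smul, add_zero, hXi _ x h1 h2]

theorem Ctx.pars_of_swap {a b : ι → F} {w : GL ι F} (hw : w ∈ P) {e : F} (he : e ≠ 0)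
    (hwa : act w a = e • b) {κ : F} : κ ∈ pars B P a ↔ κ * e * e ∈ pars B P b := by
  rw [← h.mem_pars_act hw a, hwa, h.mem_pars_smul he]

/-- The parameters at a centre are closed under multiplication, once one of them is `1`. -/
theorem Ctx.pars_mul [Finite F] {a b : ι → F} (hab : B a b = 1) (hone : (1 : F) ∈ pars B P a) {lam : F}
    (hlam : lam ∈ pars B P b) (hlam0 : lam ≠ 0) {κ μ : F} (hκ : κ ∈ pars B P a) (hμ : μ ∈ pars B P a) :
    κ * μ ∈ pars B P a := by
  rcases eq_or_ne κ 0 with rfl | hκ0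
  · rw [zero_mul]; exact h.pars_zero a
  obtain ⟨w, hw, e, he, hwa, -, hee, -⟩ := h.exists_swap hab hone hlam one_ne_zero hlam0
  obtain ⟨w', hw', e', he', hwa', -, hee', -⟩ := h.exists_swap hab hκ hlam hκ0 hlam0
  rw [mul_one] at hee
  rw [h.pars_of_swap hw' he' hwa', ]
  have h1 := (h.pars_of_swap hw he hwa).1 hμ
  convert h1 using 1
  linear_combination μ * hee' - μ * hee

/-- A centre normalised to have parameter `1`. -/
def Nor (B : LinearMap.BilinForm F (ι → F)) (P : Subgroup (GL ι F)) (a : ι → F) : Prop :=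
  a ≠ 0 ∧ (1 : F) ∈ pars B P a

theorem Ctx.nor_scale [Finite F] {a : ι → F} (ha : a ≠ 0) {κ : F} (hκ : κ ∈ pars B P a) (hκ0 : κ ≠ 0) :
    ∃ s : F, s * s = κ ∧ s ≠ 0 ∧ Nor B P (s • a) := by
  obtain ⟨s, hs⟩ := (Finite.injective_iff_surjective.1 fun x y e => h.sq_inj (x := x) (y := y) e) κ
  have hs0 : s ≠ 0 := fun e => hκ0 (by rw [← hs, e]; simp)
  exact ⟨s, hs, hs0, smul_ne_zero hs0 ha, (h.mem_pars_smul hs0).2 (by rw [one_mul, show s * s = κ from hs]; exact hκ)⟩

theorem Ctx.nor_act {g : GL ι F} (hg : g ∈ P) {a : ι → F} (ha : Nor B P a) : Nor B P (act g a) :=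
  ⟨fun e => ha.1 (by rw [← act_inv_act g a, e, act_zero]), (h.mem_pars_act hg a).2 ha.2⟩

theorem Ctx.exists_nor_nonorth {a : ι → F} (ha : Nor B P a) {v : ι → F} (hv : v ≠ 0) :
    ∃ b, Nor B P b ∧ B v b ≠ 0 := by
  by_contra hcon
  push Not at hcon
  exact hv (h.eq_zero_of_orth (D := {b | Nor B P b})
    (h.span_eq_top ⟨a, ha, ha.1⟩ fun g hg d hd => h.nor_act hg hd) hcon)

/-- Non-orthogonal normalised centres have equal parameters, containing the square of their product. -/
theorem Ctx.pars_eq [Finite F] {a b : ι → F} (ha : Nor B P a) (hb : Nor B P b) {μ : F} (hμ : B a b = μ)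
    (hμ0 : μ ≠ 0) : pars B P a = pars B P b := by
  have hab : B a (μ⁻¹ • b) = 1 := by rw [map_smul, hμ, smul_eq_mul, inv_mul_cancel₀ hμ0]
  have hlam : μ * μ ∈ pars B P (μ⁻¹ • b) := by
    rw [h.mem_pars_smul (inv_ne_zero hμ0)]
    convert hb.2 using 1
    field_simp
  obtain ⟨w, hw, e, he, hwa, -, hee, -⟩ := h.exists_swap hab ha.2 hlam one_ne_zero (mul_ne_zero hμ0 hμ0)
  ext κ
  rw [h.pars_of_swap hw he hwa, h.mem_pars_smul (inv_ne_zero hμ0)]
  rw [show κ * e * e * μ⁻¹ * μ⁻¹ = κ by field_simp; linear_combination κ * hee]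

/-- If two transvections share a centre, `P` has all transvections. -/
theorem Ctx.mem_of_tv [Fintype F] (hns : ∀ F0 : Subfield F, F0 ≠ ⊤ → ¬ RealisableOver F0 (matrixSet P))
    (htwo : ¬ OnePerCentre B P) : ∀ g : GL ι F, ∀ (v : ι → F) (κ : F), Tv B g v κ → g ∈ P := by
  classical
  simp only [OnePerCentre] at htwo
  push Not at htwo
  obtain ⟨s, hs, t, ht, a₀, κ₁, κ₂, ha₀, hκ₁, hκ₂, hsa, hta, hne⟩ := htwo
  obtain ⟨σ, hσ, hσ0, ha⟩ := h.nor_scale ha₀ ⟨s, hs, hsa⟩ hκ₁
  set a := σ • a₀ with hadef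
  obtain ⟨f₀, hf₀, hf₀0, hf₀1⟩ : ∃ f ∈ pars B P a, f ≠ 0 ∧ f ≠ 1 := by
    refine ⟨κ₂ / κ₁, ?_, div_ne_zero hκ₂ hκ₁, fun e => hne (div_eq_one_iff_eq hκ₁ |>.1 e).symm⟩
    rw [hadef, h.mem_pars_smul hσ0, mul_assoc, hσ, div_mul_cancel₀ _ hκ₁]
    exact ⟨t, ht, hta⟩
  -- every pair of normalised centres has the same parameters
  have hall : ∀ u, Nor B P u → pars B P u = pars B P a := by
    intro u hu
    by_contra hne
    let D : Set (ι → F) := {v | Nor B P v ∧ pars B P v = pars B P a}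
    have hD : ∀ g ∈ P, ∀ d ∈ D, act g d ∈ D := fun g hg d hd =>
      ⟨h.nor_act hg hd.1, (Set.ext fun κ => h.mem_pars_act hg d).trans hd.2⟩
    refine hu.1 (h.eq_zero_of_orth (h.span_eq_top ⟨a, (show a ∈ D from ⟨ha, rfl⟩), ha.1⟩ hD) fun d hd => ?_)
    by_contra hud
    exact hne ((h.pars_eq hu hd.1 rfl hud).trans hd.2)
  obtain ⟨b₀, hb₀, hab₀⟩ := h.exists_nor_nonorth ha ha.1
  have hmul : ∀ {x y : F}, x ∈ pars B P a → y ∈ pars B P a → x * y ∈ pars B P a := by
    intro x y hx hy
    have e : B a ((B a b₀)⁻¹ • b₀) = 1 := by rw [map_smul, smul_eq_mul, inv_mul_cancel₀ hab₀]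
    exact h.pars_mul e ha.2 ((h.mem_pars_smul (inv_ne_zero hab₀)).2
      (show B a b₀ * B a b₀ * (B a b₀)⁻¹ * (B a b₀)⁻¹ ∈ pars B P b₀ by
        convert hb₀.2 using 1; field_simp)) (mul_ne_zero hab₀ hab₀) hx hy
  let F₀ : Subfield F :=
    { carrier := pars B P a
      zero_mem' := h.pars_zero a
      one_mem' := ha.2
      add_mem' := h.pars_add
      mul_mem' := hmul
      neg_mem' := fun {x} hx => by
        rw [show -x = x by linear_combination (-x) * h.two]; exact hx
      inv_mem' := fun x hx => by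
        rcases eq_or_ne x 0 with rfl | hx0
        · rw [_root_.inv_zero]; exact h.pars_zero a
        have hq := Fintype.one_lt_card (α := F)
        have hp : ∀ i : ℕ, x ^ i ∈ pars B P a := by
          intro i
          induction i with
          | zero => rw [pow_zero]; exact ha.2
          | succ i ih => rw [pow_succ]; exact hmul ih hx
        have e : x⁻¹ = x ^ (Fintype.card F - 2) := (eq_inv_of_mul_eq_one_left (by
          rw [← pow_succ, show Fintype.card F - 2 + 1 = Fintype.card F - 1 by omega,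
            FiniteField.pow_card_sub_one_eq_one _ hx0])).symm
        rw [e]; exact hp _ }
  have hF₀ : ∀ {x}, x ∈ F₀ ↔ x ∈ pars B P a := Iff.rfl
  have hsqrt : ∀ {x : F}, x * x ∈ F₀ → x ∈ F₀ := by
    intro x hx
    obtain ⟨y, hy⟩ := (Finite.injective_iff_surjective.1
      (fun (y z : F₀) e => Subtype.ext (h.sq_inj (congrArg Subtype.val e)) :
        Function.Injective fun y : F₀ => y * y)) ⟨x * x, hx⟩
    rw [show x = (y : F) from h.sq_inj (congrArg Subtype.val hy).symm]
    exact y.2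
  -- the products of normalised centres are in the field
  have hrat : ∀ u v, Nor B P u → Nor B P v → B u v ∈ F₀ := by
    intro u v hu hv
    obtain ⟨μ, hμ⟩ : ∃ μ, B u v = μ := ⟨_, rfl⟩
    rw [hμ]
    rcases eq_or_ne μ 0 with rfl | hμ0
    · exact zero_mem _
    apply hsqrt
    set ν := μ * μ with hν
    have hν0 : ν ≠ 0 := mul_ne_zero hμ0 hμ0
    set b := μ⁻¹ • v with hbdef
    have hub : B u b = 1 := by rw [hbdef, map_smul, hμ, smul_eq_mul, inv_mul_cancel₀ hμ0]
    have hparb : ∀ {x : F}, x ∈ F₀ → x * ν ∈ pars B P b := fun {x} hx => by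
      rw [hbdef, h.mem_pars_smul (inv_ne_zero hμ0), show x * ν * μ⁻¹ * μ⁻¹ = x by rw [hν]; field_simp,
        hall v hv]
      exact hx
    have hone : (1 : F) ∈ F₀ := one_mem _
    have hν1 : ν ∈ pars B P b := by simpa using hparb hone
    obtain ⟨s₁, hs₁, hs₁u⟩ := hu.2
    set c := b + u with hcdef
    clear_value b c
    have hc : act s₁ b = c := by rw [hs₁u b, h.swap b u, hub, one_mul, one_smul, hcdef]
    have hparc : ∀ {x : F}, x ∈ F₀ → x * ν ∈ pars B P c := fun {x} hx => by
      rw [← hc, h.mem_pars_act hs₁]; exact hparb hx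
    have huc : B u c = 1 := by rw [hcdef, map_add, hub, h.alt, add_zero]
    have hbc : B b c = 1 := by rw [hcdef, map_add, h.alt, zero_add, h.swap, hub]
    have hff : f₀ * f₀ ∈ F₀ := mul_mem hf₀ hf₀
    obtain ⟨w₁, hw₁, e, he, hw₁u, hw₁b, hee, hw₁o⟩ := h.exists_swap hub hu.2 hν1 one_ne_zero hν0
    obtain ⟨w₂, hw₂, e₂, he₂, hw₂b, hw₂c, hee₂, hw₂o⟩ := h.exists_swap hbc hν1 (hparc hff) hν0
      (mul_ne_zero (mul_ne_zero hf₀0 hf₀0) hν0)
    obtain ⟨w₃, hw₃, e₃, he₃, hw₃u, hw₃c, hee₃, hw₃o⟩ := h.exists_swap huc hu.2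
      (show ν ∈ pars B P c by simpa using hparc hone) one_ne_zero hν0
    obtain ⟨w₄, hw₄, e₄, he₄, hw₄u, hw₄b, hee₄, hw₄o⟩ := h.exists_swap hub hu.2 (hparb hff) one_ne_zero
      (mul_ne_zero (mul_ne_zero hf₀0 hf₀0) hν0)
    obtain rfl : e₂ = f₀ := h.sq_inj (mul_right_cancel₀ hν0 hee₂)
    obtain rfl : e₃ = e := h.sq_inj (by linear_combination hee₃ - hee)
    obtain rfl : e₄ = e₂ * e₃ := h.sq_inj (by linear_combination hee₄ - (e₂ * e₂) * hee)
    have hu' : act (w₁ * w₄) u = e₂ • u := by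
      rw [act_mul, hw₄u, act_smul, hw₁b, smul_smul]; congr 1; field_simp
    have hb' : act (w₁ * w₄) b = e₂⁻¹ • b := by
      rw [act_mul, hw₄b, act_smul, hw₁u, smul_smul]; congr 1; field_simp
    have hgu : act (w₃ * w₂ * w₁) u = e₂ • u := by
      rw [act_mul, act_mul, hw₁u, act_smul, hw₂b, act_smul, act_smul, hw₃c, smul_smul, smul_smul]
      congr 1; field_simp
    have hub' : u = b + c := by rw [hcdef, ← add_assoc, h.add_self, zero_add]
    have hbu' : b = u + c := by rw [hcdef, add_comm b u, ← add_assoc, h.add_self, zero_add]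
    set η := e₂⁻¹ + (e₂⁻¹ + e₂) * (e₃⁻¹ * e₃⁻¹) with hη
    have hgb : act (w₃ * w₂ * w₁) b = e₂⁻¹ • b + η • u := by
      rw [act_mul, act_mul, hw₁b, act_smul]
      have e1 : act w₂ u = e₂ • c + e₂⁻¹ • b := by
        conv_lhs => rw [hub']
        rw [act_add, hw₂b, hw₂c]
      have e2 : act w₃ b = e₃ • c + e₃⁻¹ • u := by
        conv_lhs => rw [hbu']
        rw [act_add, hw₃u, hw₃c]
      rw [e1, act_smul, act_add, act_smul, act_smul, hw₃c, e2, hcdef, hη]
      match_scalars <;> field_simp <;> ring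
    -- the unipotent part
    set d := (w₁ * w₄)⁻¹ * (w₃ * w₂ * w₁) with hd
    have hdP : d ∈ P := P.mul_mem (P.inv_mem (P.mul_mem hw₁ hw₄))
      (P.mul_mem (P.mul_mem hw₃ hw₂) hw₁)
    have hinv1 : act (w₁ * w₄)⁻¹ u = e₂⁻¹ • u := by
      conv_lhs => rw [show u = e₂⁻¹ • act (w₁ * w₄) u by rw [hu', inv_smul_smul₀ he₂]]
      rw [act_smul, act_inv_act]
    have hinv2 : act (w₁ * w₄)⁻¹ b = e₂ • b := by
      conv_lhs => rw [show b = e₂ • act (w₁ * w₄) b by rw [hb', smul_inv_smul₀ he₂]]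
      rw [act_smul, act_inv_act]
    have hdu : act d u = u := by
      rw [hd, act_mul, hgu, act_smul, hinv1, smul_inv_smul₀ he₂]
    have hdb : act d b = b + (η * e₂⁻¹) • u := by
      rw [hd, act_mul, hgb, act_add, act_smul, act_smul, hinv1, hinv2, inv_smul_smul₀ he₂, smul_smul]
    have hbu1 : B b u = 1 := by rw [h.swap, hub]
    have hdt : Tv B d u (η * e₂⁻¹) := by
      intro y
      set x := y + B y b • u + B y u • b with hx
      have h1 : B x u = 0 := by simp [hx, h.alt, hbu1, h.add_self_scalar]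
      have h2 : B x b = 0 := by simp [hx, h.alt, hub, h.add_self_scalar]
      have h3 : B x c = 0 := by rw [hcdef, map_add, h1, h2, add_zero]
      have hg0 : act (w₃ * w₂ * w₁) x = x := by
        rw [act_mul, act_mul, hw₁o x h1 h2, hw₂o x h2 h3, hw₃o x h1 h3]
      have hd0 : act (w₁ * w₄) x = x := by rw [act_mul, hw₄o x h1 h2, hw₁o x h1 h2]
      have hdx : act d x = x := by
        rw [hd, act_mul, hg0]
        conv_lhs => rw [← hd0]
        rw [act_inv_act]
      have hy : y = x + B y b • u + B y u • b := by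
        have e1 := h.add_self (B y b • u)
        have e2 := h.add_self (B y u • b)
        rw [hx]
        linear_combination (norm := module) -e1 - e2
      conv_lhs => rw [hy]
      rw [act_add, act_add, act_smul, act_smul, hdx, hdu, hdb]
      conv_rhs => arg 1; rw [hy]
      module
    have hy : η * e₂⁻¹ ∈ F₀ := hF₀.2 (hall u hu ▸ ⟨d, hdP, hdt⟩)
    have hη' : η ∈ F₀ := by
      have := mul_mem hy (show e₂ ∈ F₀ from hf₀)
      rwa [mul_assoc, inv_mul_cancel₀ he₂, mul_one] at this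
    have hz : e₂⁻¹ + e₂ ≠ 0 := by
      intro hz
      refine hf₀1 (h.sq_inj ?_)
      field_simp at hz
      linear_combination hz - h.two
    have hν' : (e₃⁻¹ * e₃⁻¹) ∈ F₀ := by
      have h1 : (e₂⁻¹ + e₂) * (e₃⁻¹ * e₃⁻¹) ∈ F₀ := by
        have := F₀.sub_mem hη' (F₀.inv_mem hf₀)
        rwa [hη, add_sub_cancel_left] at this
      have h2 := mul_mem (F₀.inv_mem (add_mem (F₀.inv_mem hf₀) hf₀)) h1
      rwa [inv_mul_cancel_left₀ hz] at h2
    have := F₀.inv_mem hν'
    rw [_root_.mul_inv_rev, inv_inv] at this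
    rw [mul_one] at hee
    rwa [hee] at this
  -- so the field is everything
  have htop : F₀ = ⊤ := by
    by_contra hne
    exact hns F₀ hne (h.realisable_of_rational F₀ (D := {v | Nor B P v}) ⟨a, ha, ha.1⟩
      (fun g hg d hd => h.nor_act hg hd) fun u hu v hv => hrat u v hu hv)
  have hfull : ∀ u, Nor B P u → ∀ x : F, x ∈ pars B P u := fun u hu x => by
    rw [hall u hu]; exact hF₀.1 (htop ▸ Subfield.mem_top x)
  let C : Set (ι → F) := {v | v ≠ 0 ∧ ∀ x : F, x ∈ pars B P v}
  have hCnor : ∀ u, Nor B P u → u ∈ C := fun u hu => ⟨hu.1, hfull u hu⟩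
  have hCsmul : ∀ {u}, u ∈ C → ∀ {c : F}, c ≠ 0 → c • u ∈ C := fun {u} hu {c} hc =>
    ⟨smul_ne_zero hc hu.1, fun x => (h.mem_pars_smul hc).2 (hu.2 _)⟩
  have hCline : ∀ {u v}, u ∈ C → v ∈ C → B u v ≠ 0 → ∀ x : F, u + x • v ∈ C := by
    intro u v hu hv huv x
    obtain ⟨r, hr, hrv⟩ := hv.2 (x / B u v)
    have e : act r u = u + x • v := by rw [hrv u, div_mul_cancel₀ _ huv]
    exact ⟨fun e0 => hu.1 (by rw [← act_inv_act r u, e, e0, act_zero]),
      fun y => e ▸ (h.mem_pars_act hr u).2 (hu.2 y)⟩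
  have hCinv : ∀ g ∈ P, ∀ d ∈ C, act g d ∈ C := fun g hg d hd =>
    ⟨fun e => hd.1 (by rw [← act_inv_act g d, e, act_zero]), fun x => (h.mem_pars_act hg d).2 (hd.2 x)⟩
  have haC : a ∈ C := hCnor a ha
  set b := (B a b₀)⁻¹ • b₀ with hbdef
  have hbC : b ∈ C := hCsmul (hCnor _ hb₀) (inv_ne_zero hab₀)
  have hab : B a b = 1 := by rw [hbdef, map_smul, smul_eq_mul, inv_mul_cancel₀ hab₀]
  have hba : B b a = 1 := by rw [h.swap, hab]
  -- the plane
  have hplane : ∀ x y : F, x ≠ 0 ∨ y ≠ 0 → x • a + y • b ∈ C := by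
    intro x y hxy
    rcases eq_or_ne x 0 with rfl | hx
    · rw [zero_smul, zero_add]
      exact hCsmul hbC (hxy.resolve_left (fun e => e rfl))
    · exact hCline (hCsmul haC hx) hbC (by simp [hab, hx]) y
  let W0 : Set (ι → F) := {m | B m a = 0 ∧ B m b = 0}
  have hdec : ∀ z, ∃ m ∈ W0, ∃ x y : F, z = x • a + y • b + m := fun z =>
    ⟨z + B z b • a + B z a • b, ⟨by simp [h.alt, hba, h.add_self_scalar],
      by simp [h.alt, hab, h.add_self_scalar]⟩, B z b, B z a, by
      have e1 := h.add_self (B z b • a)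
      have e2 := h.add_self (B z a • b)
      linear_combination (norm := module) -e1 - e2⟩
  let M0 : Set (ι → F) := {m | m ∈ W0 ∧ ∀ x y : F, x ≠ 0 ∨ y ≠ 0 → x • a + y • b + m ∈ C}
  have hM0 : ∀ {m}, m ∈ W0 → ∀ {x y : F}, (x ≠ 0 ∨ y ≠ 0) → x • a + y • b + m ∈ C → m ∈ M0 := by
    intro m hm x y hxy hC
    have step1 : ∀ x y x' : F, y ≠ 0 → x • a + y • b + m ∈ C → x' • a + y • b + m ∈ C := by
      intro x y x' hy hC
      have := hCline hC haC (by simp [hba, hm.1, h.alt, hy]) (x + x')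
      convert this using 1
      have e := h.add_self (x • a)
      linear_combination (norm := module) -e
    have step2 : ∀ x y y' : F, x ≠ 0 → x • a + y • b + m ∈ C → x • a + y' • b + m ∈ C := by
      intro x y y' hx hC
      have := hCline hC hbC (by simp [hab, hm.2, h.alt, hx]) (y + y')
      convert this using 1
      have e := h.add_self (y • b)
      linear_combination (norm := module) -e
    refine ⟨hm, fun x' y' hxy' => ?_⟩
    have h11 : (1 : F) • a + (1 : F) • b + m ∈ C := by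
      rcases hxy with hx | hy
      · exact step1 x 1 1 one_ne_zero (step2 x y 1 hx hC)
      · exact step2 1 y 1 one_ne_zero (step1 x y 1 hy hC)
    rcases hxy' with hx | hy
    · exact step2 x' 1 y' hx (step1 1 1 x' one_ne_zero h11)
    · exact step1 1 y' x' hy (step2 1 1 y' one_ne_zero h11)
  obtain ⟨m₀, hm₀, hm₀0, hm₀M⟩ : ∃ m ∈ W0, m ≠ 0 ∧ m ∈ M0 := by
    by_contra hcon
    push Not at hcon
    let W := Submodule.span F ({a, b} : Set (ι → F))
    have hWmem : ∀ g : GL ι F, ∀ u κ, Tv B g u κ → u ∈ C → ∀ z ∈ W, act g z ∈ W := by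
      intro g u κ hgu hu z hz
      obtain ⟨m, hm, x, y, rfl⟩ := hdec u
      by_cases hxy : x ≠ 0 ∨ y ≠ 0
      · have hm0 : m = 0 := by_contra fun hne => hcon m hm hne (hM0 hm hxy hu)
        subst hm0
        rw [hgu z]
        exact W.add_mem hz (W.smul_mem _ (W.add_mem (W.add_mem
          (W.smul_mem _ (Submodule.subset_span (by simp))) (W.smul_mem _ (Submodule.subset_span (by simp))))
          W.zero_mem))
      · push Not at hxy
        obtain ⟨rfl, rfl⟩ := hxy
        obtain ⟨p, q, rfl⟩ := Submodule.mem_span_pair.1 hz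
        have e : B (p • a + q • b) ((0 : F) • a + (0 : F) • b + m) = 0 := by
          simp [h.swap a m, h.swap b m, hm.1, hm.2]
        rw [hgu, e, mul_zero, zero_smul, add_zero]
        exact hz
    obtain ⟨r, hr, hra⟩ := ha.2
    let S : Subgroup (GL ι F) :=
      { carrier := {g | ∀ z ∈ W, act g z ∈ W}
        one_mem' := fun z hz => by rwa [act_one]
        mul_mem' := fun hg hg' z hz => by rw [act_mul]; exact hg _ (hg' z hz)
        inv_mem' := fun {g} hg z hz => by
          obtain ⟨⟨y, hy⟩, hy'⟩ := (Finite.injective_iff_surjective.1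
            (show Function.Injective fun y : W => (⟨act g y, hg y y.2⟩ : W) from fun y y' e =>
              Subtype.ext (by
                have e' : act g y = act g y' := congrArg Subtype.val e
                rw [← act_inv_act g (y : ι → F), ← act_inv_act g (y' : ι → F), e'])))
            ⟨z, hz⟩
          have e' : act g y = z := congrArg Subtype.val hy'
          rw [← e', act_inv_act]
          exact hy }
    have hr1 : r ≠ 1 := fun e => by
      have := hra b
      rw [e, act_one, hba, one_mul, one_smul, eq_comm, add_eq_left] at this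
      exact ha.1 this
    have hPS : P ≤ S := h.le_of_class hr hr1 fun g hg =>
      hWmem _ _ _ (h.tv_conj hg hra) (hCinv g hg a haC)
    rcases h.invariant (fun g hg z hz => hPS hg z hz) with e | e
    · exact ha.1 ((Submodule.mem_bot F).1 (e ▸ Submodule.subset_span (by simp)))
    · have h1 : Module.finrank F W ≤ 2 := by
        have := finrank_span_finset_le_card (R := F) ({a, b} : Finset (ι → F))
        rw [Finset.coe_pair] at this
        exact this.trans Finset.card_le_two
      rw [e, finrank_top, h.finrank_eq] at h1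
      omega
  -- closing up
  have hM0comb : ∀ {m m'}, m ∈ M0 → m' ∈ M0 → B m m' ≠ 0 → ∀ k : F, m + k • m' ∈ M0 := by
    intro m m' hm hm' hmm k
    obtain ⟨z, hz, hz1⟩ : ∃ z : F, z ≠ 0 ∧ 1 + k * z ≠ 0 := by
      rcases eq_or_ne k 1 with rfl | hk
      · exact ⟨f₀, hf₀0, fun e => hf₀1 (by linear_combination e - h.two)⟩
      · exact ⟨1, one_ne_zero, fun e => hk (by linear_combination e - h.two)⟩
    have h1 := hm.2 1 0 (Or.inl one_ne_zero)
    have h2 := hm'.2 z 0 (Or.inl hz)
    have := hCline h1 h2 (by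
      simp [h.alt, h.swap a m', hm'.1.1, hm.1.1]
      exact hmm) k
    refine hM0 ⟨by simp [hm.1.1, hm'.1.1], by simp [hm.1.2, hm'.1.2]⟩ (x := 1 + k * z) (y := 0)
      (Or.inl hz1) ?_
    convert this using 1
    module
  obtain ⟨m₁, hm₁, hm01⟩ : ∃ m ∈ M0, B m₀ m ≠ 0 := by
    by_contra hcon
    push Not at hcon
    refine hm₀0 (h.eq_zero_of_orth (h.span_eq_top ⟨a, haC, ha.1⟩ hCinv) fun z hz => ?_)
    obtain ⟨m, hm, x, y, rfl⟩ := hdec z
    simp only [map_add, map_smul, hm₀.1, hm₀.2, smul_zero, zero_add]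
    by_cases hxy : x ≠ 0 ∨ y ≠ 0
    · exact hcon m (hM0 hm hxy hz)
    · push Not at hxy
      obtain ⟨rfl, rfl⟩ := hxy
      by_contra hmm
      simp only [zero_smul, zero_add] at hz
      have := hCline (hm₀M.2 1 0 (Or.inl one_ne_zero)) hz (by
        simp [h.swap a m, hm.1]; exact hmm) 1
      refine hmm ?_
      have h0 := hcon _ (hM0 (m := m₀ + m) ⟨by simp [hm₀.1, hm.1], by simp [hm₀.2, hm.2]⟩ (x := 1) (y := 0)
        (Or.inl one_ne_zero) (by convert this using 1; module))
      rwa [map_add, h.alt, zero_add] at h0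
  have hM0all : ∀ m ∈ W0, m ≠ 0 → m ∈ M0 := by
    intro m hm hm0'
    have e1 : B m₁ m₀ ≠ 0 := by rwa [h.swap]
    set p := B m m₁ / B m₀ m₁ with hp
    set q := B m m₀ / B m₀ m₁ with hq
    have hmeq : m = p • m₀ + q • m₁ := by
      have hfr := h.frame hab
        (show B ((B m₀ m₁)⁻¹ • m₀) m₁ = 1 by rw [map_smul, LinearMap.smul_apply, smul_eq_mul, inv_mul_cancel₀ hm01])
        (by simp [h.swap a m₀, hm₀.1]) (by rw [h.swap]; exact hm₁.1.1) (by simp [h.swap b m₀, hm₀.2])
        (by rw [h.swap]; exact hm₁.1.2) m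
      rw [hm.1, hm.2, zero_smul, zero_smul, zero_add, zero_add, map_smul, smul_smul, smul_eq_mul] at hfr
      rw [hfr, hp, hq]
      match_scalars <;> field_simp
    rcases eq_or_ne p 0 with hp0 | hp0
    · rw [hp0, zero_smul, zero_add] at hmeq
      have hq0 : q ≠ 0 := fun e => hm0' (by rw [hmeq, e, zero_smul])
      rw [hmeq]
      refine hM0 (hmeq ▸ hm) (x := q) (y := 0) (Or.inl hq0) ?_
      convert hCsmul (hm₁.2 1 0 (Or.inl one_ne_zero)) hq0 using 1
      match_scalars <;> simp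
    · have := hM0comb hm₀M hm₁ hm01 (q / p)
      rw [hmeq]
      refine hM0 (hmeq ▸ hm) (x := p) (y := 0) (Or.inl hp0) ?_
      convert hCsmul (this.2 1 0 (Or.inl one_ne_zero)) hp0 using 1
      match_scalars <;> field_simp <;> simp
  intro g v κ hg
  rcases eq_or_ne v 0 with rfl | hv
  · have : g = 1 := ext_act fun y => by rw [hg y, smul_zero, add_zero, act_one]
    rw [this]; exact P.one_mem
  suffices hvC : v ∈ C by
    obtain ⟨t, ht, htv⟩ := hvC.2 κ
    rwa [hg.unique htv]
  obtain ⟨m, hm, x, y, rfl⟩ := hdec v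
  by_cases hxy : x ≠ 0 ∨ y ≠ 0
  · rcases eq_or_ne m 0 with rfl | hm0'
    · rw [add_zero]; exact hplane x y hxy
    · exact (hM0all m hm hm0').2 x y hxy
  · push Not at hxy
    obtain ⟨rfl, rfl⟩ := hxy
    have hm0' : m ≠ 0 := fun e => hv (by simp [e])
    obtain ⟨m', hm', hmm⟩ : ∃ m' ∈ W0, B m m' ≠ 0 := by
      by_contra hcon
      push Not at hcon
      refine hm0' (h.nondeg m fun z => ?_)
      obtain ⟨n, hn, x, y, rfl⟩ := hdec z
      simp [hm.1, hm.2, hcon n hn]
    have hsum : m + m' ∈ W0 := ⟨by simp [hm.1, hm'.1], by simp [hm.2, hm'.2]⟩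
    have hm'0 : m' ≠ 0 := fun e => hmm (by rw [e, map_zero])
    have hsum0 : m + m' ≠ 0 := fun e => hmm (by
      rw [eq_neg_of_add_eq_zero_right e, h.neg_eq, h.alt])
    have h1 := (hM0all _ hsum hsum0).2 1 0 (Or.inl one_ne_zero)
    have h2 := (hM0all _ hm' hm'0).2 1 0 (Or.inl one_ne_zero)
    have := hCline h1 h2 (by
      simp [h.alt, h.swap a m', hm'.1, hm.1]; exact hmm) 1
    convert this using 1
    have e1 := h.add_self a
    have e2 := h.add_self m'
    linear_combination (norm := module) -e1 - e2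

end Cfsg.Agent.SpFourEven
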