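import Cfsg.Agent.Lib.Classical.SpFourEven.Pair
import Cfsg.Agent.Lib.Lie.CentralizerTransfer
import Cfsg.Agent.Lib.Char.ZStar

/-!
# One transvection for each centre

A simple irreducible group of this kind is either rational over the field of two elements, or its commuting
transvections have affinely collinear vectors, and then the transfer shows that it is not simple.
-/

set_option autoImplicit false
set_option linter.unusedSectionVars false
set_option linter.style.haveILetI false

namespace Cfsg.Agent.SpFourEven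

open Matrix Cfsg.Geo Module

section Group

variable {G : Type*} [Group G] [Finite G]

/-- A homomorphism of a subgroup of odd index which is `-1` on the conjugates of an involution in it
gives one of the whole group. -/
theorem false_of_transfer [IsSimpleGroup G] (hna : ∃ a b : G, a * b ≠ b * a) (S : Subgroup G)
    (hodd : Odd S.index) (ψ : S →* ℤˣ) {t : G} (ht2 : t * t = 1)
    (hψ : ∀ x : G, ∀ hx : x⁻¹ * t * x ∈ S, ψ ⟨_, hx⟩ = -1) : False := by
  classical
  haveI : S.FiniteIndex := Subgroup.finiteIndex_of_finite_quotient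
  haveI : Fintype (G ⧸ S) := Fintype.ofFinite _
  set V := MonoidHom.transfer ψ with hV
  have hfixed : V t = ∏ q : MulAction.fixedBy (G ⧸ S) t, Lie.CentTransfer.val ψ t (q : G ⧸ S) :=
    Lie.CentTransfer.transfer_involution ψ ht2
  have hval : ∀ q : MulAction.fixedBy (G ⧸ S) t, Lie.CentTransfer.val ψ t (q : G ⧸ S) = -1 := fun q => by
    have hm := (Lie.CentTransfer.mem_fixed_iff t (q : G ⧸ S)).1 q.2
    rw [Lie.CentTransfer.val_of ψ _ (QuotientGroup.out_eq' _) hm]
    exact hψ _ hm
  rw [Finset.prod_congr rfl fun q _ => hval q, Finset.prod_const, Finset.card_univ] at hfixed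
  have hker : V.ker = ⊤ := by
    refine (V.normal_ker.eq_bot_or_eq_top).resolve_left fun e => ?_
    obtain ⟨a, b, hab⟩ := hna
    exact hab ((MonoidHom.ker_eq_bot_iff V).1 e (by rw [map_mul, map_mul, mul_comm]))
  have h1 : V t = 1 := MonoidHom.mem_ker.1 (hker ▸ Subgroup.mem_top t)
  -- the number of fixed cosets is odd
  set σ : Equiv.Perm (G ⧸ S) := MulAction.toPerm t with hσ
  have hσ2 : σ ^ 2 = 1 := Equiv.ext fun q => by
    simp only [pow_two, hσ, Equiv.Perm.mul_apply, MulAction.toPerm_apply, smul_smul, ht2, one_smul,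
      Equiv.Perm.one_apply]
  have heven : 2 ∣ σ.support.card := by
    haveI : Fact (Nat.Prime 2) := ⟨Nat.prime_two⟩
    refine Nat.dvd_of_mod_eq_zero ?_
    have := Equiv.Perm.card_compl_support_modEq (p := 2) (n := 1) (σ := σ) (by simpa using hσ2)
    have hle := Finset.card_le_univ σ.support
    rw [Finset.card_compl, Nat.ModEq] at this
    omega
  have hc : Fintype.card (MulAction.fixedBy (G ⧸ S) t) + σ.support.card = Fintype.card (G ⧸ S) := by
    rw [Fintype.card_subtype, ← Finset.card_union_of_disjoint]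
    · rw [← Finset.card_univ]
      congr 1
      ext q
      simp [Equiv.Perm.mem_support, hσ, em]
    · rw [Finset.disjoint_left]
      intro q hq
      simp only [Finset.mem_filter, Finset.mem_univ, true_and, MulAction.mem_fixedBy] at hq
      simp [Equiv.Perm.mem_support, hσ, hq]
  have hodd' : Odd (Fintype.card (MulAction.fixedBy (G ⧸ S) t)) := by
    rw [Nat.odd_iff] at hodd ⊢
    rw [Subgroup.index, Nat.card_eq_fintype_card] at hodd
    omega
  rw [h1, hodd'.neg_one_pow] at hfixed
  exact absurd hfixed (by decide)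

/-- An involution of a non-abelian simple group commutes with another conjugate of itself. -/
theorem exists_commute_conj [IsSimpleGroup G] (hna : ∃ a b : G, a * b ≠ b * a) {t : G} (ht : orderOf t = 2) :
    ∃ g : G, Commute t (g * t * g⁻¹) ∧ g * t * g⁻¹ ≠ t := by
  by_contra hc
  push Not at hc
  have hz : Cfsg.IsIsolatedInvolution t := ⟨ht, hc⟩
  have hO : Cfsg.oddCore G = ⊥ := by
    refine ((inferInstance : (Cfsg.oddCore G).Normal).eq_bot_or_eq_top).resolve_right fun e => ?_
    have h1 := Char.card_oddCore_odd G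
    rw [e, Subgroup.card_top] at h1
    have h2 := orderOf_dvd_natCard t
    rw [ht] at h2
    exact (Nat.not_even_iff_odd.2 h1) (even_iff_two_dvd.2 h2)
  have hcent : t ∈ Subgroup.center G := Subgroup.mem_center_iff.2 fun g => by
    have h := Char.zStar_isolated hz g
    rw [hO, Subgroup.mem_bot, mul_inv_eq_one, mul_inv_eq_iff_eq_mul] at h
    exact h.symm
  rcases (inferInstance : (Subgroup.center G).Normal).eq_bot_or_eq_top with e | e
  · rw [e, Subgroup.mem_bot] at hcent
    simp [hcent] at ht
  · obtain ⟨a, b, hab⟩ := hna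
    exact hab ((Subgroup.mem_center_iff.1 (e ▸ Subgroup.mem_top b) a))

theorem zmod_two_sign (i j : ZMod 2) : ((if i + j = 0 then 1 else -1) : ℤˣ) =
    (if i = 0 then 1 else -1) * (if j = 0 then 1 else -1) := by
  revert i j
  decide

end Group

variable {ι : Type} [Fintype ι] [DecidableEq ι] {F : Type*} [Field F]
  {B : LinearMap.BilinForm F (ι → F)} {P : Subgroup (GL ι F)} (h : Ctx B P)
include h

/-- Two distinct non-zero values give collinear vectors. -/
theorem Ctx.two_valued [Finite F] (hone : OnePerCentre B P) {a b c f : ι → F} (ha : Vec B P a)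
    (hb : Vec B P b) (hc : Vec B P c) (hf : Vec B P f) (hab : B a b = 0) {x y : F}
    (hxy : c = x • a + y • b) (h1 : B a f ≠ 0) (h2 : B b f ≠ 0) (h12 : B a f ≠ B b f) : x + y = 1 := by
  obtain ⟨α, hα'⟩ : ∃ α, B a f = α := ⟨_, rfl⟩
  obtain ⟨β, hβ'⟩ : ∃ β, B b f = β := ⟨_, rfl⟩
  rw [hα'] at h1 h12
  rw [hβ'] at h2 h12
  have hli : ∀ {s t : F}, s • a + t • b = 0 → s = 0 ∧ t = 0 := by
    intro s t e
    have e' := congrArg (fun v => B v f) e
    simp [hα', hβ'] at e'
    rcases eq_or_ne t 0 with rfl | ht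
    · simp [h1] at e'
      exact ⟨e', rfl⟩
    · exfalso
      have hb' : b = (t⁻¹ * s) • a := by
        rw [← inv_smul_smul₀ ht b, ← h.neg_eq (t • b), ← eq_neg_of_add_eq_zero_left e, smul_smul]
      have h3 := h.vec_unique hone ha (hb' ▸ hb)
      exact h12 (by rw [← hα', ← hβ', hb', h3, one_smul])
  obtain ⟨γ, hγ'⟩ : ∃ γ, B c f = γ := ⟨_, rfl⟩
  have hγ : γ = x * α + y * β := by rw [← hγ', hxy]; simp [hα', hβ']
  have hr := h.pair_point hone ha hb hf hab hα' hβ' h1 h2 h12
  have hne : α + β ≠ 0 := fun e => h12 (by linear_combination e - β * h.two)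
  by_cases hγ0 : γ = 0
  · have hy0 : y ≠ 0 := by
      rintro rfl
      have hx : x = 0 := by simpa [h1, hγ0, eq_comm] using hγ
      exact hc.1 (by rw [hxy, hx]; simp)
    have e : c = (y * (α + β) / α) • ((α + β)⁻¹ • (β • a + α • b)) := by
      rw [hxy]
      match_scalars
      · field_simp
        linear_combination hγ0 - hγ - (y * β) * h.two
      · field_simp
    have h3 := h.vec_unique hone hr (e ▸ hc)
    field_simp at h3
    refine mul_right_cancel₀ h1 ?_
    linear_combination h3 + hγ0 - hγ - (y * β) * h.two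
  rcases eq_or_ne γ α with hga | hga
  · -- compare with the pair `b`, `c`
    have hgb : β ≠ γ := fun e => h12 (hga.symm.trans e.symm)
    have hbc : B b c = 0 := by rw [hxy]; simp [h.alt, h.swap b a, hab]
    have hr2 := h.pair_point hone hb hc hf hbc hβ' hγ' h2 hγ0 hgb
    have hne2 : β + γ ≠ 0 := fun e => hne (by rw [← hga, add_comm]; exact e)
    have e : (β + γ)⁻¹ • (γ • b + β • c) = x • ((α + β)⁻¹ • (β • a + α • b)) := by
      rw [hxy, add_comm β γ, hga]
      match_scalars
      · field_simp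
        linear_combination hga - hγ + (α - α * x) * h.two
      · field_simp
    have h3 := h.vec_unique hone hr (e ▸ hr2)
    subst h3
    have : y * β = 0 := by linear_combination hga - hγ
    simp [h2] at this
    simp [this]
  · have hac : B a c = 0 := by rw [hxy]; simp [h.alt, hab]
    have hr2 := h.pair_point hone ha hc hf hac hα' hγ' h1 hγ0 (Ne.symm hga)
    have hne2 : α + γ ≠ 0 := fun e => hga (by linear_combination e - α * h.two)
    have e : (α + γ)⁻¹ • (γ • a + α • c) = (y * (α + β) / (α + γ)) • ((α + β)⁻¹ • (β • a + α • b)) := by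
      rw [hxy]
      match_scalars
      · field_simp
        linear_combination hγ + (x * α) * h.two
      · field_simp
    have h3 := h.vec_unique hone hr (e ▸ hr2)
    rw [div_eq_one_iff_eq hne2] at h3
    refine mul_right_cancel₀ h1 ?_
    linear_combination h3 + hγ + (x * α) * h.two

/-- The non-zero values on a non-collinear triple are equal. -/
theorem Ctx.one_valued [Finite F] (hone : OnePerCentre B P) {a b c f : ι → F} (ha : Vec B P a)
    (hb : Vec B P b) (hc : Vec B P c) (hf : Vec B P f) (hab : B a b = 0) {x y : F}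
    (hxy : c = x • a + y • b) (hbad : x + y ≠ 1) :
    (B a f ≠ 0 → B b f ≠ 0 → B a f = B b f) ∧ (B a f ≠ 0 → B c f ≠ 0 → B a f = B c f) := by
  refine ⟨fun h1 h2 => by_contra fun e => hbad (h.two_valued hone ha hb hc hf hab hxy h1 h2 e),
    fun h1 h2 => by_contra fun e => hbad ?_⟩
  rcases eq_or_ne y 0 with rfl | hy
  · rw [zero_smul, add_zero] at hxy
    rw [add_zero]
    exact h.vec_unique hone ha (hxy ▸ hc)
  have hac : B a c = 0 := by rw [hxy]; simp [h.alt, hab]
  have hb' : b = (x / y) • a + (1 / y) • c := by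
    rw [hxy]
    match_scalars
    · field_simp
    · linear_combination -(x / y) * h.two
  have := h.two_valued hone ha hc hb hf hac hb' h1 h2 e
  field_simp at this
  linear_combination this + (y - 1) * h.two

/-- In a non-collinear triple `a, r, a + y r` the value is one. -/
theorem Ctx.value_one [Finite F] (hone : OnePerCentre B P) {a r f : ι → F} {y : F} (ha : Vec B P a)
    (hr : Vec B P r) (hy : y ≠ 0) (hc : Vec B P (a + y • r)) (hf : Vec B P f) (har : B a r = 0)
    (h1 : B a f ≠ 0) (h2 : B r f = 0) : B a f = 1 := by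
  obtain ⟨k, hk⟩ : ∃ k, B a f = k := ⟨_, rfl⟩
  rw [hk] at h1 ⊢
  have v1 := h.vec_reflect hf ha
  rw [hk] at v1
  -- `v1 = a + k f`
  have v2 : Vec B P (f + (k * y) • r) := by
    have e1 := h.vec_reflect ha hf
    have e2 := h.vec_reflect hc e1
    convert e2 using 1
    simp only [map_add, map_smul, LinearMap.add_apply, LinearMap.smul_apply, h.swap f a, hk, h.swap f r,
      h2, h.alt, har, smul_eq_mul, mul_zero, add_zero]
    match_scalars <;> linear_combination (norm := ring_nf) (0 : F) <;> simp [h.two]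
  have v3 : Vec B P (a + (k * k * y) • r) := by
    have e2 := h.vec_reflect v2 v1
    convert e2 using 1
    simp only [map_add, map_smul, LinearMap.add_apply, LinearMap.smul_apply, hk, h.alt, har, h.swap f r,
      h2, smul_eq_mul, mul_zero, add_zero]
    match_scalars <;> linear_combination (norm := ring_nf) (0 : F) <;> simp [h.two]
  obtain ⟨g, hg, hgr⟩ : ∃ g, Vec B P g ∧ B r g ≠ 0 := by
    by_contra hcon
    push Not at hcon
    exact hr.1 (h.eq_zero_of_orth (D := {v | Vec B P v})
      (h.span_eq_top ⟨a, ha, ha.1⟩ fun g hg d hd => h.vec_act hg hd) hcon)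
  have key : ∀ η : F, η ≠ 0 → Vec B P (a + η • r) → η = 1 := by
    intro η hη hv
    have hbad : (1 : F) + η ≠ 1 := by simpa using hη
    have e : a + η • r = (1 : F) • a + η • r := by rw [one_smul]
    obtain ⟨p1, p2⟩ := h.one_valued hone ha hr hv hg har e hbad
    have hra : B r a = 0 := by rw [h.swap, har]
    obtain ⟨q1, q2⟩ := h.one_valued hone hr ha hv hg hra (e.trans (add_comm _ _)) (by rwa [add_comm])
    simp only [map_add, map_smul, LinearMap.add_apply, LinearMap.smul_apply, smul_eq_mul] at p2 q2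
    rcases eq_or_ne (B a g) 0 with h0 | h0
    · rw [h0, zero_add] at q2
      refine mul_right_cancel₀ hgr ?_
      rw [one_mul]
      exact (q2 hgr (by simp [hη, hgr])).symm
    · have e1 := p1 h0 hgr
      by_contra hne
      have h3 : B a g + η * B r g ≠ 0 := by
        rw [e1]
        intro h4
        exact hne (mul_right_cancel₀ hgr (by linear_combination h4 - B r g * h.two))
      have := p2 h0 h3
      exact mul_ne_zero hη hgr (by linear_combination -this)
  have hy1 := key y hy hc
  have hk2 := key _ (by simp [h1, hy]) v3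
  rw [hy1, mul_one] at hk2
  exact h.sq_inj (by rw [hk2, one_mul])

/-- On a non-collinear triple all values lie in the field of two elements. -/
theorem Ctx.rat_of_bad [Finite F] (hone : OnePerCentre B P) {a b c : ι → F} (ha : Vec B P a)
    (hb : Vec B P b) (hc : Vec B P c) (hab : B a b = 0) {x y : F} (hxy : c = x • a + y • b)
    (hbad : x + y ≠ 1) {f : ι → F} (hf : Vec B P f) : B a f = 0 ∨ B a f = 1 := by
  rcases eq_or_ne (B a f) 0 with h0 | h0
  · exact Or.inl h0
  refine Or.inr ?_
  obtain ⟨p1, p2⟩ := h.one_valued hone ha hb hc hf hab hxy hbad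
  have hx0 : x ≠ 0 := by
    rintro rfl
    rw [zero_smul, zero_add] at hxy
    exact hbad (by rw [zero_add]; exact h.vec_unique hone hb (hxy ▸ hc))
  have hy0 : y ≠ 0 := by
    rintro rfl
    rw [zero_smul, add_zero] at hxy
    exact hbad (by rw [add_zero]; exact h.vec_unique hone ha (hxy ▸ hc))
  have hcf : B c f = x * B a f + y * B b f := by rw [hxy]; simp
  rcases eq_or_ne (B b f) 0 with hb0 | hb0
  · rw [hb0, mul_zero, add_zero] at hcf
    have h3 := p2 h0 (by rw [hcf]; simp [hx0, h0])
    have hx1 : x = 1 := mul_right_cancel₀ h0 (by rw [one_mul, ← hcf]; exact h3.symm)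
    rw [hx1, one_smul] at hxy
    exact h.value_one hone ha hb hy0 (hxy ▸ hc) hf hab h0 hb0
  · have e := p1 h0 hb0
    rw [← e, ← add_mul] at hcf
    have hc0 : B c f = 0 := by
      by_contra hne
      exact hbad (mul_right_cancel₀ h0 (by rw [one_mul, ← hcf]; exact (p2 h0 hne).symm))
    have hxy' : x = y := by
      rw [hc0] at hcf
      rcases mul_eq_zero.1 hcf.symm with e | e
      · linear_combination e - y * h.two
      · exact absurd e h0
    subst hxy'
    have hb' : b = a + x⁻¹ • c := by
      rw [hxy]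
      match_scalars
      · field_simp
      · field_simp
        linear_combination -h.two
    exact h.value_one hone ha hc (inv_ne_zero hx0) (hb' ▸ hb) hf
      (by rw [hxy]; simp [h.alt, hab]) h0 hc0

/-- No simple irreducible group has exactly one transvection for each of its centres. -/
theorem Ctx.false_of_single [Fintype F] (hns : ∀ F0 : Subfield F, F0 ≠ ⊤ → ¬ RealisableOver F0 (matrixSet P))
    (hone : OnePerCentre B P) (h4 : 4 ≤ Fintype.card F) {t : GL ι F} (ht : t ∈ P) (ht1 : t ≠ 1)
    {a₀ : ι → F} {κ₀ : F} (htv : Tv B t a₀ κ₀) : False := by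
  classical
  haveI := h.simple
  haveI : CharP F 2 := CharTwo.of_one_ne_zero_of_two_eq_zero one_ne_zero h.two
  have hκ0 : κ₀ ≠ 0 := fun e => ht1 (e ▸ htv).eq_one
  obtain ⟨a, ha, htva⟩ : ∃ a, a ≠ 0 ∧ Tv B t a 1 := by
    obtain ⟨s, hs⟩ : ∃ s, s * s = κ₀ := by
      obtain ⟨s, hs⟩ := (Finite.injective_iff_surjective.1 fun x y e => h.sq_inj e) κ₀
      exact ⟨s, hs⟩
    refine ⟨s • a₀, fun e => ht1 (ext_act fun v => ?_), Tv.of_smul (by rwa [one_mul, hs])⟩
    have ha0 : a₀ = 0 := (smul_eq_zero.1 e).resolve_left fun e' => hκ0 (by rw [← hs, e', zero_mul])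
    rw [htv v, ha0, smul_zero, add_zero, act_one]
  set D : Set (ι → F) := {v | Vec B P v} with hD
  have haD : a ∈ D := ⟨ha, t, ht, htva⟩
  have hinv : ∀ g ∈ P, ∀ d ∈ D, act g d ∈ D := fun g hg d hd => h.vec_act hg hd
  by_cases hbad : ∃ (a b c : ι → F) (x y : F), Vec B P a ∧ Vec B P b ∧ Vec B P c ∧ B a b = 0 ∧
      c = x • a + y • b ∧ x + y ≠ 1
  · -- rational over two elements
    obtain ⟨a, b, c, x, y, ha, hb, hc, hab, hxy, hbad⟩ := hbad
    set D0 : Set (ι → F) := {v | Vec B P v ∧ ∀ f, Vec B P f → B v f = 0 ∨ B v f = 1} with hD0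
    have haD0 : a ∈ D0 := ⟨ha, fun f hf => h.rat_of_bad hone ha hb hc hab hxy hbad hf⟩
    have hinv0 : ∀ g ∈ P, ∀ d ∈ D0, act g d ∈ D0 := by
      rintro g hg d ⟨hd, hd'⟩
      refine ⟨h.vec_act hg hd, fun f hf => ?_⟩
      rw [h.pres_inv hg]
      exact hd' _ (h.vec_act (P.inv_mem hg) hf)
    have hall : ∀ g, Vec B P g → g ∈ D0 := by
      intro g hg
      obtain ⟨u, hu, hug⟩ : ∃ u ∈ D0, B g u ≠ 0 := by
        by_contra hcon
        push Not at hcon
        exact hg.1 (h.eq_zero_of_orth (h.span_eq_top ⟨a, haD0, ha.1⟩ hinv0) hcon)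
      have hu1 : B u g = 1 := (hu.2 g hg).resolve_left (by rwa [h.swap])
      obtain ⟨-, s, hs, hsg⟩ := hg
      have huD := hu
      obtain ⟨⟨-, t, ht, htu⟩, -⟩ := hu
      have e : act t (act s u) = g := by
        rw [hsg u, hu1, one_mul, one_smul, act_add, htu u, htu g, h.alt, mul_zero, zero_smul, add_zero,
          one_mul, h.swap g u, hu1, one_smul]
        calc u + (g + u) = g + (u + u) := by abel
          _ = g := by rw [h.add_self, add_zero]
      exact e ▸ hinv0 t ht _ (hinv0 s hs u huD)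
    refine hns ⊥ (fun e => ?_) (h.realisable_of_rational ⊥ ⟨a, ha, ha.1⟩ hinv fun d hd f hf => ?_)
    · have h2 : Nat.card (⊥ : Subfield F) = 2 := Subfield.card_bot F 2
      rw [e, Nat.card_congr Subfield.topEquiv.toEquiv, Nat.card_eq_fintype_card] at h2
      omega
    · rcases (hall d hd).2 f hf with e | e <;> rw [e]
      · exact zero_mem _
      · exact one_mem _
  push Not at hbad
  -- two commuting transvections
  have ht2 : t * t = 1 := h.tv_sq htva
  set t' : ↥P := ⟨t, ht⟩ with ht'
  have ho : orderOf t' = 2 := by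
    rw [← Subgroup.orderOf_coe]
    exact orderOf_eq_prime (by rw [pow_two]; exact ht2) ht1
  have hna : ∃ x y : ↥P, x * y ≠ y * x := by
    obtain ⟨x, hx, y, hy, hxy⟩ := h.nonab
    exact ⟨⟨x, hx⟩, ⟨y, hy⟩, fun e => hxy (congrArg Subtype.val e)⟩
  obtain ⟨g, hcomm, hgne⟩ := exists_commute_conj hna ho
  set b := act (g : GL ι F) a with hbdef
  have hbD : Vec B P b := h.vec_act g.2 haD
  have htvb : Tv B ((g * t' * g⁻¹ : ↥P) : GL ι F) b 1 := h.tv_conj g.2 htva
  have hba : b ≠ a := fun e => hgne (Subtype.ext ((e ▸ htvb).unique htva))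
  have hab : B a b = 0 := by
    by_contra hne
    obtain ⟨s, hs⟩ : ∃ s : ↥P, g * t' * g⁻¹ = s := ⟨_, rfl⟩
    rw [hs] at hcomm htvb
    have e : act t (act (s : GL ι F) a) = act (s : GL ι F) (act t a) := by
      rw [← act_mul, ← act_mul]
      exact congrArg (fun z : ↥P => act (z : GL ι F) a) hcomm.eq
    rw [htvb a, htva a, h.alt, mul_zero, zero_smul, add_zero, htvb a, act_add, act_smul, htva a,
      htva b, h.alt, mul_zero, zero_smul, add_zero, h.swap b a, one_mul, smul_add, ← add_assoc,
      add_eq_left, smul_smul, smul_eq_zero] at e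
    exact hne (mul_self_eq_zero.1 (e.resolve_right ha))
  -- coordinates dual to `a`, `b`
  obtain ⟨u₁, h1a, h1b⟩ : ∃ u, B a u = 1 ∧ B b u = 0 := by
    by_contra hcon
    push Not at hcon
    obtain ⟨w, hw⟩ : ∃ w, B b w ≠ 0 := by
      by_contra hc; push Not at hc; exact hbD.1 (h.nondeg b hc)
    refine hba ?_
    have hz : (B a w / B b w) • b + a = 0 := h.nondeg _ fun z => by
      by_contra hz
      set z' := z + (B b z / B b w) • w with hz'
      have e1 : B b z' = 0 := by
        rw [hz', map_add, map_smul, smul_eq_mul, div_mul_cancel₀ _ hw, h.add_self_scalar]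
      have e2 : B a z' ≠ 0 := fun e2 => hz (by
        rw [map_add, map_smul, LinearMap.add_apply, LinearMap.smul_apply, smul_eq_mul]
        rw [hz', map_add, map_smul, smul_eq_mul] at e2
        field_simp at e2 ⊢
        linear_combination e2)
      refine hcon ((B a z')⁻¹ • z') ?_ (by rw [map_smul, e1, smul_zero])
      rw [map_smul, smul_eq_mul, inv_mul_cancel₀ e2]
    have e := eq_neg_of_add_eq_zero_right hz
    rw [h.neg_eq] at e
    obtain ⟨s, hs⟩ : ∃ s, a = s • b := ⟨_, e⟩
    have h5 : Vec B P (s • b) := by rw [← hs]; exact haD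
    rw [hs, h.vec_unique hone hbD h5, one_smul]
  obtain ⟨u₂, h2a, h2b⟩ : ∃ u, B a u = 0 ∧ B b u = 1 := by
    obtain ⟨w, hw⟩ : ∃ w, B b w ≠ 0 := by
      by_contra hc; push Not at hc; exact hbD.1 (h.nondeg b hc)
    refine ⟨(B b w)⁻¹ • (w + B a w • u₁), ?_, ?_⟩
    · rw [map_smul, map_add, map_smul, h1a, smul_eq_mul, smul_eq_mul, mul_one, h.add_self_scalar, mul_zero]
    · rw [map_smul, map_add, map_smul, h1b, smul_eq_mul, smul_eq_mul, mul_zero, add_zero,
        inv_mul_cancel₀ hw]
  set u₂' := u₂ + B u₁ u₂ • a with hu2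
  have h2a' : B a u₂' = 0 := by simp [hu2, h2a, h.alt]
  have h2b' : B b u₂' = 1 := by simp [hu2, h2b, h.swap b a, hab]
  have h12 : B u₁ u₂' = 0 := by simp [hu2, h.swap u₁ a, h1a, h.add_self_scalar]
  have expand := fun v => h.frame h1a h2b' hab h2a' (by rw [h.swap]; exact h1b) h12 v
  set u := u₁ + u₂' with hu
  clear_value u
  -- a Sylow subgroup containing both
  haveI : Fact (Nat.Prime 2) := ⟨Nat.prime_two⟩
  set K : Subgroup ↥P := Subgroup.closure {t', g * t' * g⁻¹} with hK
  have hsq : ∀ x ∈ K, x * x = 1 ∧ Commute x t' ∧ Commute x (g * t' * g⁻¹) := by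
    intro x hx
    induction hx using Subgroup.closure_induction with
    | mem x hx =>
      have e1 : t' * t' = 1 := Subtype.ext ht2
      rcases hx with rfl | rfl
      · exact ⟨e1, Commute.refl _, hcomm⟩
      · exact ⟨by rw [show g * t' * g⁻¹ * (g * t' * g⁻¹) = g * (t' * t') * g⁻¹ by group, e1]; group,
          hcomm.symm, Commute.refl _⟩
    | one => exact ⟨mul_one 1, Commute.one_left _, Commute.one_left _⟩
    | mul x y hx hy ihx ihy =>
      refine ⟨?_, ihx.2.1.mul_left ihy.2.1, ihx.2.2.mul_left ihy.2.2⟩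
      have hxy : Commute x y := by
        have hle : K ≤ Subgroup.centralizer {x} := by
          rw [hK, Subgroup.closure_le]
          rintro _ (rfl | rfl) _ rfl
          · exact ihx.2.1.eq
          · exact ihx.2.2.eq
        exact hle hy x rfl
      rw [hxy.symm.mul_mul_mul_comm, ihx.1, ihy.1, mul_one]
    | inv x hx ih => exact ⟨by rw [← _root_.mul_inv_rev, ih.1, inv_one], ih.2.1.inv_left, ih.2.2.inv_left⟩
  have hKp : IsPGroup 2 K := fun x => ⟨1, Subtype.ext (by
    rw [Subgroup.coe_pow, pow_one, pow_two]; exact (hsq x x.2).1)⟩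
  obtain ⟨T, hT⟩ := hKp.exists_le_sylow
  -- every transvection of `T` has value one at `u`
  have hM : ∀ m, Vec B P m → (∃ s ∈ (T : Subgroup ↥P), Tv B (s : GL ι F) m 1) → B u m = 1 := by
    rintro m hm ⟨s, hs, hsm⟩
    have horth : ∀ {w : ι → F} {r : ↥P}, r ∈ (T : Subgroup ↥P) → Tv B (r : GL ι F) w 1 → B w m = 0 := by
      intro w r hr hrw
      by_contra hne
      -- the product is not a two-element
      obtain ⟨i, hi⟩ := T.isPGroup' ⟨_, T.mul_mem hr hs⟩
      have hi' : ((r * s : ↥P) : GL ι F) ^ 2 ^ i = 1 := by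
        have := congrArg (fun z : ↥(T : Subgroup ↥P) => ((z : ↥P) : GL ι F)) hi
        simpa using this
      obtain ⟨μ, hμ⟩ : ∃ μ, B w m = μ := ⟨_, rfl⟩
      rw [hμ] at hne
      set X := ((r * s : ↥P) : GL ι F) with hX
      have hXw : act X w = (1 + μ * μ) • w + μ • m := by
        rw [hX, Subgroup.coe_mul, act_mul, hsm w, act_add, act_smul, hrw w, hrw m, h.alt, h.swap m w, hμ]
        module
      have hXm : act X m = μ • w + m := by
        rw [hX, Subgroup.coe_mul, act_mul, hsm m, h.alt, mul_zero, zero_smul, add_zero, hrw m,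
          h.swap m w, hμ, one_mul]
        abel
      have hpow : ∀ j, ∃ p q : F, p ≠ 0 ∧ act (X ^ 2 ^ j) m = p • act X m + q • m ∧
          act (X ^ 2 ^ j) w = p • act X w + q • w := by
        intro j
        induction j with
        | zero => exact ⟨1, 0, one_ne_zero, by simp, by simp⟩
        | succ j ih =>
          obtain ⟨p, q, hp, hpm, hpw⟩ := ih
          refine ⟨p * p * (μ * μ), p * p + q * q, by simp [hp, hne], ?_, ?_⟩
          · rw [show 2 ^ (j + 1) = 2 ^ j + 2 ^ j by ring, pow_add, act_mul, hpm, hXm, act_add, act_smul,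
              act_smul, act_add, act_smul, hpw, hpm, hXw, hXm]
            match_scalars <;> linear_combination (norm := ring_nf) (0 : F) <;> simp [h.two]
          · rw [show 2 ^ (j + 1) = 2 ^ j + 2 ^ j by ring, pow_add, act_mul, hpw, hXw, act_add, act_smul,
              act_smul, act_add, act_smul, act_smul, hpw, hpm, hXw, hXm]
            match_scalars <;> linear_combination (norm := ring_nf) (0 : F) <;> simp [h.two]
      obtain ⟨p, q, hp, hpm, -⟩ := hpow i
      rw [hi', act_one, hXm] at hpm
      have e := congrArg (fun z => B z m) hpm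
      simp [hμ, h.alt, hp, hne] at e
    have e1 : B a m = 0 := horth (hT (Subgroup.subset_closure (Or.inl rfl))) htva
    have e2 : B b m = 0 := horth (hT (Subgroup.subset_closure (Or.inr rfl))) htvb
    obtain ⟨x, y, hxy⟩ : ∃ x y, m = x • a + y • b := by
      refine ⟨B m u₁, B m u₂', ?_⟩
      conv_lhs => rw [expand m]
      rw [h.swap m a, e1, h.swap m b, e2, zero_smul, zero_smul, add_zero, add_zero]
    have hsum := hbad a b m x y haD hbD hm hab hxy
    rw [hxy, hu]
    simp only [map_add, map_smul, LinearMap.add_apply, smul_eq_mul, h.swap u₁ a, h.swap u₂' a,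
      h.swap u₁ b, h.swap u₂' b, h1a, h2a', h1b, h2b']
    linear_combination hsum
  have hua : B u a = 1 := hM a haD ⟨t', hT (Subgroup.subset_closure (Or.inl rfl)), htva⟩
  have hub : B u b = 1 := hM b hbD ⟨_, hT (Subgroup.subset_closure (Or.inr rfl)), htvb⟩
  have hTa : ∀ r ∈ (T : Subgroup ↥P), B u (act (r : GL ι F) a) = 1 ∧ B u (act (r : GL ι F) b) = 1 := by
    intro r hr
    exact ⟨hM _ (h.vec_act r.2 haD) ⟨r * t' * r⁻¹,
        T.mul_mem (T.mul_mem hr (hT (Subgroup.subset_closure (Or.inl rfl)))) (T.inv_mem hr),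
        h.tv_conj r.2 htva⟩,
      hM _ (h.vec_act r.2 hbD) ⟨r * (g * t' * g⁻¹) * r⁻¹,
        T.mul_mem (T.mul_mem hr (hT (Subgroup.subset_closure (Or.inr rfl)))) (T.inv_mem hr),
        h.tv_conj r.2 htvb⟩⟩
  have hadd : ∀ r ∈ (T : Subgroup ↥P), ∀ s ∈ (T : Subgroup ↥P),
      B u (act (((r * s : ↥P)) : GL ι F) u) =
        B u (act (r : GL ι F) u) + B u (act (s : GL ι F) u) := by
    intro r hr s hs
    set l := act (s : GL ι F) u + u with hl
    have hla : B l a = 0 := by
      rw [hl, map_add, LinearMap.add_apply, h.pres_inv s.2, hua]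
      rw [show ((s : GL ι F))⁻¹ = ((s⁻¹ : ↥P) : GL ι F) from rfl, (hTa _ (T.inv_mem hs)).1, h.add_self_scalar]
    have hlb : B l b = 0 := by
      rw [hl, map_add, LinearMap.add_apply, h.pres_inv s.2, hub]
      rw [show ((s : GL ι F))⁻¹ = ((s⁻¹ : ↥P) : GL ι F) from rfl, (hTa _ (T.inv_mem hs)).2, h.add_self_scalar]
    obtain ⟨p, q, e⟩ : ∃ p q : F, l = p • a + q • b := by
      have e := expand l
      rw [hla, hlb, zero_smul, zero_smul, add_zero, add_zero] at e
      exact ⟨_, _, e⟩
    have e2 : B u (act (r : GL ι F) l) = B u l := by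
      rw [e]
      simp only [act_add, act_smul, map_add, map_smul, (hTa r hr).1, (hTa r hr).2, hua, hub]
    have e3 : act (s : GL ι F) u = u + l := by
      rw [hl, add_comm _ u, ← add_assoc, h.add_self, zero_add]
    rw [Subgroup.coe_mul, act_mul, e3, act_add, map_add, map_add, e2, h.alt, zero_add]
  -- a linear functional to the field with two elements
  letI := ZMod.algebra F 2
  obtain ⟨ℓ, hℓ⟩ : ∃ ℓ : F →ₗ[ZMod 2] ZMod 2, ℓ 1 = 1 := by
    obtain ⟨ℓ, hℓ⟩ : ∃ ℓ : Module.Dual (ZMod 2) F, ℓ 1 ≠ 0 := by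
      by_contra hcon
      push Not at hcon
      exact one_ne_zero ((Module.forall_dual_apply_eq_zero_iff (ZMod 2) (1 : F)).1 hcon)
    exact ⟨ℓ, Fin.eq_one_of_ne_zero _ hℓ⟩
  let ψ : ↥(T : Subgroup ↥P) →* ℤˣ := MonoidHom.mk'
    (fun r => if ℓ (B u (act ((r : ↥P) : GL ι F) u)) = 0 then 1 else -1) fun r s => by
      rw [← zmod_two_sign, ← map_add, ← hadd r r.2 s s.2]; rfl
  refine false_of_transfer hna (T : Subgroup ↥P) ?_ ψ (Subtype.ext ht2 : t' * t' = 1) fun x hx => ?_
  · rw [← Nat.not_even_iff_odd, even_iff_two_dvd]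
    exact Sylow.not_dvd_index T
  · have hv : Tv B ((x⁻¹ * t' * x : ↥P) : GL ι F) (act ((x⁻¹ : ↥P) : GL ι F) a) 1 := by
      have := h.tv_conj (x⁻¹).2 htva
      simpa using this
    have e := hM _ (h.vec_act (x⁻¹).2 haD) ⟨_, hx, hv⟩
    show (if ℓ (B u (act ((x⁻¹ * t' * x : ↥P) : GL ι F) u)) = 0 then (1 : ℤˣ) else -1) = -1
    rw [hv u, map_add, map_smul, h.alt, e, one_mul, zero_add, smul_eq_mul, mul_one, hℓ,
      if_neg one_ne_zero]

end Cfsg.Agent.SpFourEven
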