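import Cfsg.Agent.Lib.Classical.SpFourEven.Rational
import Cfsg.Agent.Lib.Classical.SpFourEven.Plucker

/-!
# Involutions of type `a₂`

The exceptional endomorphism carries a simple irreducible subgroup of `Sp(4, F)` with an involution of
type `a₂` to one with a transvection.
-/

set_option autoImplicit false
set_option linter.unusedSectionVars false
set_option linter.style.haveILetI false

namespace Cfsg.Agent.SpFourEven

open Matrix Cfsg.Geo Module

variable {F : Type*} [Field F]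

/-- The matrices preserving the standard form. -/
def Isom (M : Matrix (Fin 4) (Fin 4) F) : Prop := ∀ u v, alt4 F (M *ᵥ u) (M *ᵥ v) = alt4 F u v

theorem Isom.rows {M : Matrix (Fin 4) (Fin 4) F} (hM : Isom M) (k l : Fin 4) :
    M k 0 * M l 3 + M k 1 * M l 2 + M k 2 * M l 1 + M k 3 * M l 0 = if k.rev = l then 1 else 0 := by
  set A : Matrix (Fin 4) (Fin 4) F := Matrix.of fun i j => M j.rev i.rev with hA
  have h1 : A * M = 1 := by
    ext i j
    have h := hM (bv i.rev) (bv j)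
    fin_cases i <;> fin_cases j <;>
      · simp [alt4_apply, bv, hA, Matrix.mul_apply, Fin.sum_univ_four, Fin.rev] at h ⊢
        linear_combination h
  have h3 : M * A = 1 := mul_eq_one_comm.1 h1
  have h2 := congrFun (congrFun h3 k) l.rev
  rw [Matrix.one_apply] at h2
  fin_cases k <;> fin_cases l <;>
    · simp [hA, Matrix.mul_apply, Fin.sum_univ_four, Fin.rev] at h2 ⊢
      linear_combination h2

theorem Isom.mul {M N : Matrix (Fin 4) (Fin 4) F} (hM : Isom M) (hN : Isom N) : Isom (M * N) :=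
  fun u v => by rw [← Matrix.mulVec_mulVec, ← Matrix.mulVec_mulVec, hM, hN]

theorem Isom.pl (h2 : (2 : F) = 0) {M : Matrix (Fin 4) (Fin 4) F} (hM : Isom M) {v u : Fin 4 → F}
    (hB : alt4 F v u = 0) :
    SpFourEven.pl (M *ᵥ v) (M *ᵥ u) = Cfsg.Lie.star4 M *ᵥ SpFourEven.pl v u :=
  pl_mulVec h2 hM.rows hB

theorem Isom.star_bv (h2 : (2 : F) = 0) {M : Matrix (Fin 4) (Fin 4) F} (hM : Isom M) (r : Fin 4) :
    Cfsg.Lie.star4 M *ᵥ bv r =
      SpFourEven.pl (M *ᵥ bv (Cfsg.Lie.pairOf r).1) (M *ᵥ bv (Cfsg.Lie.pairOf r).2) := by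
  rw [hM.pl h2 (alt4_bv r), pl_bv]

theorem star4_one : Cfsg.Lie.star4 (1 : Matrix (Fin 4) (Fin 4) F) = 1 := by
  ext i j
  fin_cases i <;> fin_cases j <;>
    simp [Cfsg.Lie.star4, Cfsg.Lie.pairOf, Matrix.one_apply, Fin.ext_iff]

theorem mat_ext {M N : Matrix (Fin 4) (Fin 4) F} (e : ∀ r, M *ᵥ bv r = N *ᵥ bv r) : M = N :=
  Matrix.toLin'.injective (lin_ext e)

theorem Isom.star_mul (h2 : (2 : F) = 0) {M N : Matrix (Fin 4) (Fin 4) F} (hM : Isom M) (hN : Isom N) :
    Cfsg.Lie.star4 (M * N) = Cfsg.Lie.star4 M * Cfsg.Lie.star4 N := mat_ext fun r => by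
  rw [(hM.mul hN).star_bv h2, ← Matrix.mulVec_mulVec, ← Matrix.mulVec_mulVec, hM.pl h2
    (by rw [hN, alt4_bv]), ← Matrix.mulVec_mulVec, hN.star_bv h2]

theorem Isom.star (h2 : (2 : F) = 0) {M : Matrix (Fin 4) (Fin 4) F} (hM : Isom M) :
    Isom (Cfsg.Lie.star4 M) := by
  set S := Matrix.toLin' (Cfsg.Lie.star4 M) with hS
  have e : (alt4 F).compl₁₂ S S = alt4 F := lin_ext fun r => lin_ext fun s => by
    rw [LinearMap.compl₁₂_apply, hS, Matrix.toLin'_apply, Matrix.toLin'_apply, hM.star_bv h2,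
      hM.star_bv h2, alt4_pl h2 (by rw [hM, alt4_bv]) (by rw [hM, alt4_bv]), hM, hM, hM, hM,
      ← alt4_pl h2 (alt4_bv r) (alt4_bv s), pl_bv, pl_bv]
  intro u v
  exact LinearMap.congr_fun (LinearMap.congr_fun e u) v

theorem Isom.star_star (h2 : (2 : F) = 0) {M : Matrix (Fin 4) (Fin 4) F} (hM : Isom M) :
    Cfsg.Lie.star4 (Cfsg.Lie.star4 M) = M.map (fun x => x ^ 2) := by
  refine mat_ext fun r => ?_
  obtain ⟨a, b, i, j, k, ha, hb, hij, hik, hjk⟩ : ∃ a b i j k : Fin 4, a = (Cfsg.Lie.pairOf r).1 ∧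
      b = (Cfsg.Lie.pairOf r).2 ∧ SpFourEven.pl (bv i) (bv j) = (bv a : Fin 4 → F) ∧
      SpFourEven.pl (bv i) (bv k) = (bv b : Fin 4 → F) ∧
      (alt4 F (bv i) (bv j) = 0 ∧ alt4 F (bv i) (bv k) = 0 ∧ alt4 F (bv j) (bv k) = 1 ∧ i = r) := by
    fin_cases r
    · refine ⟨_, _, 0, 1, 2, rfl, rfl, ?_, ?_, ?_, ?_, ?_, rfl⟩
      iterate 2 (funext z; fin_cases z <;> simp [SpFourEven.pl, bv, Cfsg.Lie.pairOf])
      all_goals simp [alt4_apply, bv]
    · refine ⟨_, _, 1, 0, 3, rfl, rfl, ?_, ?_, ?_, ?_, ?_, rfl⟩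
      iterate 2 (funext z; fin_cases z <;> simp [SpFourEven.pl, bv, Cfsg.Lie.pairOf] <;> linear_combination (-1 : F) * h2)
      all_goals simp [alt4_apply, bv]
    · refine ⟨_, _, 2, 0, 3, rfl, rfl, ?_, ?_, ?_, ?_, ?_, rfl⟩
      iterate 2 (funext z; fin_cases z <;> simp [SpFourEven.pl, bv, Cfsg.Lie.pairOf] <;> linear_combination (-1 : F) * h2)
      all_goals simp [alt4_apply, bv]
    · refine ⟨_, _, 3, 1, 2, rfl, rfl, ?_, ?_, ?_, ?_, ?_, rfl⟩
      iterate 2 (funext z; fin_cases z <;> simp [SpFourEven.pl, bv, Cfsg.Lie.pairOf] <;> linear_combination (-1 : F) * h2)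
      all_goals simp [alt4_apply, bv]
  obtain ⟨h1, h1', h1'', rfl⟩ := hjk
  rw [(hM.star h2).star_bv h2, ← ha, ← hb, ← hij, ← hik, ← hM.pl h2 h1, ← hM.pl h2 h1',
    pl_pl h2 (by rw [hM, h1]) (by rw [hM, h1']), hM, h1'', one_smul]
  funext z
  simp [bv, Matrix.mulVec_single_one]

/-- All six two-by-two minors of the pairs of rows and columns. -/
def p6 : Fin 6 → Fin 4 × Fin 4 := ![(0, 1), (0, 2), (1, 3), (2, 3), (0, 3), (1, 2)]

/-- The second compound matrix. -/
def compound (M : Matrix (Fin 4) (Fin 4) F) : Matrix (Fin 6) (Fin 6) F :=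
  Matrix.of fun p r => M (p6 p).1 (p6 r).1 * M (p6 p).2 (p6 r).2 - M (p6 p).2 (p6 r).1 * M (p6 p).1 (p6 r).2

theorem compound_mul (M N : Matrix (Fin 4) (Fin 4) F) : compound (M * N) = compound M * compound N := by
  ext p r
  simp only [compound, Matrix.of_apply, Matrix.mul_apply, Fin.sum_univ_four, Fin.sum_univ_six, p6,
    Matrix.cons_val_zero, Matrix.cons_val_one, Matrix.cons_val]
  ring

theorem compound_one : compound (1 : Matrix (Fin 4) (Fin 4) F) = 1 := by
  ext p r
  fin_cases p <;> fin_cases r <;> simp [compound, p6, Matrix.one_apply, Fin.ext_iff]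

theorem Isom.trace_star (h2 : (2 : F) = 0) {M : Matrix (Fin 4) (Fin 4) F} (hM : Isom M) :
    (Cfsg.Lie.star4 M).trace = (compound M).trace := by
  have ha := hM (bv 0) (bv 3)
  have hb := hM.rows 1 2
  simp [alt4_apply, bv] at ha
  simp [Fin.rev] at hb
  simp [Matrix.trace, Fin.sum_univ_four, Fin.sum_univ_six, compound, p6, Cfsg.Lie.star4, Cfsg.Lie.pairOf]
  linear_combination (norm := ring_nf) ha + hb
  simp [h2]

/-- The trace of the image of an isometry conjugate into a subfield lies in the subfield. -/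
theorem Isom.trace_mem (h2 : (2 : F) = 0) {M : Matrix (Fin 4) (Fin 4) F} (hM : Isom M) {F0 : Subfield F}
    {C : GL (Fin 4) F}
    (hC : ∀ i j, ((C : Matrix (Fin 4) (Fin 4) F) * M * ((C⁻¹ : GL (Fin 4) F) : Matrix (Fin 4) (Fin 4) F)) i j ∈ F0) :
    (Cfsg.Lie.star4 M).trace ∈ F0 := by
  set N := (C : Matrix (Fin 4) (Fin 4) F) * M * ((C⁻¹ : GL (Fin 4) F) : Matrix (Fin 4) (Fin 4) F) with hN
  have e : (compound N).trace = (compound M).trace := by
    rw [hN, compound_mul, compound_mul, Matrix.trace_mul_cycle, ← compound_mul, Units.inv_mul,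
      compound_one, Matrix.one_mul]
  rw [hM.trace_star h2, ← e, Matrix.trace]
  refine F0.sum_mem fun p _ => ?_
  simp only [compound, Matrix.diag_apply, Matrix.of_apply]
  exact F0.sub_mem (F0.mul_mem (hC _ _) (hC _ _)) (F0.mul_mem (hC _ _) (hC _ _))

variable {P : Subgroup (GL (Fin 4) F)} (h : Ctx (alt4 F) P)
include h

theorem Ctx.isom {g : GL (Fin 4) F} (hg : g ∈ P) : Isom (g : Matrix (Fin 4) (Fin 4) F) := h.pres g hg

/-- The exceptional endomorphism on `P`. -/
noncomputable def Ctx.starHom : P →* GL (Fin 4) F :=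
  MonoidHom.toHomUnits
    { toFun := fun g => Cfsg.Lie.star4 ((g : GL (Fin 4) F) : Matrix (Fin 4) (Fin 4) F)
      map_one' := star4_one
      map_mul' := fun g k => (h.isom g.2).star_mul h.two (h.isom k.2) }

theorem Ctx.starHom_coe (g : P) :
    (h.starHom g : Matrix (Fin 4) (Fin 4) F) = Cfsg.Lie.star4 ((g : GL (Fin 4) F) : Matrix _ _ F) := rfl

theorem Ctx.exists_sqrt [Finite F] (a : F) : ∃ b, b * b = a :=
  (Finite.injective_iff_surjective.1 fun x y e => (by
    have e' : (x - y) * (x - y) = 0 := by linear_combination e + (y * y - x * y) * h.two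
    exact sub_eq_zero.1 (mul_self_eq_zero.1 e'))) a

/-- No point of the second space is fixed. -/
theorem Ctx.star_no_fixed [Finite F] {x : Fin 4 → F}
    (hx : ∀ g : P, act (h.starHom g) x = x) : x = 0 := by
  by_contra hx0
  obtain ⟨v, u, hB, hp⟩ := exists_pl h.two h.exists_sqrt x
  have hv0 : v ≠ 0 := by
    rintro rfl
    refine hx0 (hp ▸ ?_)
    funext i
    fin_cases i <;> simp [pl]
  have hind : ∀ a b : F, a • u + b • v = 0 → a = 0 ∧ b = 0 := fun a b e => by
    have ha : a = 0 := by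
      have e1 : a • u = b • v := by rw [eq_neg_of_add_eq_zero_left e, h.neg_eq]
      have e2 : pl (a • u) v = pl (b • v) v := by rw [e1]
      rw [pl_smul, pl_smul, pl_swap h.two v u, hp] at e2
      have e3 : pl v v = 0 := by funext i; fin_cases i <;> simp [pl] <;> ring
      rw [e3, smul_zero] at e2
      exact (smul_eq_zero.1 e2).resolve_right hx0
    rw [ha, zero_smul, zero_add] at e
    exact ⟨ha, (smul_eq_zero.1 e).resolve_right hv0⟩
  have hperp : ∀ g ∈ P, alt4 F v (act g v) = 0 ∧ alt4 F v (act g u) = 0 := fun g hg => by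
    have he : pl (act g v) (act g u) = (1 : F) • pl v u := by
      rw [one_smul, act, act, (h.isom hg).pl h.two hB, hp]
      exact hx ⟨g, hg⟩
    have hB' : alt4 F (act g v) (act g u) = 0 := by rw [h.pres g hg, hB]
    have c1 := contract h.two hB hB' he
    have c2 := contract h.two hB (by rw [h.swap, hB']) ((pl_swap h.two _ _).trans he)
    rw [one_smul] at c1 c2
    exact ⟨(hind _ _ c1).1, (hind _ _ c2).1⟩
  have hs := h.span_eq_top (D := {y | ∃ g ∈ P, y = act g v ∨ y = act g u})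
    ⟨v, ⟨1, P.one_mem, .inl (act_one v).symm⟩, hv0⟩
    (by
      rintro g hg _ ⟨k, hk, rfl | rfl⟩
      · exact ⟨g * k, P.mul_mem hg hk, .inl (act_mul g k v).symm⟩
      · exact ⟨g * k, P.mul_mem hg hk, .inr (act_mul g k u).symm⟩)
  refine hv0 (h.eq_zero_of_orth hs ?_)
  rintro _ ⟨g, hg, rfl | rfl⟩
  · exact (hperp g hg).1
  · exact (hperp g hg).2

/-- An involution of type `a₂` has the form of a pair of orthogonal axes. -/
theorem Ctx.altType_form {t : GL (Fin 4) F} (ht : t ∈ P) (ht2 : t * t = 1)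
    (hna : ¬ NonAlt (alt4 F) t) (hnt : ∀ a κ, ¬ Tv (alt4 F) t a κ) :
    ∃ (l₁ l₂ : Fin 4 → F) (β : F), β ≠ 0 ∧ alt4 F l₁ l₂ = 0 ∧ (∀ a b : F, a • l₂ + b • l₁ = 0 → a = 0 ∧ b = 0) ∧
      ∀ x, act t x = x + β • (alt4 F x l₁ • l₂ + alt4 F x l₂ • l₁) := by
  rcases h.invol_cases ht ht2 with ⟨a, κ, e⟩ | ⟨L, hd, hfix, himg, hperp, honto⟩
  · exact absurd e (hnt a κ)
  have hna' : ∀ x, alt4 F (act t x) x = 0 := fun x => by
    by_contra e
    exact hna ⟨x, e⟩
  set N : (Fin 4 → F) → (Fin 4 → F) := fun x => x + act t x with hN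
  have htN : ∀ x, act t x = x + N x := fun x => by rw [hN, ← add_assoc, h.add_self, zero_add]
  have hNN : ∀ x, alt4 F (N x) x = 0 := fun x => by
    rw [hN, map_add, LinearMap.add_apply, h.alt, hna', zero_add]
  have hadj : ∀ x y, alt4 F x (N y) = alt4 F (N x) y := fun x y => by
    rw [hN, map_add, map_add, LinearMap.add_apply]
    congr 1
    rw [← h.pres t ht x (act t y), ← act_mul, ht2, act_one]
  let b := Module.finBasisOfFinrankEq F L hd
  set l₁ : Fin 4 → F := ((b 0 : L) : Fin 4 → F) with hl1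
  set l₂ : Fin 4 → F := ((b 1 : L) : Fin 4 → F) with hl2
  have hw : ∀ w ∈ L, ∃ a c : F, w = a • l₁ + c • l₂ := fun w hwL => by
    refine ⟨b.repr ⟨w, hwL⟩ 0, b.repr ⟨w, hwL⟩ 1, ?_⟩
    have e := congrArg Subtype.val (b.sum_repr ⟨w, hwL⟩)
    simp only [Fin.sum_univ_two, Submodule.coe_add, Submodule.coe_smul] at e
    exact e.symm
  have hind : ∀ a c : F, a • l₂ + c • l₁ = 0 → a = 0 ∧ c = 0 := fun a c e => by
    have e' : c • b 0 + a • b 1 = 0 := Subtype.ext (by simpa [hl1, hl2, add_comm] using e)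
    have := Fintype.linearIndependent_iff.1 b.linearIndependent ![c, a] (by simpa [Fin.sum_univ_two] using e')
    exact ⟨by simpa using this 1, by simpa using this 0⟩
  have hl : alt4 F l₁ l₂ = 0 := (hperp l₁).1 (b 0).2 l₂ (b 1).2
  let Φ : (Fin 4 → F) →ₗ[F] (Fin 2 → F) := LinearMap.pi ![(alt4 F).flip l₁, (alt4 F).flip l₂]
  have hΦ : Function.Surjective Φ := by
    have hker : LinearMap.ker Φ = L := by
      ext x
      rw [LinearMap.mem_ker]
      constructor
      · intro e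
        refine (hperp x).2 fun w hwL => ?_
        obtain ⟨a, c, rfl⟩ := hw w hwL
        have e0 := congrFun e 0
        have e1 := congrFun e 1
        simp [Φ] at e0 e1
        simp [e0, e1]
      · intro hxL
        funext i
        fin_cases i <;> simp [Φ, (hperp x).1 hxL _ (b _).2, hl1, hl2]
    rw [← LinearMap.range_eq_top]
    refine Submodule.eq_top_of_finrank_eq ?_
    have := LinearMap.finrank_range_add_finrank_ker Φ
    rw [hker, hd, h.finrank_eq] at this
    rw [Module.finrank_pi, Fintype.card_fin]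
    omega
  obtain ⟨f₁, hf1⟩ := hΦ ![1, 0]
  obtain ⟨f₂, hf2⟩ := hΦ ![0, 1]
  have e11 := congrFun hf1 0
  have e12 := congrFun hf1 1
  have e21 := congrFun hf2 0
  have e22 := congrFun hf2 1
  simp [Φ] at e11 e12 e21 e22
  obtain ⟨p, β, hNf1⟩ := hw (N f₁) (himg f₁)
  obtain ⟨γ, q, hNf2⟩ := hw (N f₂) (himg f₂)
  have hp0 : p = 0 := by
    have e := hNN f₁
    rw [h.swap, hNf1] at e
    simpa [e11, e12] using e
  have hq0 : q = 0 := by
    have e := hNN f₂
    rw [h.swap, hNf2] at e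
    simpa [e21, e22] using e
  have hγ : γ = β := by
    have e := hadj f₁ f₂
    rw [h.swap (N f₁), hNf1, hNf2] at e
    simpa [e11, e12, e21, e22, hp0, hq0] using e
  rw [hp0, zero_smul, zero_add] at hNf1
  rw [hq0, zero_smul, add_zero, hγ] at hNf2
  have hform : ∀ x, N x = β • (alt4 F x l₁ • l₂ + alt4 F x l₂ • l₁) := fun x => by
    have hxL : x + (alt4 F x l₁ • f₁ + alt4 F x l₂ • f₂) ∈ L := by
      refine (hperp _).2 fun w hwL => ?_
      obtain ⟨a, c, rfl⟩ := hw w hwL
      simp [e11, e12, e21, e22]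
      linear_combination (a * alt4 F x l₁ + c * alt4 F x l₂) * h.two
    have e := (hfix _).1 hxL
    rw [act_add, act_add, act_smul, act_smul, htN x, htN f₁, htN f₂, hNf1, hNf2] at e
    have e2 : N x + β • (alt4 F x l₁ • l₂ + alt4 F x l₂ • l₁) = 0 := by
      linear_combination (norm := module) e
    rw [eq_neg_of_add_eq_zero_left e2, h.neg_eq]
  refine ⟨l₁, l₂, β, fun hβ => hnt 0 0 fun x => ?_, hl, hind, fun x => by rw [htN, hform]⟩
  rw [htN, hform, hβ, zero_smul, smul_zero]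

/-- An involution of type `a₂` becomes a transvection. -/
theorem Ctx.star_tv [Finite F] {t : GL (Fin 4) F} (ht : t ∈ P) (ht2 : t * t = 1)
    (hna : ¬ NonAlt (alt4 F) t) (hnt : ∀ a κ, ¬ Tv (alt4 F) t a κ) :
    ∃ a κ, Tv (alt4 F) (h.starHom ⟨t, ht⟩) a κ ∧ h.starHom ⟨t, ht⟩ ≠ 1 := by
  obtain ⟨l₁, l₂, β, hβ, hl, hind, hform⟩ := h.altType_form ht ht2 hna hnt
  set c := pl l₁ l₂ with hc
  have htv : Tv (alt4 F) (h.starHom ⟨t, ht⟩) c (β * β) := fun x => by
    have e : Matrix.toLin' (h.starHom ⟨t, ht⟩ : Matrix (Fin 4) (Fin 4) F) =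
        LinearMap.id + ((β * β) • (alt4 F).flip c).smulRight c := lin_ext fun r => by
      rw [Matrix.toLin'_apply, h.starHom_coe, (h.isom ht).star_bv h.two]
      change pl (act t _) (act t _) = _
      rw [hform, hform, pl_move h.two β (alt4_bv r) hl, pl_bv]
      simp [hc]
    have := LinearMap.congr_fun e x
    simpa [act] using this
  refine ⟨c, β * β, htv, fun e1 => ?_⟩
  have hc0 : c ≠ 0 := ne_zero_of_pl h.two hl hind
  refine hc0 (alt4_nondeg c fun w => ?_)
  have e := htv w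
  rw [e1, act_one, left_eq_add, smul_eq_zero, mul_eq_zero] at e
  rw [h.swap]
  exact (e.resolve_right hc0).resolve_left (mul_ne_zero hβ hβ)

/-- A group with an involution of type `a₂` is isomorphic to one with a transvection. -/
theorem Ctx.exists_star [Finite F] {t : GL (Fin 4) F} (ht : t ∈ P) (ht2 : t * t = 1)
    (hna : ¬ NonAlt (alt4 F) t) (hnt : ∀ a κ, ¬ Tv (alt4 F) t a κ) :
    ∃ P' : Subgroup (GL (Fin 4) F), Ctx (alt4 F) P' ∧ Nonempty (P ≃* P') ∧
      (∃ s ∈ P', s ≠ 1 ∧ ∃ a κ, Tv (alt4 F) s a κ) ∧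
      ∀ F0 : Subfield F, RealisableOver F0 (matrixSet P') →
        ∀ g ∈ P, Matrix.trace (g : Matrix (Fin 4) (Fin 4) F) ∈ F0 := by
  haveI := h.simple
  obtain ⟨c, κ, htv, hs1⟩ := h.star_tv ht ht2 hna hnt
  have hinj : Function.Injective h.starHom := by
    rw [← MonoidHom.ker_eq_bot_iff]
    refine ((inferInstance : h.starHom.ker.Normal).eq_bot_or_eq_top).resolve_right fun e => hs1 ?_
    have : (⟨t, ht⟩ : P) ∈ h.starHom.ker := by rw [e]; exact Subgroup.mem_top _
    exact this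
  let e : P ≃* h.starHom.range := MonoidHom.ofInjective hinj
  have hpres : ∀ g ∈ h.starHom.range, ∀ v w, alt4 F (act g v) (act g w) = alt4 F v w := by
    rintro _ ⟨g, rfl⟩ v w
    exact (h.isom g.2).star h.two v w
  have hfixed : ∀ W : Submodule F (Fin 4 → F), (∀ g : P, ∀ w ∈ W, act (h.starHom g) w ∈ W) →
      (∀ w ∈ W, act (h.starHom ⟨t, ht⟩) w = w) → W = ⊥ := fun W hW hfix => by
    let S : Subgroup P :=
      { carrier := {g | ∀ w ∈ W, act (h.starHom g) w = w}
        one_mem' := fun w _ => by rw [map_one, act_one]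
        mul_mem' := fun {g k} hg hk w hw => by rw [map_mul, act_mul, hk w hw, hg w hw]
        inv_mem' := fun {g} hg w hw => by
          conv_lhs => rw [← hg w hw]
          rw [map_inv, act_inv_act] }
    haveI : S.Normal := ⟨fun g hg k w hw => by
      rw [map_mul, map_mul, act_mul, act_mul, hg _ (hW k⁻¹ w hw), map_inv, act_act_inv]⟩
    have hS : S = ⊤ := ((inferInstance : S.Normal).eq_bot_or_eq_top).resolve_left fun e => hs1 (by
      have : (⟨t, ht⟩ : P) ∈ S := hfix
      rw [e, Subgroup.mem_bot] at this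
      rw [this, map_one])
    refine (Submodule.eq_bot_iff W).2 fun w hw => h.star_no_fixed fun g => ?_
    have : g ∈ S := by rw [hS]; exact Subgroup.mem_top _
    exact this w hw
  refine ⟨h.starHom.range, ⟨rfl, h.two, h.alt, h.nondeg, hpres, e.symm.isSimpleGroup, ?_,
    fun W hW => ?_⟩, ⟨e⟩, ⟨_, ⟨_, rfl⟩, hs1, c, κ, htv⟩, fun F0 ⟨C, hC⟩ g hg => ?_⟩
  · obtain ⟨x, hx, y, hy, hxy⟩ := h.nonab
    refine ⟨_, ⟨⟨x, hx⟩, rfl⟩, _, ⟨⟨y, hy⟩, rfl⟩, fun e' => hxy ?_⟩
    rw [← map_mul, ← map_mul] at e'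
    exact congrArg Subtype.val (hinj e')
  · have hW' : ∀ g : P, ∀ w ∈ W, act (h.starHom g) w ∈ W := fun g w hw =>
      hW _ ⟨_, ⟨g, rfl⟩, rfl⟩ ⟨w, hw, rfl⟩
    by_cases hcW : c ∈ W
    · let W' := W.dualAnnihilator.comap (alt4 F)
      have hmem : ∀ y, y ∈ W' ↔ ∀ w ∈ W, alt4 F y w = 0 := fun y => Submodule.mem_dualAnnihilator _
      have hW'' : ∀ g : P, ∀ y ∈ W', act (h.starHom g) y ∈ W' := fun g y hy => by
        rw [hmem] at hy ⊢
        intro w hw
        rw [← hy _ (hW' g⁻¹ w hw), map_inv, ← hpres _ ⟨g, rfl⟩ y, act_act_inv]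
      have hbot : W' = ⊥ := hfixed W' hW'' fun y hy => by
        rw [htv y, (hmem y).1 hy c hcW, mul_zero, zero_smul, add_zero]
      right
      have hinjB : Function.Injective (alt4 F) := by
        rw [injective_iff_map_eq_zero]
        exact fun y hy => h.nondeg y fun w => by rw [hy, LinearMap.zero_apply]
      have hsurj : Function.Surjective (alt4 F) :=
        (LinearMap.injective_iff_surjective_of_finrank_eq_finrank
          (Subspace.dual_finrank_eq (K := F) (V := Fin 4 → F)).symm).1 hinjB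
      have hann : W.dualAnnihilator = ⊥ := by
        rw [← Submodule.map_comap_eq_of_surjective hsurj W.dualAnnihilator,
          show W.dualAnnihilator.comap (alt4 F) = ⊥ from hbot, Submodule.map_bot]
      exact Subspace.dualAnnihilator_inj.1 (hann.trans Submodule.dualAnnihilator_top.symm)
    · left
      refine hfixed W hW' fun w hw => ?_
      have h1 := W.sub_mem (hW' ⟨t, ht⟩ w hw) hw
      rw [htv w, add_sub_cancel_left] at h1
      by_contra hne
      rw [htv w, add_eq_left] at hne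
      exact hcW ((Submodule.smul_mem_iff W (left_ne_zero_of_smul hne)).1 h1)
  · obtain ⟨y, hy, hy2⟩ : ∃ y ∈ F0, y * y = Matrix.trace (g : Matrix (Fin 4) (Fin 4) F) *
        Matrix.trace (g : Matrix (Fin 4) (Fin 4) F) := by
      have hm : Matrix.trace (g : Matrix (Fin 4) (Fin 4) F) *
          Matrix.trace (g : Matrix (Fin 4) (Fin 4) F) ∈ F0 := by
        have h1 := Isom.trace_mem h.two (M := Cfsg.Lie.star4 (g : Matrix (Fin 4) (Fin 4) F)) (Isom.star h.two (h.isom hg))
          (hC _ ⟨h.starHom ⟨g, hg⟩, ⟨_, rfl⟩, rfl⟩)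
        rw [(h.isom hg).star_star h.two] at h1
        have h2 : ((g : Matrix (Fin 4) (Fin 4) F).map (fun x => x ^ 2)).trace =
            Matrix.trace (g : Matrix (Fin 4) (Fin 4) F) * Matrix.trace (g : Matrix (Fin 4) (Fin 4) F) := by
          simp [Matrix.trace, Fin.sum_univ_four]
          linear_combination (norm := ring_nf) (0 : F) = 0
          simp [h.two]
        rwa [h2] at h1
      have hinjsq : Function.Injective fun x : F0 => x * x := fun x y e =>
        Subtype.ext (sub_eq_zero.1 (mul_self_eq_zero.1 (by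
          have e' : (x : F) * x = y * y := congrArg Subtype.val e
          linear_combination e' + ((y : F) * y - x * y) * h.two)))
      obtain ⟨y, hy⟩ := Finite.injective_iff_surjective.1 hinjsq ⟨_, hm⟩
      exact ⟨y, y.2, congrArg Subtype.val hy⟩
    have e' : (y - Matrix.trace (g : Matrix (Fin 4) (Fin 4) F)) * (y - Matrix.trace (g : Matrix (Fin 4) (Fin 4) F)) = 0 := by
      linear_combination hy2 + (Matrix.trace (g : Matrix (Fin 4) (Fin 4) F) * Matrix.trace (g : Matrix (Fin 4) (Fin 4) F)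
        - y * Matrix.trace (g : Matrix (Fin 4) (Fin 4) F)) * h.two
    rwa [← sub_eq_zero.1 (mul_self_eq_zero.1 e')]

end Cfsg.Agent.SpFourEven
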