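import Cfsg.Agent.Lib.Classical.SpFourEven.Star
import Cfsg.Agent.Lib.Classical.SpFourEven.Single
import Cfsg.Agent.Lib.Classical.SpFourEven.Root
import Cfsg.Agent.Lib.Classical.SpFourEven.Realise
import Cfsg.Agent.Lib.Classical.SpOvergroup

/-!
# No transvections and no involutions of type `a₂`

Passage between the two standard coordinate systems, and the consequence for a proper subgroup.
-/

set_option autoImplicit false
set_option linter.unusedSectionVars false
set_option linter.style.haveILetI false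

namespace Cfsg.Agent.SpFourEven

open Matrix Cfsg.Geo Module

variable {F : Type*} [Field F]

/-- The relabelling of the coordinates. -/
def rel : Fin 2 ⊕ Fin 2 ≃ Fin 4 where
  toFun := Sum.elim ![0, 1] ![3, 2]
  invFun := ![Sum.inl 0, Sum.inl 1, Sum.inr 1, Sum.inr 0]
  left_inv := by decide
  right_inv := by decide

/-- The standard symplectic form as a bilinear form. -/
def std (F : Type*) [Field F] : LinearMap.BilinForm F (Fin 2 ⊕ Fin 2 → F) :=
  LinearMap.mk₂ F (Cfsg.sympForm 2 F)
    (fun u u' v => by simp [Cfsg.sympForm, add_dotProduct])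
    (fun c u v => by simp [Cfsg.sympForm, smul_dotProduct])
    (fun u v v' => by simp [Cfsg.sympForm, Matrix.mulVec_add, dotProduct_add])
    (fun c u v => by simp [Cfsg.sympForm, Matrix.mulVec_smul, dotProduct_smul])

theorem std_apply (u v : Fin 2 ⊕ Fin 2 → F) : std F u v = Cfsg.sympForm 2 F u v := rfl

/-- Transport of the general linear group. -/
noncomputable def relGL : GL (Fin 2 ⊕ Fin 2) F ≃* GL (Fin 4) F :=
  Units.mapEquiv (Matrix.reindexAlgEquiv F F rel).toMulEquiv

theorem relGL_coe (g : GL (Fin 2 ⊕ Fin 2) F) :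
    (relGL g : Matrix (Fin 4) (Fin 4) F) = (g : Matrix (Fin 2 ⊕ Fin 2) (Fin 2 ⊕ Fin 2) F).submatrix rel.symm rel.symm :=
  rfl

theorem act_relGL (g : GL (Fin 2 ⊕ Fin 2) F) (x : Fin 4 → F) :
    act (relGL g) x = (act g (x ∘ rel)) ∘ rel.symm := by
  rw [act, relGL_coe, Matrix.submatrix_mulVec_equiv, Equiv.symm_symm]
  rfl

theorem alt4_eq (h2 : (2 : F) = 0) (x y : Fin 4 → F) : alt4 F x y = std F (x ∘ rel) (y ∘ rel) := by
  rw [std_apply]
  simp [alt4_apply, Cfsg.sympForm, Matrix.J, Matrix.mulVec, dotProduct, Fintype.sum_sum_type,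
    Fin.sum_univ_two, rel, Matrix.one_apply]
  linear_combination (x 0 * y 3 + x 1 * y 2) * h2

theorem trace_relGL (g : GL (Fin 2 ⊕ Fin 2) F) :
    Matrix.trace (relGL g : Matrix (Fin 4) (Fin 4) F) = Matrix.trace (g : Matrix (Fin 2 ⊕ Fin 2) (Fin 2 ⊕ Fin 2) F) := by
  rw [relGL_coe]
  exact Equiv.sum_comp rel.symm fun i => (g : Matrix (Fin 2 ⊕ Fin 2) (Fin 2 ⊕ Fin 2) F) i i

theorem pres_of_le {P : Subgroup (GL (Fin 2 ⊕ Fin 2) F)} (hle : P ≤ Cfsg.spGL 2 F) :
    ∀ g ∈ P, ∀ v w, std F (act g v) (act g w) = std F v w := fun g hg v w => hle hg v w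

/-- The context in the second coordinates. -/
theorem Ctx.relabel {P : Subgroup (GL (Fin 2 ⊕ Fin 2) F)} (h : Ctx (std F) P) :
    Ctx (alt4 F) (P.map relGL.toMonoidHom) := by
  haveI := h.simple
  refine ⟨rfl, h.two, alt4_self h.two, alt4_nondeg, ?_,
    (relGL.subgroupMap P).symm.isSimpleGroup, ?_, fun W hW => ?_⟩
  · rintro _ ⟨g, hg, rfl⟩ v w
    show alt4 F (act (relGL g) v) (act (relGL g) w) = _
    rw [alt4_eq h.two, alt4_eq h.two, act_relGL, act_relGL, Function.comp_assoc, Function.comp_assoc,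
      Equiv.symm_comp_self, Function.comp_id, Function.comp_id, h.pres g hg]
  · obtain ⟨x, hx, y, hy, hxy⟩ := h.nonab
    refine ⟨_, ⟨x, hx, rfl⟩, _, ⟨y, hy, rfl⟩, fun e => hxy ?_⟩
    rw [← map_mul, ← map_mul] at e
    exact relGL.injective e
  · let L : (Fin 2 ⊕ Fin 2 → F) ≃ₗ[F] (Fin 4 → F) := LinearEquiv.funCongrLeft F F rel.symm
    have hW' : ∀ g ∈ P, ∀ v ∈ W.comap L.toLinearMap, act g v ∈ W.comap L.toLinearMap := fun g hg v hv => by
      have e := hW _ ⟨relGL g, ⟨g, hg, rfl⟩, rfl⟩ ⟨L v, hv, rfl⟩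
      rw [Matrix.toLin'_apply] at e
      change L (act g v) ∈ W
      have e2 : act (relGL g) (L v) = L (act g v) := by
        rw [act_relGL]
        funext i
        simp [L, Function.comp_def]
      rw [← e2]
      exact e
    rcases h.invariant hW' with e | e
    · left
      rw [← Submodule.map_comap_eq_of_surjective L.surjective W, e, Submodule.map_bot]
    · right
      rw [← Submodule.map_comap_eq_of_surjective L.surjective W, e, Submodule.map_top,
        LinearMap.range_eq_top.2 L.surjective]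

variable [Fintype F]

/-- A subfield is the fixed field of a power of the Frobenius map. -/
theorem exists_frobenius (F0 : Subfield F) :
    ∃ τ : F ≃+* F, ∀ x, (τ x = x ↔ x ∈ F0) := by
  classical
  haveI : Fintype F0 := Fintype.ofFinite _
  let τ : F ≃+* F := (FiniteField.frobeniusAlgEquivOfAlgebraic F0 F).toRingEquiv
  have hτ : ∀ x, τ x = x ^ Fintype.card F0 := fun x => rfl
  refine ⟨τ, fun x => ?_⟩
  set q := Fintype.card F0 with hq
  have hq1 : 1 < q := Fintype.one_lt_card
  rw [hτ]
  constructor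
  · intro hx
    let S : Finset F := Finset.univ.image (fun y : F0 => (y : F))
    let f : Polynomial F := Polynomial.X ^ q - Polynomial.X
    have hf : f ≠ 0 := FiniteField.X_pow_card_sub_X_ne_zero F hq1
    have hS : S ⊆ f.roots.toFinset := fun y hy => by
      obtain ⟨z, -, rfl⟩ := Finset.mem_image.1 hy
      rw [Multiset.mem_toFinset, Polynomial.mem_roots hf, Polynomial.IsRoot.def]
      simp only [f, Polynomial.eval_sub, Polynomial.eval_pow, Polynomial.eval_X]
      have e : ((z ^ q : F0) : F) = z := by rw [hq, FiniteField.pow_card]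
      rw [SubmonoidClass.coe_pow] at e
      rw [e, sub_self]
    have hxS : x ∈ f.roots.toFinset := by
      rw [Multiset.mem_toFinset, Polynomial.mem_roots hf, Polynomial.IsRoot.def]
      simp [f, hx]
    have hc : f.roots.toFinset.card ≤ S.card := by
      rw [Finset.card_image_of_injective _ Subtype.val_injective, Finset.card_univ, ← hq]
      refine (Multiset.toFinset_card_le _).trans ((Polynomial.card_roots' f).trans ?_)
      rw [FiniteField.X_pow_card_sub_X_natDegree_eq F hq1]
    rw [← Finset.eq_of_subset_of_card_le hS hc] at hxS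
    obtain ⟨z, -, rfl⟩ := Finset.mem_image.1 hxS
    exact z.2
  · intro hx
    have e : (((⟨x, hx⟩ : F0) ^ q : F0) : F) = x := by rw [hq, FiniteField.pow_card]
    rwa [SubmonoidClass.coe_pow] at e

/-- A group with an unrestricted supply of transvections is too large. -/
theorem card_spGL_le (h2 : (2 : F) = 0) {Q : Subgroup (GL (Fin 4) F)}
    (hQ : ∀ g v κ, Tv (alt4 F) g v κ → g ∈ Q) : Nat.card (Cfsg.spGL 2 F) ≤ Nat.card Q := by
  have hle : Cfsg.spGL 2 F ≤ Q.comap relGL.toMonoidHom := by
    refine Classical.SpOver.spGL_le fun v c g hg => ?_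
    refine hQ _ (v ∘ rel.symm) c fun x => ?_
    show act (relGL g) x = _
    rw [act_relGL, alt4_eq h2, Function.comp_assoc, Equiv.symm_comp_self, Function.comp_id]
    funext i
    have e := congrFun (hg (x ∘ rel)) (rel.symm i)
    simpa [act, std_apply] using e
  refine Nat.card_le_card_of_injective (fun g => ⟨relGL g.1, hle g.2⟩) fun a b e => ?_
  exact Subtype.ext (relGL.injective (congrArg Subtype.val e))

/-- In a proper simple subgroup realised over no proper subfield all involutions are of type `c₂`. -/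
theorem all_nonAlt (h4 : 4 ≤ Fintype.card F) {P : Subgroup (GL (Fin 2 ⊕ Fin 2) F)}
    (h : Ctx (std F) P) (habs : ActsAbsolutelyIrreducibly (matrixSet P))
    (hns : ∀ F0 : Subfield F, F0 ≠ ⊤ → ¬ RealisableOver F0 (matrixSet P))
    (hlt : Nat.card P < Nat.card (Cfsg.spGL 2 F)) : AllNonAlt (std F) P := by
  have hno : NoTransvection (std F) P := fun t ht a κ htv => by
    by_contra ht1
    by_cases hone : OnePerCentre (std F) P
    · exact h.false_of_single hns hone h4 ht ht1 htv
    · refine (not_le.2 hlt) (Subgroup.card_le_of_le ?_)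
      exact Classical.SpOver.spGL_le fun v c g hg => h.mem_of_tv hns hone g v c fun x => hg x
  refine ⟨hno, fun t ht ht2 ht1 => ?_⟩
  by_contra hna
  have hR := h.relabel
  have htm : relGL t ∈ P.map relGL.toMonoidHom := ⟨t, ht, rfl⟩
  have ht2' : relGL t * relGL t = 1 := by rw [← map_mul, ht2, map_one]
  have hna' : ¬ NonAlt (alt4 F) (relGL t) := by
    rintro ⟨x, hx⟩
    refine hna ⟨x ∘ rel, fun e => hx ?_⟩
    rw [alt4_eq h.two, act_relGL, Function.comp_assoc, Equiv.symm_comp_self, Function.comp_id, e]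
  have hnt' : ∀ a κ, ¬ Tv (alt4 F) (relGL t) a κ := fun a κ e => ht1 (hno t ht (a ∘ rel) κ fun x => by
    have e' := e (x ∘ rel.symm)
    rw [act_relGL, alt4_eq h.two, Function.comp_assoc, Equiv.symm_comp_self, Function.comp_id] at e'
    funext i
    simpa using congrFun e' (rel i))
  obtain ⟨P', h', ⟨e⟩, ⟨s, hs, hs1, a, κ, htv⟩, htr⟩ := hR.exists_star htm ht2' hna' hnt'
  have hns' : ∀ F0 : Subfield F, F0 ≠ ⊤ → ¬ RealisableOver F0 (matrixSet P') := fun F0 hF0 hreal => by
    obtain ⟨τ, hτ⟩ := exists_frobenius F0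
    have hfix : Classical.fixedField τ = F0 := Subfield.ext fun x => Classical.mem_fixedField.trans (hτ x)
    refine hns F0 hF0 (hfix ▸ realisable_of_traces habs τ fun g hg => (hτ _).2 ?_)
    rw [← trace_relGL]
    exact htr F0 hreal _ ⟨g, hg, rfl⟩
  by_cases hone : OnePerCentre (alt4 F) P'
  · exact h'.false_of_single hns' hone h4 hs hs1 htv
  · refine (not_le.2 hlt) ((card_spGL_le h.two (h'.mem_of_tv hns' hone)).trans ?_)
    exact ((Nat.card_congr e.toEquiv).symm.trans (Nat.card_congr (relGL.subgroupMap P).toEquiv).symm).le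

end Cfsg.Agent.SpFourEven
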